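import Cfsg.Agent.Lib.TwoE6Local.CheckDefs

/-!
The letters respect the bracket.
-/

set_option autoImplicit false
set_option maxRecDepth 100000
set_option Elab.async false

namespace CfsgLib.TwoE6Local

open CfsgLib.Fi22E6

theorem br_ok0 : letterBr 0 = true := by decide +kernel

theorem br_ok1 : letterBr 1 = true := by decide +kernel

theorem br_ok2 : letterBr 2 = true := by decide +kernel

theorem br_ok3 : letterBr 3 = true := by decide +kernel

theorem br_ok4 : letterBr 4 = true := by decide +kernel

theorem br_ok5 : letterBr 5 = true := by decide +kernel

theorem br_ok6 : letterBr 6 = true := by decide +kernel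

theorem br_ok7 : letterBr 7 = true := by decide +kernel

theorem br_ok8 : letterBr 8 = true := by decide +kernel

theorem br_ok9 : letterBr 9 = true := by decide +kernel

theorem br_ok10 : letterBr 10 = true := by decide +kernel

theorem br_ok11 : letterBr 11 = true := by decide +kernel

theorem br_ok12 : letterBr 12 = true := by decide +kernel

theorem br_ok13 : letterBr 13 = true := by decide +kernel

theorem br_ok14 : letterBr 14 = true := by decide +kernel

theorem br_ok15 : letterBr 15 = true := by decide +kernel

end CfsgLib.TwoE6Local
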