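import Cfsg.Agent.Lib.Fi22E6.Cent
import Cfsg.Agent.Lib.Chev.TwistE6
import Cfsg.Agent.Lib.TwoE6Local.CheckBr

/-!
The twisted group of type E6 acting on coded vectors of its Lie algebra over the field with two elements.
-/

set_option autoImplicit false
set_option maxRecDepth 100000

namespace CfsgLib.TwoE6Local

open CfsgLib.Fi22E6 Cfsg.Lie CfsgLib.Chev Matrix

attribute [local irreducible] apT apA mulT oneT adA tabE6

theorem lin_br_right (u : ℕ) : Lin (br u) := lin_apA_right adA u

theorem lin_br_left (v : ℕ) : Lin fun u => br u v := lin_apA_left adA v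

theorem sameF_spec {f g : ℕ → ℕ} (h : sameF f g = true) (hf : Lin f) (hg : Lin g) :
    ∀ v < 2 ^ 78, f v = g v :=
  hf.ext hg fun k hk => Nat.eq_of_beq_eq_true
    (rec_all (f := fun j => Nat.beq (f (Nat.pow 2 j)) (g (Nat.pow 2 j))) h k hk)

/-- columns inside the first 78 positions -/
def Short (A : BT) : Prop := ∀ j < 78, apT A (2 ^ j) < 2 ^ 78

theorem Short.lt {A : BT} (h : Short A) : ∀ v < 2 ^ 78, apT A v < 2 ^ 78 := by
  intro v hv
  have hl : Lin fun v => apT A v % 2 ^ 78 := fun a b => by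
    show apT A (a ^^^ b) % 2 ^ 78 = _
    rw [apT_xor, Nat.xor_mod_two_pow]
  have := hl.ext (lin_apT A) (fun k hk => Nat.mod_eq_of_lt (h k hk)) v hv
  rw [← this]
  exact Nat.mod_lt _ (by positivity)

theorem apT_oneT {v : ℕ} (hv : v < 2 ^ 78) : apT oneT v = v :=
  (lin_apT oneT).ext lin_id (fun k hk => by
    unfold oneT
    exact apT_build 7 _ (hk.trans (by norm_num))) v hv

theorem apT_mulT (A : BT) (B : BT) {v : ℕ} (hv : v < 2 ^ 78) :
    apT (mulT A B) v = apT A (apT B v) :=
  (lin_apT _).ext ((lin_apT A).comp (lin_apT B)) (fun k hk => by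
    unfold mulT
    exact apT_build 7 _ (hk.trans (by norm_num))) v hv

/-- a matrix respecting the bracket -/
def BrHom (A : BT) : Prop := ∀ u < 2 ^ 78, ∀ v < 2 ^ 78, apT A (br u v) = br (apT A u) (apT A v)

variable {K : Type*} [Field K] [CharP K 2] {ω : K}

variable (ω) in
/-- a coded matrix of a group element -/
def Rep (g : GL chevE6.Idx K) (A : BT) : Prop := Acts ω g A ∧ Short A ∧ BrHom A

/-- The bracket has values inside the first 78 positions. -/
theorem br_lt {u v : ℕ} (hu : u < 2 ^ 78) (hv : v < 2 ^ 78) : br u v < 2 ^ 78 := by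
  have hcols : (Fi22E6.allN 78 fun i => Fi22E6.allN 78 fun k =>
      Nat.blt (br (Nat.pow 2 i) (Nat.pow 2 k)) (Nat.pow 2 78)) = true := by decide +kernel
  have h1 : ∀ i < 78, ∀ w < 2 ^ 78, br (2 ^ i) w % 2 ^ 78 = br (2 ^ i) w := by
    intro i hi
    have hl : Lin fun w => br (2 ^ i) w % 2 ^ 78 := fun a b => by
      show br (2 ^ i) (a ^^^ b) % 2 ^ 78 = _
      rw [lin_br_right, Nat.xor_mod_two_pow]
    exact hl.ext (lin_br_right _) fun k hk =>
      Nat.mod_eq_of_lt (Nat.blt_eq.mp (allN_spec (allN_spec hcols i hi) k hk))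
  have hl : Lin fun u => br u v % 2 ^ 78 := fun a b => by
    show br (a ^^^ b) v % 2 ^ 78 = _
    rw [show br (a ^^^ b) v = br a v ^^^ br b v from lin_br_left v a b, Nat.xor_mod_two_pow]
  rw [← hl.ext (lin_br_left v) (fun k hk => h1 k hk v hv) u hu]
  exact Nat.mod_lt _ (by positivity)

theorem rep_one : Rep ω (1 : GL chevE6.Idx K) oneT :=
  ⟨acts_one, fun j hj => by
    rw [apT_oneT (Nat.pow_lt_pow_right (by norm_num) hj)]
    exact Nat.pow_lt_pow_right (by norm_num) hj,
    fun u hu v hv => by rw [apT_oneT hu, apT_oneT hv, apT_oneT (br_lt hu hv)]⟩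

theorem Rep.mul {g h : GL chevE6.Idx K} {A B : BT} (hg : Rep ω g A) (hh : Rep ω h B) :
    Rep ω (g * h) (mulT A B) := by
  obtain ⟨ag, sg, bg⟩ := hg
  obtain ⟨ah, sh, bh⟩ := hh
  refine ⟨?_, fun j hj => ?_, fun u hu v hv => ?_⟩
  · rw [Acts] at ag ah ⊢
    rw [Units.val_mul, Matrix.mul_assoc, ah, ← Matrix.mul_assoc, ag, Matrix.mul_assoc, toM_mul A sh]
  · rw [apT_mulT A B (Nat.pow_lt_pow_right (by norm_num) hj)]
    exact sg.lt _ (sh j hj)
  · rw [apT_mulT A B (br_lt hu hv), apT_mulT A B hu, apT_mulT A B hv, bh u hu v hv,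
      bg _ (sh.lt u hu) _ (sh.lt v hv)]

/-- Two coded matrices of one element act alike. -/
theorem rep_unique (hω : ω * ω = ω + 1) {g : GL chevE6.Idx K} {A B : BT} (hA : Rep ω g A)
    (hB : Rep ω g B) : ∀ v < 2 ^ 78, apT A v = apT B v := by
  have hM : toM K A = toM K B := by
    calc toM K A = qMat ω * pMat ω * toM K A := by rw [qMat_pMat hω, Matrix.one_mul]
      _ = qMat ω * pMat ω * toM K B := by
        rw [Matrix.mul_assoc, ← hA.1, hB.1, ← Matrix.mul_assoc]
      _ = toM K B := by rw [qMat_pMat hω, Matrix.one_mul]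
  refine (lin_apT A).ext (lin_apT B) fun k hk => Nat.eq_of_testBit_eq fun i => ?_
  rcases lt_or_ge i 78 with hi | hi
  · have h := congrFun (congrFun hM ⟨i, hi⟩) ⟨k, hk⟩
    simp only [toM, bitK] at h
    cases ha : (apT A (2 ^ k)).testBit i <;> cases hb : (apT B (2 ^ k)).testBit i <;>
      simp_all
  · rw [Nat.testBit_lt_two_pow ((hA.2.1 k hk).trans_le (Nat.pow_le_pow_right (by norm_num) hi)),
      Nat.testBit_lt_two_pow ((hB.2.1 k hk).trans_le (Nat.pow_le_pow_right (by norm_num) hi))]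

theorem rep_letter (hω : ω * ω = ω + 1) {g : ℕ} (hg : g < 16) :
    Rep ω (letU ω g) (letT.getD g oneT) := by
  obtain ⟨ha, hs⟩ := acts_letter (ω := ω) hω hg
  have hs' : Short (letT.getD g oneT) := shortT_spec hs
  refine ⟨ha, hs', ?_⟩
  have h : letterBr g = true := by
    interval_cases g
    exacts [br_ok0, br_ok1, br_ok2, br_ok3, br_ok4, br_ok5, br_ok6, br_ok7, br_ok8, br_ok9, br_ok10,
      br_ok11, br_ok12, br_ok13, br_ok14, br_ok15]
  set A := letT.getD g oneT with hA
  intro u hu v hv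
  have h1 : ∀ i < 78, ∀ w < 2 ^ 78, apT A (br (2 ^ i) w) = br (apT A (2 ^ i)) (apT A w) := by
    intro i hi
    refine ((lin_apT A).comp (lin_br_right _)).ext ((lin_br_right _).comp (lin_apT A)) fun k hk => ?_
    have := allN_spec (allN_spec h i hi) k hk
    rw [strictN_eq, strictN_eq] at this
    exact Nat.eq_of_beq_eq_true this
  exact (((lin_apT A).comp (lin_br_left v)).ext ((lin_br_left (apT A v)).comp (lin_apT A))
    fun k hk => h1 k hk v hv) u hu

theorem codes [Fintype K] (hω : ω * ω = ω + 1) (hK : Nat.card K = 4) (t : K) :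
    ∃ n < 4, val ω n = t := by
  have hinj : Function.Injective fun n : Fin 4 => val ω n.val := by
    have h2 : (2 : K) = 0 := CharTwo.two_eq_zero
    have h0 : ω ≠ 0 := fun e => by rw [e] at hω; simp at hω
    have h1 : ω ≠ 1 := fun e => by
      rw [e, mul_one, CharTwo.add_self_eq_zero] at hω
      exact one_ne_zero hω
    have h3 : (1 : K) + ω ≠ 0 := fun e => h1 (CharTwo.add_eq_zero.mp e).symm
    intro a b e
    fin_cases a <;> fin_cases b <;> first | rfl | skip
    all_goals simp only [val_zero, val_one, val_two, val_three] at e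
    all_goals first
      | exact absurd e one_ne_zero | exact absurd e.symm one_ne_zero | exact absurd e h0 | exact absurd e.symm h0
      | exact absurd e h1 | exact absurd e.symm h1 | exact absurd e h3 | exact absurd e.symm h3
      | exact absurd (by linear_combination e : ω = 0) h0 | exact absurd (by linear_combination -e : ω = 0) h0
      | exact absurd (by linear_combination e : (1 : K) = 0) one_ne_zero
      | exact absurd (by linear_combination -e : (1 : K) = 0) one_ne_zero
  obtain ⟨n, hn⟩ := ((Fintype.bijective_iff_injective_and_card _).2 ⟨hinj, by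
    rw [Fintype.card_fin, ← Nat.card_eq_fintype_card, hK]⟩).2 t
  exact ⟨n.val, n.isLt, hn⟩

theorem letters_cover :
    ([e6p2, e6m2, e6p4, e6m4].all fun r => (List.range 16).any fun j => letterW.getD j [] == [(r, 1)]) = true ∧
    ([(e6p1, e6p6), (e6m1, e6m6), (e6p3, e6p5), (e6m3, e6m5)].all fun rs => ([1, 2, 3] : List ℕ).all fun t =>
      (List.range 16).any fun j => letterW.getD j [] == [(rs.1, t), (rs.2, Fi22E6.mul4 t t)]) = true := by
  constructor <;> decide +kernel

theorem exists_rep [Fintype K] (hω : ω * ω = ω + 1) (hK : Nat.card K = 4) {g : GL chevE6.Idx K}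
    (hg : g ∈ twistedE6 K 2) : ∃ A, Rep ω g A := by
  haveI : Finite (GL chevE6.Idx K) := inferInstance
  let S : Submonoid (GL chevE6.Idx K) :=
    { carrier := {g | ∃ A, Rep ω g A}
      one_mem' := ⟨_, rep_one⟩
      mul_mem' := fun ⟨_, ha⟩ ⟨_, hb⟩ => ⟨_, ha.mul hb⟩ }
  let T : Subgroup (GL chevE6.Idx K) :=
    { S with
      inv_mem' := fun {x} hx => by
        have hn : 0 < orderOf x := orderOf_pos x
        have : x⁻¹ = x ^ (orderOf x - 1) := inv_eq_of_mul_eq_one_right (by
          rw [← pow_succ', Nat.sub_add_cancel hn, pow_orderOf_eq_one])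
        rw [this]
        exact S.pow_mem hx _ }
  suffices h : twistedE6 K 2 ≤ T from h hg
  have hlet : ∀ j < 16, letU ω j ∈ T := fun j hj => ⟨_, rep_letter hω hj⟩
  have hz : ∀ r, r < tabE6.n → X chevE6 r (0 : K) = 1 := fun r hr => certE6.X_zero hr
  refine certE6.genSubgroup_le ?_
  rintro w (⟨t, ht, r, hr, rfl⟩ | ⟨t, rs, hrs, rfl⟩)
  · have hlt : r < tabE6.n := by revert hr; revert r; decide +kernel
    simp only [List.map_cons, List.map_nil, List.prod_cons, List.prod_nil, mul_one]
    rcases eq_or_ne t 0 with rfl | ht0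
    · rw [hz r hlt]; exact one_mem T
    · have ht1 : t = 1 := by
        have h2 : t * (t - 1) = 0 := by linear_combination ht
        exact sub_eq_zero.1 ((mul_eq_zero.1 h2).resolve_left ht0)
      obtain ⟨j, hj, hw⟩ := List.any_eq_true.1 (List.all_eq_true.1 letters_cover.1 r hr)
      have := hlet j (List.mem_range.1 hj)
      rw [letU, eq_of_beq hw] at this
      simpa [unitW, val_one, ht1] using this
  · have hlt : rs.1 < tabE6.n ∧ rs.2 < tabE6.n := by revert hrs; revert rs; decide +kernel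
    rw [chevE6_prod_pair]
    obtain ⟨n, hn, rfl⟩ := codes hω hK t
    rcases eq_or_ne n 0 with rfl | hn0
    · rw [val_zero, zero_pow two_ne_zero, hz _ hlt.1, hz _ hlt.2, mul_one]; exact one_mem T
    · have hmem : n ∈ ([1, 2, 3] : List ℕ) := by simp; omega
      obtain ⟨j, hj, hw⟩ := List.any_eq_true.1
        (List.all_eq_true.1 (List.all_eq_true.1 letters_cover.2 rs hrs) n hmem)
      have := hlet j (List.mem_range.1 hj)
      rw [letU, eq_of_beq hw] at this
      simpa [unitW, val_mul hω hn hn, pow_two] using this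

/-- The action on coded vectors. -/
noncomputable def act [Fintype K] (hω : ω * ω = ω + 1) (hK : Nat.card K = 4)
    (g : twistedE6 K 2) (v : ℕ) : ℕ := apT (exists_rep hω hK g.2).choose v

section Laws

variable [Fintype K] (hω : ω * ω = ω + 1) (hK : Nat.card K = 4)

set_option quotPrecheck false in
local notation "𝔾" => ↥(twistedE6 K 2)

theorem act_rep (g : 𝔾) : Rep ω g.1 (exists_rep hω hK g.2).choose := (exists_rep hω hK g.2).choose_spec

theorem lin_act (g : 𝔾) : Lin (act hω hK g) := lin_apT _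

theorem act_eq {g : 𝔾} {A : BT} (h : Rep ω g.1 A) {v : ℕ} (hv : v < 2 ^ 78) : act hω hK g v = apT A v :=
  rep_unique hω (act_rep hω hK g) h v hv

theorem act_lt (g : 𝔾) {v : ℕ} (hv : v < 2 ^ 78) : act hω hK g v < 2 ^ 78 := (act_rep hω hK g).2.1.lt v hv

theorem act_one {v : ℕ} (hv : v < 2 ^ 78) : act hω hK (1 : 𝔾) v = v :=
  (act_eq hω hK (g := 1) rep_one hv).trans (apT_oneT hv)

theorem act_mul (g h : 𝔾) {v : ℕ} (hv : v < 2 ^ 78) :
    act hω hK (g * h) v = act hω hK g (act hω hK h v) :=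
  (act_eq hω hK (g := g * h) ((act_rep hω hK g).mul (act_rep hω hK h)) hv).trans (apT_mulT _ _ hv)

theorem act_br (g : 𝔾) {u v : ℕ} (hu : u < 2 ^ 78) (hv : v < 2 ^ 78) :
    act hω hK g (br u v) = br (act hω hK g u) (act hω hK g v) := (act_rep hω hK g).2.2 u hu v hv

theorem act_inv (g : 𝔾) {v : ℕ} (hv : v < 2 ^ 78) : act hω hK g⁻¹ (act hω hK g v) = v := by
  rw [← act_mul hω hK _ _ hv, inv_mul_cancel, act_one hω hK hv]

theorem act_inv' (g : 𝔾) {v : ℕ} (hv : v < 2 ^ 78) : act hω hK g (act hω hK g⁻¹ v) = v := by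
  rw [← act_mul hω hK _ _ hv, mul_inv_cancel, act_one hω hK hv]

/-- a word in the letters as a group element -/
noncomputable def wordG (hω : ω * ω = ω + 1) (w : List ℕ) (hw : (w.all fun g => Nat.blt g 16) = true) : 𝔾 :=
  ⟨(w.map (letU ω)).prod, list_prod_mem fun x hx => by
    obtain ⟨g, hg, rfl⟩ := List.mem_map.1 hx
    exact letU_mem hω (Nat.blt_eq.mp (List.all_eq_true.1 hw g hg))⟩

theorem act_wordG : ∀ (w : List ℕ) (hw : (w.all fun g => Nat.blt g 16) = true) {v : ℕ}, v < 2 ^ 78 →
    act hω hK (wordG hω w hw) v = apW w v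
  | [], hw, v, hv => by
    rw [show wordG hω [] hw = (1 : 𝔾) from Subtype.ext (by simp [wordG]), act_one hω hK hv]
    rfl
  | x :: w, hw, v, hv => by
    have hw' := hw
    rw [List.all_cons, Bool.and_eq_true] at hw'
    have hx : x < 16 := Nat.blt_eq.mp hw'.1
    have e : wordG hω (x :: w) hw = (⟨letU ω x, letU_mem hω hx⟩ : 𝔾) * wordG hω w hw'.2 :=
      Subtype.ext (by simp [wordG])
    rw [e, act_mul hω hK _ _ hv, act_wordG w hw'.2 hv,
      act_eq hω hK (g := ⟨letU ω x, _⟩) (rep_letter hω hx) (by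
        rw [← act_wordG w hw'.2 hv]; exact act_lt hω hK _ hv)]
    rfl

end Laws

end CfsgLib.TwoE6Local
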