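import Cfsg.Agent.Lib.Fi22E6.CheckDefs
import Cfsg.Agent.Lib.TwoE6Local.Data

/-!
The finite checks for the local subgroups of the twisted group of type E6.
-/

set_option autoImplicit false

namespace CfsgLib.TwoE6Local

open CfsgLib.Fi22E6

/-- a map given by its columns below 78 agrees with another -/
noncomputable def sameF (f g : ℕ → ℕ) : Bool :=
  Nat.rec (motive := fun _ => Bool) true (fun j r => Nat.beq (f (Nat.pow 2 j)) (g (Nat.pow 2 j)) && r) 78

/-- letters applied to a vector, first letter last -/
noncomputable def apW (w : List ℕ) (v : ℕ) : ℕ := w.foldr (fun g u => apT (letT.getD g oneT) u) v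

/-- iterates -/
noncomputable def itT (X : BT) (n v : ℕ) : ℕ :=
  Nat.rec (motive := fun _ => ℕ) v (fun _ u => apT X u) n

/-- the bracket -/
noncomputable def br (u v : ℕ) : ℕ := apA adA u v

/-- one letter respects the bracket -/
noncomputable def letterBr (g : ℕ) : Bool :=
  allN 78 fun i => allN 78 fun k =>
    strictN (apT (letT.getD g oneT) (Nat.pow 2 i)) fun a => strictN (apT (letT.getD g oneT) (Nat.pow 2 k)) fun b =>
      Nat.beq (apT (letT.getD g oneT) (br (Nat.pow 2 i) (Nat.pow 2 k))) (br a b)

/-- an element: its word and matrix, of order `p` -/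
noncomputable def elemOK (w : List ℕ) (X : BT) (p : ℕ) : Bool :=
  w.all (fun g => Nat.blt g 16) && (sameF (apW w) (apT X) && sameF (itT X p) (fun v => v) &&
    !sameF (apT X) (fun v => v))

/-- a word with its matrix -/
noncomputable def wordTOK (w : List ℕ) (X : BT) : Bool :=
  w.all (fun g => Nat.blt g 16) && sameF (apW w) (apT X)

/-- vectors inside the first 78 positions killed by all the maps -/
noncomputable def killOK (fs : List (ℕ → ℕ)) (B : List (ℕ × ℕ)) : Bool :=
  B.all fun p => fs.all fun f => Nat.beq (f p.2) 0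

/-- the maps fixing by a matrix -/
noncomputable def fixF (X : BT) (v : ℕ) : ℕ := Nat.xor (apT X v) v

/-- a fixed space -/
noncomputable def fixOK (X E : BT) (B : List (ℕ × ℕ)) : Bool :=
  basisOK B && (kerOK [(fixF X, E)] B && killOK [fixF X] B)

/-- centraliser of brackets of a fixed space -/
noncomputable def cdOK (F : List (ℕ × ℕ)) (M : List (ℕ × ℕ × BT)) (B : List (ℕ × ℕ)) : Bool :=
  (M.all fun q => Nat.beq (red F q.1) 0 && (Nat.beq (red F q.2.1) 0 && (Nat.blt q.1 (Nat.pow 2 78) && Nat.blt q.2.1 (Nat.pow 2 78)))) &&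
    (basisOK B && (kerOK (M.map fun q => (fun u => br u (br q.1 q.2.1), q.2.2)) B &&
      F.all fun a => F.all fun b => strictN (br a.2 b.2) fun c => B.all fun u => Nat.beq (br u.2 c) 0))

/-- the twisted radical sum -/
noncomputable def radV (X Y : BT) (f : ℕ → ℕ) (n : ℕ) : ℕ → ℕ :=
  Nat.rec (motive := fun _ => ℕ → ℕ) (fun _ => 0)
    (fun _ r v => strictN v fun v => strictN (r (apT Y v)) fun w => Nat.xor (f v) (apT X w)) n

/-- the matrix of a bracket with a vector -/
noncomputable def adK (u : ℕ) (k : BT → Bool) : Bool := buildK 7 (fun j => br u (Nat.pow 2 j)) k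

/-- a twisted radical -/
noncomputable def radOK (X Y : BT) (p m : ℕ) (M : List (ℕ × BT)) (B : List (ℕ × ℕ)) : Bool :=
  sameF (apT Y) (itT X m) && (M.all (fun q => Nat.blt q.1 78) && (basisOK B &&
    kerOK (M.map fun q => (fun u => radV X Y (br u) p (Nat.xor (Nat.pow 2 q.1) (apT X (Nat.pow 2 q.1))), q.2)) B))

/-- some vectors of a span lie in a twisted radical -/
noncomputable def radKillOK (X Y : BT) (p : ℕ) (B : List (ℕ × ℕ)) : Bool :=
  B.all fun u => adK u.2 fun A => allN 78 fun k =>
    Nat.beq (radV X Y (apT A) p (Nat.xor (Nat.pow 2 k) (apT X (Nat.pow 2 k)))) 0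

/-- a centraliser of a span -/
noncomputable def centOK (Q : List (ℕ × ℕ)) (M : List (ℕ × BT)) (B : List (ℕ × ℕ)) : Bool :=
  (M.all fun q => Nat.beq (red Q q.1) 0 && Nat.blt q.1 (Nat.pow 2 78)) && (basisOK B &&
    (kerOK (M.map fun q => (fun u => br u q.1, q.2)) B &&
      B.all fun u => Q.all fun q => Nat.beq (br u.2 q.2) 0))

/-- some column differs -/
noncomputable def differs (f g : ℕ → ℕ) : Bool := !sameF f g

/-- an element preserving a span outside a normaliser, and a letter moving the span -/
noncomputable def sideOK (B : List (ℕ × ℕ)) (w : List ℕ) (T : BT) (mv : ℕ × ℕ) (gs : List BT)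
    (wit : ℕ × ℕ) (rs : List (ℕ → ℕ)) : Bool :=
  wordTOK w T && ((B.all fun u => Nat.beq (red B (apT T u.2)) 0) &&
    (Nat.blt mv.1 16 && (Nat.blt mv.2 (Nat.pow 2 78) && (Nat.beq (red B mv.2) 0 &&
      (!Nat.beq (red B (apT (letT.getD mv.1 oneT) mv.2)) 0 && (Nat.blt wit.2 78 &&
        strictN (apT T (Nat.pow 2 wit.2)) fun bk => strictN (apT T (apT (gs.getD wit.1 oneT) (Nat.pow 2 wit.2))) fun t =>
          rs.all fun r => !Nat.beq (r bk) t))))))

/-- powers of a matrix -/
noncomputable def powsF (X : BT) (p : ℕ) : List (ℕ → ℕ) := (List.range p).map fun j => itT X j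

/-- the elements of the Sylow subgroup for seven -/
noncomputable def squareF : List (ℕ → ℕ) :=
  (List.range 7).flatMap fun i => (List.range 7).map fun j => fun v => itT x7T i (itT y7T j v)

/-- the lines of the Sylow subgroup for seven -/
noncomputable def lineOK : Bool :=
  sameF (apT (lineT.getD 0 oneT)) (apT y7T) &&
    (allN 7 fun k => sameF (apT (lineT.getD (k + 1) oneT)) fun v => apT x7T (itT y7T k v)) &&
    sameF (fun v => apT x7T (apT y7T v)) (fun v => apT y7T (apT x7T v))

/-- the second generator is not a power of the first -/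
noncomputable def indepOK : Bool := allN 7 fun i => differs (itT x7T i) (apT y7T)

/-- the line invariant: the common part of four of the line spaces -/
noncomputable def wpOK (Bs : List (List (ℕ × ℕ))) (As : List ℕ) : Bool :=
  (pMaps.all fun q => As.any fun a => Nat.beq a q.1) && (basisOK pB &&
    (kerOK (pMaps.map fun q => (red (Bs.getD q.1 []), q.2)) pB &&
      As.all fun a => pB.all fun u => Nat.beq (red (Bs.getD a []) u.2) 0))

end CfsgLib.TwoE6Local
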