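import Cfsg.Agent.Lib.TwoE6Local.CheckDefs

/-!
Elements, fixed spaces and their centralisers.
-/

set_option autoImplicit false
set_option maxRecDepth 100000
set_option Elab.async false

namespace CfsgLib.TwoE6Local

open CfsgLib.Fi22E6

theorem elem7_ok : elemOK x7W x7T 7 = true := by decide +kernel

theorem elem11_ok : elemOK x11W x11T 11 = true := by decide +kernel

theorem elem13_ok : elemOK x13W x13T 13 = true := by decide +kernel

theorem elem17_ok : elemOK x17W x17T 17 = true := by decide +kernel

theorem elem19_ok : elemOK x19W x19T 19 = true := by decide +kernel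

theorem elemY_ok : elemOK y7W y7T 7 = true := by decide +kernel

theorem line_ok : lineOK = true := by decide +kernel

theorem indep_ok : indepOK = true := by decide +kernel

theorem fix11_ok : fixOK x11T cd11FixE0 cd11FixB = true := by decide +kernel

theorem cd11_ok : cdOK cd11FixB cd11Maps cd11B = true := by decide +kernel

theorem fix7_ok0 : fixOK (lineT.getD 0 oneT) cd7_0FixE0 cd7_0FixB = true := by decide +kernel

theorem cd7_ok0 : cdOK cd7_0FixB cd7_0Maps cd7_0B = true := by decide +kernel

theorem fix7_ok1 : fixOK (lineT.getD 1 oneT) cd7_1FixE0 cd7_1FixB = true := by decide +kernel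

theorem cd7_ok1 : cdOK cd7_1FixB cd7_1Maps cd7_1B = true := by decide +kernel

theorem fix7_ok2 : fixOK (lineT.getD 2 oneT) cd7_2FixE0 cd7_2FixB = true := by decide +kernel

theorem cd7_ok2 : cdOK cd7_2FixB cd7_2Maps cd7_2B = true := by decide +kernel

theorem fix7_ok3 : fixOK (lineT.getD 3 oneT) cd7_3FixE0 cd7_3FixB = true := by decide +kernel

theorem cd7_ok3 : cdOK cd7_3FixB cd7_3Maps cd7_3B = true := by decide +kernel

theorem fix7_ok4 : fixOK (lineT.getD 4 oneT) cd7_4FixE0 cd7_4FixB = true := by decide +kernel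

theorem cd7_ok4 : cdOK cd7_4FixB cd7_4Maps cd7_4B = true := by decide +kernel

theorem fix7_ok5 : fixOK (lineT.getD 5 oneT) cd7_5FixE0 cd7_5FixB = true := by decide +kernel

theorem cd7_ok5 : cdOK cd7_5FixB cd7_5Maps cd7_5B = true := by decide +kernel

theorem fix7_ok6 : fixOK (lineT.getD 6 oneT) cd7_6FixE0 cd7_6FixB = true := by decide +kernel

theorem cd7_ok6 : cdOK cd7_6FixB cd7_6Maps cd7_6B = true := by decide +kernel

theorem fix7_ok7 : fixOK (lineT.getD 7 oneT) cd7_7FixE0 cd7_7FixB = true := by decide +kernel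

theorem cd7_ok7 : cdOK cd7_7FixB cd7_7Maps cd7_7B = true := by decide +kernel

theorem wp_ok : wpOK [cd7_0B, cd7_1B, cd7_2B, cd7_3B, cd7_4B, cd7_5B, cd7_6B, cd7_7B] [1, 4, 6, 7] = true := by decide +kernel

end CfsgLib.TwoE6Local
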