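import Cfsg.Agent.Lib.TwoE6Local.CheckDefs

/-!
A twisted radical.
-/

set_option autoImplicit false
set_option maxRecDepth 100000
set_option Elab.async false

namespace CfsgLib.TwoE6Local

open CfsgLib.Fi22E6

theorem rad19_ok : radOK x19T rad19Y 19 4 rad19Maps rad19B = true := by decide +kernel

theorem rad19_kill0 : radKillOK x19T rad19Y 19 ((rad19B.drop 0).take 3) = true := by decide +kernel

theorem rad19_kill1 : radKillOK x19T rad19Y 19 ((rad19B.drop 3).take 3) = true := by decide +kernel

theorem rad19_kill2 : radKillOK x19T rad19Y 19 ((rad19B.drop 6).take 3) = true := by decide +kernel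

theorem rad19_kill3 : radKillOK x19T rad19Y 19 ((rad19B.drop 9).take 3) = true := by decide +kernel

end CfsgLib.TwoE6Local
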