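import Cfsg.Agent.Lib.TwoE6Local.CheckDefs

/-!
Elements outside the normalisers.
-/

set_option autoImplicit false
set_option maxRecDepth 100000
set_option Elab.async false

namespace CfsgLib.TwoE6Local

open CfsgLib.Fi22E6

theorem side11_ok : sideOK cd11B s11W s11T s11Move [x11T] s11Wit (powsF x11T 11) = true := by decide +kernel

theorem side13_ok : sideOK cent13B s13W s13T s13Move [x13T] s13Wit (powsF x13T 13) = true := by decide +kernel

theorem side17_ok : sideOK cent17B s17W s17T s17Move [x17T] s17Wit (powsF x17T 17) = true := by decide +kernel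

theorem side19_ok : sideOK rad19B s19W s19T s19Move [x19T] s19Wit (powsF x19T 19) = true := by decide +kernel

theorem side7_ok0 : sideOK cd7_0B s7_0W s7_0T s7_0Move [lineT.getD 0 oneT] s7_0Wit (powsF (lineT.getD 0 oneT) 7) = true := by decide +kernel

theorem side7_ok1 : sideOK cd7_1B s7_1W s7_1T s7_1Move [lineT.getD 1 oneT] s7_1Wit (powsF (lineT.getD 1 oneT) 7) = true := by decide +kernel

theorem side7_ok2 : sideOK cd7_2B s7_2W s7_2T s7_2Move [lineT.getD 2 oneT] s7_2Wit (powsF (lineT.getD 2 oneT) 7) = true := by decide +kernel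

theorem side7_ok3 : sideOK cd7_3B s7_3W s7_3T s7_3Move [lineT.getD 3 oneT] s7_3Wit (powsF (lineT.getD 3 oneT) 7) = true := by decide +kernel

theorem side7_ok4 : sideOK cd7_4B s7_4W s7_4T s7_4Move [lineT.getD 4 oneT] s7_4Wit (powsF (lineT.getD 4 oneT) 7) = true := by decide +kernel

theorem side7_ok5 : sideOK cd7_5B s7_5W s7_5T s7_5Move [lineT.getD 5 oneT] s7_5Wit (powsF (lineT.getD 5 oneT) 7) = true := by decide +kernel

theorem side7_ok6 : sideOK cd7_6B s7_6W s7_6T s7_6Move [lineT.getD 6 oneT] s7_6Wit (powsF (lineT.getD 6 oneT) 7) = true := by decide +kernel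

theorem side7_ok7 : sideOK cd7_7B s7_7W s7_7T s7_7Move [lineT.getD 7 oneT] s7_7Wit (powsF (lineT.getD 7 oneT) 7) = true := by decide +kernel

theorem side7P_ok : sideOK pB s7PW s7PT s7PMove [x7T, y7T] s7PWit squareF = true := by decide +kernel

end CfsgLib.TwoE6Local
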