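import Cfsg.Agent.Lib.TwoE6Local.Vec

/-!
The Lie bracket on the rational basis of type twisted E6 over the field with two elements.
-/

set_option autoImplicit false
set_option linter.all false
set_option maxRecDepth 100000

namespace CfsgLib.TwoE6Local

open CfsgLib.Fi22E6

/-- bracket with a basis vector -/
def adT0 : BT := (.node 64 (.node 32 (zeroT 5) (.node 16 (zeroT 4) (.node 8 (.node 4 (.node 2 (zeroT 1) (.node 1 (.leaf 0x2) (.leaf 0x4))) (.node 2 (.node 1 (.leaf 0x8) (.leaf 0x10)) (.node 1 (.leaf 0x20) (.leaf 0x40)))) (.node 4 (.node 2 (.node 1 (.leaf 0x80) (.leaf 0x100)) (.node 1 (.leaf 0x200) (.leaf 0x400))) (.node 2 (.node 1 (.leaf 0x800) (.leaf 0x1000)) (.node 1 (.leaf 0x2000) (.leaf 0x4000))))))) (.node 32 (.node 16 (.node 8 (.node 4 (.node 2 (.node 1 (zeroT 0) (.leaf 0x1000000)) (.node 1 (.leaf 0x2000000) (.leaf 0x4000000))) (.node 2 (.node 1 (.leaf 0x8000000) (.leaf 0x10000000)) (.node 1 (.leaf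 0x20000000) (.leaf 0x21000000000000000000)))) (.node 4 (.node 2 (zeroT 1) (.node 1 (.leaf 0x1) (zeroT 0))) (zeroT 2))) (zeroT 4)) (zeroT 5)))

/-- bracket with a basis vector -/
def adT1 : BT := (.node 64 (.node 32 (.node 16 (zeroT 4) (.node 8 (zeroT 3) (.node 4 (zeroT 2) (.node 2 (.node 1 (zeroT 0) (.leaf 0x1)) (zeroT 1))))) (.node 16 (.node 8 (zeroT 3) (.node 4 (.node 2 (zeroT 1) (.node 1 (.leaf 0x4) (.leaf 0x8))) (.node 2 (.node 1 (.leaf 0x10) (.leaf 0x20)) (.node 1 (.leaf 0x40) (.leaf 0x80))))) (.node 8 (.node 4 (.node 2 (.node 1 (.leaf 0x100) (.leaf 0x200)) (zeroT 1)) (zeroT 2)) (.node 4 (.node 2 (zeroT 1) (.node 1 (zeroT 0) (.leaf 0x8000))) (.node 2 (.node 1 (.leaf 0x10000) (.leaf 0x20000)) (.node 1 (.leaf 0x40000) (.leaf 0x80000))))))) (.node 32 (.node 16 (.node 8 (.node 4 (.node 2 (.node 1 (.leaf 0x1000000) (zeroT 0)) (.node 1 (.leaf 0x40000000) (.leaf 0x80000000))) (.node 2 (.node 1 (.leaf 0x100000000)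 (.leaf 0x800000000)) (.node 1 (.leaf 0x25000000000000000000) (.leaf 0x4000000000000)))) (.node 4 (.node 2 (zeroT 1) (.node 1 (.leaf 0x2) (zeroT 0))) (.node 2 (.node 1 (zeroT 0) (.leaf 0x2)) (zeroT 1)))) (zeroT 4)) (zeroT 5)))

/-- bracket with a basis vector -/
def adT2 : BT := (.node 64 (.node 32 (.node 16 (zeroT 4) (.node 8 (zeroT 3) (.node 4 (zeroT 2) (.node 2 (.node 1 (.leaf 0x1) (zeroT 0)) (zeroT 1))))) (.node 16 (.node 8 (.node 4 (.node 2 (zeroT 1) (.node 1 (zeroT 0) (.leaf 0x2))) (.node 2 (zeroT 1) (.node 1 (.leaf 0x8) (.leaf 0x10)))) (.node 4 (.node 2 (.node 1 (.leaf 0x20) (.leaf 0x40)) (zeroT 1)) (.node 2 (zeroT 1) (.node 1 (zeroT 0) (.leaf 0x400))))) (.node 8 (.node 4 (.node 2 (.node 1 (.leaf 0x800) (.leaf 0x1000)) (zeroT 1)) (zeroT 2)) (.node 4 (.node 2 (.node 1 (.leaf 0x8000) (.leaf 0x10000)) (.node 1 (.leaf 0x20000) (zeroT 0))) (.node 2 (zeroT 1) (.node 1 (.leaf 0x100000) (.leaf 0x200000)))))))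 (.node 32 (.node 16 (.node 8 (.node 4 (.node 2 (.node 1 (.leaf 0x2000000) (.leaf 0x40000000)) (.node 1 (zeroT 0) (.leaf 0x200000000))) (.node 2 (.node 1 (.leaf 0x400000000) (.leaf 0x5000000000000000000)) (.node 1 (.leaf 0x40000000000) (.leaf 0x8000000000000)))) (.node 4 (zeroT 2) (.node 2 (.node 1 (.leaf 0x4) (.leaf 0x4)) (zeroT 1)))) (zeroT 4)) (zeroT 5)))

/-- bracket with a basis vector -/
def adT3 : BT := (.node 64 (.node 32 (.node 16 (zeroT 4) (.node 8 (zeroT 3) (.node 4 (.node 2 (zeroT 1) (.node 1 (zeroT 0) (.leaf 0x1))) (zeroT 2)))) (.node 16 (.node 8 (.node 4 (.node 2 (.node 1 (.leaf 0x2) (zeroT 0)) (.node 1 (.leaf 0x4) (zeroT 0))) (.node 2 (.node 1 (.leaf 0x20) (.leaf 0x40)) (.node 1 (zeroT 0) (.leaf 0x80)))) (.node 4 (.node 2 (.node 1 (.leaf 0x100) (.leaf 0x200)) (zeroT 1)) (.node 2 (.node 1 (.leaf 0x400) (.leaf 0x800)) (.node 1 (.leaf 0x1000) (zeroT 0))))) (.node 8 (.node 4 (.node 2 (.node 1 (.leaf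 0x2000) (.leaf 0x4000)) (zeroT 1)) (.node 2 (.node 1 (zeroT 0) (.leaf 0x8000)) (.node 1 (.leaf 0x10000) (.leaf 0x20000)))) (.node 4 (.node 2 (.node 1 (zeroT 0) (.leaf 0x40000)) (.node 1 (.leaf 0x80000) (zeroT 0))) (.node 2 (.node 1 (.leaf 0x100000) (.leaf 0x200000)) (.node 1 (.leaf 0x400000) (.leaf 0x800000))))))) (.node 32 (.node 16 (.node 8 (.node 4 (.node 2 (.node 1 (.leaf 0x4000000) (.leaf 0x80000000)) (.node 1 (.leaf 0x200000000) (.leaf 0x8000000000000000000))) (.node 2 (.node 1 (.leaf 0x15000000000000000000) (.leaf 0x4000000000)) (.node 1 (.leaf 0x80000000000) (.leaf 0x10000000000000)))) (.node 4 (.node 2 (.node 1 (.leaf 0x8) (.leaf 0x18)) (zeroT 1)) (.node 2 (.node 1 (.leaf 0x8) (zeroT 0)) (zeroT 1)))) (zeroT 4)) (zeroT 5)))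

/-- bracket with a basis vector -/
def adT4 : BT := (.node 64 (.node 32 (.node 16 (zeroT 4) (.node 8 (zeroT 3) (.node 4 (.node 2 (zeroT 1) (.node 1 (.leaf 0x1) (zeroT 0))) (.node 2 (zeroT 1) (.node 1 (zeroT 0) (.leaf 0x2)))))) (.node 16 (.node 8 (.node 4 (.node 2 (.node 1 (zeroT 0) (.leaf 0x4)) (zeroT 1)) (.node 2 (.node 1 (.leaf 0x40) (.leaf 0x60)) (.node 1 (.leaf 0x80) (zeroT 0)))) (.node 4 (.node 2 (.node 1 (.leaf 0x300) (.leaf 0x100)) (.node 1 (zeroT 0) (.leaf 0x400))) (.node 2 (.node 1 (zeroT 0) (.leaf 0x1800)) (.node 1 (.leaf 0x800) (zeroT 0))))) (.node 8 (.node 4 (.node 2 (.node 1 (.leaf 0x4000) (.leaf 0x6000)) (zeroT 1)) (.node 2 (.node 1 (.leaf 0x8000) (zeroT 0)) (.node 1 (.leaf 0x30000) (.leaf 0x10000)))) (.node 4 (.node 2 (.node 1 (zeroT 0) (.leaf 0x80000)) (.node 1 (.leaf 0xc0000) (zeroT 0))) (.node 2 (.node 1 (.leaf 0x200000) (.leaf 0x300000)) (.node 1 (.leaf 0xc00000) (.leaf 0x400000))))))) (.node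 32 (.node 16 (.node 8 (.node 4 (.node 2 (.node 1 (.leaf 0x8000000) (.leaf 0x100000000)) (.node 1 (.leaf 0x400000000) (.leaf 0x1d000000000000000000))) (.node 2 (.node 1 (.leaf 0x8000000000000000000) (.leaf 0x8000000000)) (.node 1 (.leaf 0x100000000000) (.leaf 0x20000000000000)))) (.node 4 (.node 2 (.node 1 (.leaf 0x10) (.leaf 0x8)) (zeroT 1)) (.node 2 (.node 1 (.leaf 0x10) (zeroT 0)) (zeroT 1)))) (zeroT 4)) (zeroT 5)))

/-- bracket with a basis vector -/
def adT5 : BT := (.node 64 (.node 32 (.node 16 (.node 8 (zeroT 3) (.node 4 (zeroT 2) (.node 2 (zeroT 1) (.node 1 (.leaf 0x1) (zeroT 0))))) (.node 8 (.node 4 (.node 2 (zeroT 1) (.node 1 (zeroT 0) (.leaf 0x2))) (.node 2 (.node 1 (zeroT 0) (.leaf 0x4)) (.node 1 (.leaf 0x8) (.leaf 0x18)))) (zeroT 3))) (.node 16 (.node 8 (.node 4 (zeroT 2) (.node 2 (zeroT 1) (.node 1 (.leaf 0x100) (.leaf 0x300)))) (.node 4 (.node 2 (.node 1 (zeroT 0) (.leaf 0x1000000)) (.node 1 (zeroT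 0) (.leaf 0x800))) (.node 2 (.node 1 (.leaf 0x1800) (zeroT 0)) (.node 1 (.leaf 0x2000000) (.leaf 0x2000))))) (.node 8 (.node 4 (.node 2 (.node 1 (.leaf 0x4000000) (.leaf 0xc000000)) (zeroT 1)) (.node 2 (.node 1 (.leaf 0x10000) (.leaf 0x30000)) (.node 1 (zeroT 0) (.leaf 0x40000000)))) (.node 4 (.node 2 (.node 1 (.leaf 0x40000) (.leaf 0x80000000)) (.node 1 (.leaf 0x180000000) (.leaf 0x100000))) (.node 2 (.node 1 (.leaf 0x200000000) (.leaf 0x600000000)) (.node 1 (.leaf 0x9000000000000000000) (.leaf 0x17000000000000000000))))))) (.node 32 (.node 16 (.node 8 (.node 4 (.node 2 (zeroT 1) (.node 1 (zeroT 0) (.leaf 0x1000000000))) (.node 2 (.node 1 (.leaf 0x3000000000) (.leaf 0x10000000000)) (.node 1 (.leaf 0x200000000000) (.leaf 0x40000000000000)))) (.node 4 (.node 2 (.node 1 (.leaf 0x20) (.leaf 0x60)) (.node 1 (zeroT 0) (.leaf 0x20))) (.node 2 (.node 1 (.leaf 0x40) (zeroT 0)) (zeroT 1)))) (zeroT 4)) (zeroT 5)))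

/-- bracket with a basis vector -/
def adT6 : BT := (.node 64 (.node 32 (.node 16 (.node 8 (zeroT 3) (.node 4 (zeroT 2) (.node 2 (.node 1 (zeroT 0) (.leaf 0x1)) (zeroT 1)))) (.node 8 (.node 4 (.node 2 (zeroT 1) (.node 1 (.leaf 0x2) (zeroT 0))) (.node 2 (.node 1 (.leaf 0x4) (zeroT 0)) (.node 1 (.leaf 0x10) (.leaf 0x8)))) (zeroT 3))) (.node 16 (.node 8 (.node 4 (zeroT 2) (.node 2 (zeroT 1) (.node 1 (.leaf 0x200) (.leaf 0x100)))) (.node 4 (.node 2 (.node 1 (.leaf 0x1000000) (zeroT 0)) (.node 1 (zeroT 0) (.leaf 0x1000))) (.node 2 (.node 1 (.leaf 0x800) (.leaf 0x2000000)) (.node 1 (zeroT 0) (.leaf 0x4000))))) (.node 8 (.node 4 (.node 2 (.node 1 (.leaf 0x8000000) (.leaf 0x4000000)) (zeroT 1)) (.node 2 (.node 1 (.leaf 0x20000) (.leaf 0x10000)) (.node 1 (.leaf 0x40000000) (zeroT 0)))) (.node 4 (.node 2 (.node 1 (.leaf 0x80000) (.leaf 0x100000000)) (.node 1 (.leaf 0x80000000) (.leaf 0x200000))) (.node 2 (.node 1 (.leaf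 0x400000000) (.leaf 0x200000000)) (.node 1 (.leaf 0x1e000000000000000000) (.leaf 0x9000000000000000000))))))) (.node 32 (.node 16 (.node 8 (.node 4 (.node 2 (zeroT 1) (.node 1 (zeroT 0) (.leaf 0x2000000000))) (.node 2 (.node 1 (.leaf 0x1000000000) (.leaf 0x20000000000)) (.node 1 (.leaf 0x400000000000) (.leaf 0x80000000000000)))) (.node 4 (.node 2 (.node 1 (.leaf 0x40) (.leaf 0x20)) (.node 1 (zeroT 0) (.leaf 0x40))) (.node 2 (.node 1 (.leaf 0x60) (zeroT 0)) (zeroT 1)))) (zeroT 4)) (zeroT 5)))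

/-- bracket with a basis vector -/
def adT7 : BT := (.node 64 (.node 32 (.node 16 (zeroT 4) (.node 8 (zeroT 3) (.node 4 (.node 2 (.node 1 (zeroT 0) (.leaf 0x1)) (zeroT 1)) (.node 2 (zeroT 1) (.node 1 (.leaf 0x2) (zeroT 0)))))) (.node 16 (.node 8 (.node 4 (.node 2 (.node 1 (zeroT 0) (.leaf 0x8)) (.node 1 (.leaf 0x10) (zeroT 0))) (.node 2 (.node 1 (.leaf 0x100) (.leaf 0x200)) (zeroT 1))) (.node 4 (.node 2 (zeroT 1) (.node 1 (.leaf 0x400) (zeroT 0))) (.node 2 (.node 1 (zeroT 0) (.leaf 0x2000)) (.node 1 (.leaf 0x4000) (zeroT 0))))) (.node 8 (.node 4 (.node 2 (zeroT 1) (.node 1 (zeroT 0) (.leaf 0x8000))) (.node 2 (zeroT 1) (.node 1 (.leaf 0x40000) (.leaf 0x80000)))) (.node 4 (zeroT 2) (.node 2 (.node 1 (.leaf 0x400000) (.leaf 0x800000)) (zeroT 1)))))) (.node 32 (.node 16 (.node 8 (.node 4 (.node 2 (.node 1 (.leaf 0x10000000) (.leaf 0x800000000)) (.node 1 (.leaf 0xd000000000000000000) (.leaf 0x4000000000))) (.node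 2 (.node 1 (.leaf 0x8000000000) (zeroT 0)) (.node 1 (.leaf 0x800000000000) (.leaf 0x100000000000000)))) (.node 4 (.node 2 (.node 1 (zeroT 0) (.leaf 0x80)) (zeroT 1)) (.node 2 (.node 1 (.leaf 0x80) (.leaf 0x80)) (zeroT 1)))) (zeroT 4)) (zeroT 5)))

/-- bracket with a basis vector -/
def adT8 : BT := (.node 64 (.node 32 (.node 16 (.node 8 (zeroT 3) (.node 4 (zeroT 2) (.node 2 (.node 1 (.leaf 0x1) (zeroT 0)) (zeroT 1)))) (.node 8 (.node 4 (.node 2 (.node 1 (zeroT 0) (.leaf 0x2)) (zeroT 1)) (.node 2 (.node 1 (.leaf 0x8) (.leaf 0x10)) (.node 1 (zeroT 0) (.leaf 0x80)))) (zeroT 3))) (.node 16 (.node 8 (.node 4 (.node 2 (.node 1 (zeroT 0) (.leaf 0x20)) (.node 1 (.leaf 0x40) (zeroT 0))) (.node 2 (.node 1 (zeroT 0) (.leaf 0x1000000)) (zeroT 1))) (.node 4 (.node 2 (zeroT 1) (.node 1 (.leaf 0x800) (.leaf 0x2000))) (.node 2 (.node 1 (.leaf 0x4000) (.leaf 0x4000000)) (.node 1 (.leaf 0x8000000) (zeroT 0))))) (.node 8 (.node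 4 (.node 2 (.node 1 (zeroT 0) (.leaf 0x10000000)) (.node 1 (zeroT 0) (.leaf 0x10000))) (.node 2 (.node 1 (.leaf 0x40000) (.leaf 0x80000)) (.node 1 (.leaf 0x80000000) (.leaf 0x100000000)))) (.node 4 (.node 2 (zeroT 1) (.node 1 (.leaf 0x800000000) (.leaf 0x400000))) (.node 2 (.node 1 (.leaf 0x1000000000000000000) (.leaf 0xf000000000000000000)) (.node 1 (.leaf 0x4000000000) (.leaf 0x8000000000))))))) (.node 32 (.node 16 (.node 8 (.node 4 (.node 2 (zeroT 1) (.node 1 (.leaf 0x1000000000) (.leaf 0x10000000000))) (.node 2 (.node 1 (.leaf 0x20000000000) (zeroT 0)) (.node 1 (.leaf 0x1000000000000) (.leaf 0x200000000000000)))) (.node 4 (.node 2 (.node 1 (zeroT 0) (.leaf 0x100)) (.node 1 (zeroT 0) (.leaf 0x100))) (.node 2 (.node 1 (.leaf 0x200) (.leaf 0x100)) (zeroT 1)))) (zeroT 4)) (zeroT 5)))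

/-- bracket with a basis vector -/
def adT9 : BT := (.node 64 (.node 32 (.node 16 (.node 8 (zeroT 3) (.node 4 (.node 2 (zeroT 1) (.node 1 (zeroT 0) (.leaf 0x1))) (zeroT 2))) (.node 8 (.node 4 (.node 2 (.node 1 (.leaf 0x2) (zeroT 0)) (zeroT 1)) (.node 2 (.node 1 (.leaf 0x18) (.leaf 0x8)) (.node 1 (.leaf 0x80) (zeroT 0)))) (zeroT 3))) (.node 16 (.node 8 (.node 4 (.node 2 (.node 1 (zeroT 0) (.leaf 0x40)) (.node 1 (.leaf 0x60) (zeroT 0))) (.node 2 (.node 1 (.leaf 0x1000000) (zeroT 0)) (zeroT 1))) (.node 4 (.node 2 (zeroT 1) (.node 1 (.leaf 0x1000) (.leaf 0x4000))) (.node 2 (.node 1 (.leaf 0x6000) (.leaf 0xc000000)) (.node 1 (.leaf 0x4000000) (zeroT 0))))) (.node 8 (.node 4 (.node 2 (.node 1 (.leaf 0x10000000) (zeroT 0)) (.node 1 (zeroT 0) (.leaf 0x20000))) (.node 2 (.node 1 (.leaf 0x80000) (.leaf 0xc0000)) (.node 1 (.leaf 0x180000000) (.leaf 0x80000000)))) (.node 4 (.node 2 (.node 1 (zeroT 0) (.leaf 0x800000000))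 (.node 1 (zeroT 0) (.leaf 0x800000))) (.node 2 (.node 1 (.leaf 0xe000000000000000000) (.leaf 0x1000000000000000000)) (.node 1 (.leaf 0xc000000000) (.leaf 0x4000000000))))))) (.node 32 (.node 16 (.node 8 (.node 4 (.node 2 (zeroT 1) (.node 1 (.leaf 0x2000000000) (.leaf 0x20000000000))) (.node 2 (.node 1 (.leaf 0x30000000000) (zeroT 0)) (.node 1 (.leaf 0x2000000000000) (.leaf 0x400000000000000)))) (.node 4 (.node 2 (.node 1 (zeroT 0) (.leaf 0x200)) (.node 1 (zeroT 0) (.leaf 0x200))) (.node 2 (.node 1 (.leaf 0x300) (.leaf 0x200)) (zeroT 1)))) (zeroT 4)) (zeroT 5)))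

/-- bracket with a basis vector -/
def adT10 : BT := (.node 64 (.node 32 (.node 16 (zeroT 4) (.node 8 (zeroT 3) (.node 4 (.node 2 (.node 1 (.leaf 0x1) (zeroT 0)) (zeroT 1)) (.node 2 (zeroT 1) (.node 1 (.leaf 0x4) (.leaf 0x8)))))) (.node 16 (.node 8 (.node 4 (.node 2 (.node 1 (.leaf 0x10) (zeroT 0)) (.node 1 (zeroT 0) (.leaf 0x80))) (.node 2 (.node 1 (.leaf 0x800) (.leaf 0x1000)) (zeroT 1))) (.node 4 (.node 2 (.node 1 (.leaf 0x2000) (.leaf 0x4000)) (zeroT 1)) (zeroT 2))) (.node 8 (.node 4 (.node 2 (zeroT 1) (.node 1 (.leaf 0x8000) (zeroT 0))) (.node 2 (zeroT 1) (.node 1 (.leaf 0x100000) (.leaf 0x200000)))) (.node 4 (.node 2 (.node 1 (zeroT 0) (.leaf 0x400000)) (.node 1 (.leaf 0x800000) (zeroT 0))) (zeroT 2))))) (.node 32 (.node 16 (.node 8 (.node 4 (.node 2 (.node 1 (.leaf 0x20000000) (.leaf 0x2d000000000000000000)) (.node 1 (.leaf 0x40000000000) (.leaf 0x80000000000))) (.node 2 (.node 1 (.leaf 0x100000000000)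 (.leaf 0x800000000000)) (.node 1 (zeroT 0) (.leaf 0x800000000000000)))) (.node 4 (.node 2 (.node 1 (zeroT 0) (.leaf 0x400)) (.node 1 (.leaf 0x400) (zeroT 0))) (.node 2 (.node 1 (zeroT 0) (.leaf 0x400)) (zeroT 1)))) (zeroT 4)) (zeroT 5)))

/-- bracket with a basis vector -/
def adT11 : BT := (.node 64 (.node 32 (.node 16 (.node 8 (zeroT 3) (.node 4 (.node 2 (.node 1 (zeroT 0) (.leaf 0x1)) (zeroT 1)) (zeroT 2))) (.node 8 (.node 4 (.node 2 (.node 1 (zeroT 0) (.leaf 0x4)) (.node 1 (.leaf 0x8) (.leaf 0x10))) (.node 2 (zeroT 1) (.node 1 (zeroT 0) (.leaf 0x400)))) (.node 4 (zeroT 2) (.node 2 (zeroT 1) (.node 1 (zeroT 0) (.leaf 0x20)))))) (.node 16 (.node 8 (.node 4 (.node 2 (.node 1 (.leaf 0x40) (zeroT 0)) (.node 1 (zeroT 0) (.leaf 0x100))) (.node 2 (.node 1 (zeroT 0) (.leaf 0x2000000)) (.node 1 (.leaf 0x2000) (.leaf 0x4000)))) (.node 4 (.node 2 (.node 1 (.leaf 0x4000000) (.leaf 0x8000000)) (zeroT 1)) (zeroT 2))) (.node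 8 (.node 4 (.node 2 (.node 1 (zeroT 0) (.leaf 0x20000000)) (.node 1 (.leaf 0x10000) (zeroT 0))) (.node 2 (.node 1 (.leaf 0x100000) (.leaf 0x200000)) (.node 1 (.leaf 0x200000000) (.leaf 0x400000000)))) (.node 4 (.node 2 (.node 1 (.leaf 0x400000) (.leaf 0x1000000000000000000)) (.node 1 (.leaf 0x2f000000000000000000) (zeroT 0))) (.node 2 (.node 1 (zeroT 0) (.leaf 0x40000000000)) (.node 1 (.leaf 0x80000000000) (.leaf 0x100000000000))))))) (.node 32 (.node 16 (.node 8 (.node 4 (.node 2 (.node 1 (zeroT 0) (.leaf 0x1000000000)) (.node 1 (zeroT 0) (.leaf 0x200000000000))) (.node 2 (.node 1 (.leaf 0x400000000000) (.leaf 0x1000000000000)) (.node 1 (zeroT 0) (.leaf 0x1000000000000000)))) (.node 4 (.node 2 (.node 1 (zeroT 0) (.leaf 0x800)) (.node 1 (.leaf 0x800) (.leaf 0x800))) (.node 2 (.node 1 (.leaf 0x1800) (.leaf 0x800)) (zeroT 1)))) (zeroT 4)) (zeroT 5)))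

/-- bracket with a basis vector -/
def adT12 : BT := (.node 64 (.node 32 (.node 16 (.node 8 (zeroT 3) (.node 4 (.node 2 (.node 1 (.leaf 0x1) (zeroT 0)) (zeroT 1)) (zeroT 2))) (.node 8 (.node 4 (.node 2 (.node 1 (.leaf 0x4) (zeroT 0)) (.node 1 (.leaf 0x18) (.leaf 0x8))) (.node 2 (zeroT 1) (.node 1 (.leaf 0x400) (zeroT 0)))) (.node 4 (zeroT 2) (.node 2 (zeroT 1) (.node 1 (zeroT 0) (.leaf 0x40)))))) (.node 16 (.node 8 (.node 4 (.node 2 (.node 1 (.leaf 0x60) (zeroT 0)) (.node 1 (zeroT 0) (.leaf 0x200))) (.node 2 (.node 1 (.leaf 0x2000000) (zeroT 0)) (.node 1 (.leaf 0x4000) (.leaf 0x6000)))) (.node 4 (.node 2 (.node 1 (.leaf 0xc000000) (.leaf 0x4000000)) (zeroT 1)) (zeroT 2))) (.node 8 (.node 4 (.node 2 (.node 1 (.leaf 0x20000000) (zeroT 0)) (.node 1 (.leaf 0x20000) (zeroT 0))) (.node 2 (.node 1 (.leaf 0x200000) (.leaf 0x300000)) (.node 1 (.leaf 0x600000000) (.leaf 0x200000000)))) (.node 4 (.node 2 (.node 1 (.leaf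 0x800000) (.leaf 0x2e000000000000000000)) (.node 1 (.leaf 0x1000000000000000000) (zeroT 0))) (.node 2 (.node 1 (.leaf 0x40000000000) (zeroT 0)) (.node 1 (.leaf 0x180000000000) (.leaf 0x80000000000))))))) (.node 32 (.node 16 (.node 8 (.node 4 (.node 2 (.node 1 (zeroT 0) (.leaf 0x2000000000)) (.node 1 (zeroT 0) (.leaf 0x400000000000))) (.node 2 (.node 1 (.leaf 0x600000000000) (.leaf 0x2000000000000)) (.node 1 (zeroT 0) (.leaf 0x2000000000000000)))) (.node 4 (.node 2 (.node 1 (zeroT 0) (.leaf 0x1000)) (.node 1 (.leaf 0x1000) (.leaf 0x1000))) (.node 2 (.node 1 (.leaf 0x800) (.leaf 0x1000)) (zeroT 1)))) (zeroT 4)) (zeroT 5)))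

/-- bracket with a basis vector -/
def adT13 : BT := (.node 64 (.node 32 (.node 16 (.node 8 (.node 4 (zeroT 2) (.node 2 (zeroT 1) (.node 1 (.leaf 0x1) (zeroT 0)))) (zeroT 3)) (.node 8 (.node 4 (.node 2 (.node 1 (.leaf 0x8) (.leaf 0x18)) (.node 1 (zeroT 0) (.leaf 0x80))) (.node 2 (.node 1 (zeroT 0) (.leaf 0x400)) (zeroT 1))) (.node 4 (zeroT 2) (.node 2 (zeroT 1) (.node 1 (.leaf 0x20) (.leaf 0x100)))))) (.node 16 (.node 8 (.node 4 (.node 2 (.node 1 (.leaf 0x300) (.leaf 0x800)) (.node 1 (.leaf 0x1800) (zeroT 0))) (.node 2 (.node 1 (.leaf 0x4000000) (.leaf 0xc000000)) (zeroT 1))) (.node 4 (.node 2 (.node 1 (zeroT 0) (.leaf 0x10000000)) (zeroT 1)) (.node 2 (zeroT 1) (.node 1 (.leaf 0x20000000) (zeroT 0))))) (.node 8 (.node 4 (.node 2 (zeroT 1) (.node 1 (.leaf 0x40000) (.leaf 0x100000))) (.node 2 (.node 1 (.leaf 0x400000) (.leaf 0xc00000)) (.node 1 (.leaf 0x9000000000000000000) (.leaf 0x3f000000000000000000)))) (.node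 4 (.node 2 (.node 1 (zeroT 0) (.leaf 0x4000000000)) (.node 1 (.leaf 0xc000000000) (zeroT 0))) (.node 2 (.node 1 (.leaf 0x80000000000) (.leaf 0x180000000000)) (.node 1 (zeroT 0) (.leaf 0x800000000000))))))) (.node 32 (.node 16 (.node 8 (.node 4 (.node 2 (.node 1 (zeroT 0) (.leaf 0x10000000000)) (.node 1 (.leaf 0x200000000000) (.leaf 0x1000000000000))) (.node 2 (.node 1 (.leaf 0x3000000000000) (zeroT 0)) (.node 1 (zeroT 0) (.leaf 0x4000000000000000)))) (.node 4 (.node 2 (.node 1 (.leaf 0x2000) (.leaf 0x4000)) (.node 1 (.leaf 0x2000) (.leaf 0x2000))) (.node 2 (.node 1 (.leaf 0x6000) (zeroT 0)) (zeroT 1)))) (zeroT 4)) (zeroT 5)))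

/-- bracket with a basis vector -/
def adT14 : BT := (.node 64 (.node 32 (.node 16 (.node 8 (.node 4 (zeroT 2) (.node 2 (.node 1 (zeroT 0) (.leaf 0x1)) (zeroT 1))) (zeroT 3)) (.node 8 (.node 4 (.node 2 (.node 1 (.leaf 0x10) (.leaf 0x8)) (.node 1 (.leaf 0x80) (zeroT 0))) (.node 2 (.node 1 (.leaf 0x400) (zeroT 0)) (zeroT 1))) (.node 4 (zeroT 2) (.node 2 (zeroT 1) (.node 1 (.leaf 0x40) (.leaf 0x200)))))) (.node 16 (.node 8 (.node 4 (.node 2 (.node 1 (.leaf 0x100) (.leaf 0x1000)) (.node 1 (.leaf 0x800) (zeroT 0))) (.node 2 (.node 1 (.leaf 0x8000000) (.leaf 0x4000000)) (zeroT 1))) (.node 4 (.node 2 (.node 1 (.leaf 0x10000000) (zeroT 0)) (zeroT 1)) (.node 2 (.node 1 (zeroT 0) (.leaf 0x20000000)) (zeroT 1)))) (.node 8 (.node 4 (.node 2 (zeroT 1) (.node 1 (.leaf 0x80000) (.leaf 0x200000))) (.node 2 (.node 1 (.leaf 0x800000) (.leaf 0x400000)) (.node 1 (.leaf 0x36000000000000000000) (.leaf 0x9000000000000000000)))) (.node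 4 (.node 2 (.node 1 (zeroT 0) (.leaf 0x8000000000)) (.node 1 (.leaf 0x4000000000) (zeroT 0))) (.node 2 (.node 1 (.leaf 0x100000000000) (.leaf 0x80000000000)) (.node 1 (.leaf 0x800000000000) (zeroT 0))))))) (.node 32 (.node 16 (.node 8 (.node 4 (.node 2 (.node 1 (zeroT 0) (.leaf 0x20000000000)) (.node 1 (.leaf 0x400000000000) (.leaf 0x2000000000000))) (.node 2 (.node 1 (.leaf 0x1000000000000) (zeroT 0)) (.node 1 (zeroT 0) (.leaf 0x8000000000000000)))) (.node 4 (.node 2 (.node 1 (.leaf 0x4000) (.leaf 0x6000)) (.node 1 (.leaf 0x4000) (.leaf 0x4000))) (.node 2 (.node 1 (.leaf 0x2000) (zeroT 0)) (zeroT 1)))) (zeroT 4)) (zeroT 5)))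

/-- bracket with a basis vector -/
def adT15 : BT := (.node 64 (.node 32 (.node 16 (zeroT 4) (.node 8 (zeroT 3) (.node 4 (.node 2 (.node 1 (.leaf 0x2) (.leaf 0x4)) (.node 1 (.leaf 0x8) (.leaf 0x10))) (.node 2 (.node 1 (.leaf 0x80) (.leaf 0x400)) (zeroT 1))))) (.node 16 (.node 8 (.node 4 (zeroT 2) (.node 2 (.node 1 (.leaf 0x10000) (.leaf 0x20000)) (zeroT 1))) (.node 4 (.node 2 (.node 1 (.leaf 0x40000) (.leaf 0x80000)) (zeroT 1)) (.node 2 (.node 1 (zeroT 0) (.leaf 0x100000)) (.node 1 (.leaf 0x200000) (zeroT 0))))) (.node 8 (.node 4 (.node 2 (.node 1 (.leaf 0x400000) (.leaf 0x800000)) (zeroT 1)) (zeroT 2)) (zeroT 3)))) (.node 32 (.node 16 (.node 8 (.node 4 (.node 2 (.node 1 (.leaf 0x29000000000000000000) (.leaf 0x4000000000000)) (.node 1 (.leaf 0x8000000000000) (.leaf 0x10000000000000))) (.node 2 (.node 1 (.leaf 0x20000000000000) (.leaf 0x100000000000000)) (.node 1 (.leaf 0x800000000000000) (zeroT 0)))) (.node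 4 (.node 2 (.node 1 (zeroT 0) (.leaf 0x8000)) (.node 1 (.leaf 0x8000) (zeroT 0))) (zeroT 2))) (zeroT 4)) (zeroT 5)))

/-- bracket with a basis vector -/
def adT16 : BT := (.node 64 (.node 32 (.node 16 (.node 8 (zeroT 3) (.node 4 (.node 2 (.node 1 (zeroT 0) (.leaf 0x2)) (zeroT 1)) (.node 2 (.node 1 (.leaf 0x4) (.leaf 0x8)) (.node 1 (.leaf 0x10) (zeroT 0))))) (.node 8 (.node 4 (zeroT 2) (.node 2 (zeroT 1) (.node 1 (zeroT 0) (.leaf 0x8000)))) (.node 4 (.node 2 (zeroT 1) (.node 1 (.leaf 0x20) (.leaf 0x40))) (.node 2 (.node 1 (.leaf 0x100) (.leaf 0x800)) (zeroT 1))))) (.node 16 (.node 8 (.node 4 (zeroT 2) (.node 2 (.node 1 (zeroT 0) (.leaf 0x40000000)) (.node 1 (.leaf 0x40000) (.leaf 0x80000)))) (.node 4 (.node 2 (.node 1 (.leaf 0x80000000) (.leaf 0x100000000)) (.node 1 (zeroT 0) (.leaf 0x100000))) (.node 2 (.node 1 (.leaf 0x200000) (.leaf 0x200000000)) (.node 1 (.leaf 0x400000000) (.leaf 0x400000))))) (.node 8 (.node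 4 (.node 2 (.node 1 (.leaf 0x1000000000000000000) (.leaf 0x2b000000000000000000)) (zeroT 1)) (zeroT 2)) (.node 4 (.node 2 (zeroT 1) (.node 1 (.leaf 0x4000000000000) (zeroT 0))) (.node 2 (.node 1 (zeroT 0) (.leaf 0x8000000000000)) (.node 1 (.leaf 0x10000000000000) (.leaf 0x20000000000000))))))) (.node 32 (.node 16 (.node 8 (.node 4 (.node 2 (.node 1 (.leaf 0x1000000000) (zeroT 0)) (.node 1 (zeroT 0) (.leaf 0x40000000000000))) (.node 2 (.node 1 (.leaf 0x80000000000000) (.leaf 0x200000000000000)) (.node 1 (.leaf 0x1000000000000000) (zeroT 0)))) (.node 4 (.node 2 (.node 1 (zeroT 0) (.leaf 0x10000)) (.node 1 (.leaf 0x10000) (.leaf 0x10000))) (.node 2 (.node 1 (.leaf 0x30000) (zeroT 0)) (zeroT 1)))) (zeroT 4)) (zeroT 5)))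

/-- bracket with a basis vector -/
def adT17 : BT := (.node 64 (.node 32 (.node 16 (.node 8 (zeroT 3) (.node 4 (.node 2 (.node 1 (.leaf 0x2) (zeroT 0)) (.node 1 (zeroT 0) (.leaf 0x4))) (.node 2 (.node 1 (zeroT 0) (.leaf 0x18)) (.node 1 (.leaf 0x8) (zeroT 0))))) (.node 8 (.node 4 (zeroT 2) (.node 2 (zeroT 1) (.node 1 (.leaf 0x8000) (zeroT 0)))) (.node 4 (.node 2 (zeroT 1) (.node 1 (.leaf 0x40) (.leaf 0x60))) (.node 2 (.node 1 (.leaf 0x200) (.leaf 0x1000)) (zeroT 1))))) (.node 16 (.node 8 (.node 4 (zeroT 2) (.node 2 (.node 1 (.leaf 0x40000000) (zeroT 0)) (.node 1 (.leaf 0x80000) (.leaf 0xc0000)))) (.node 4 (.node 2 (.node 1 (.leaf 0x180000000) (.leaf 0x80000000)) (.node 1 (zeroT 0) (.leaf 0x200000))) (.node 2 (.node 1 (.leaf 0x300000) (.leaf 0x600000000)) (.node 1 (.leaf 0x200000000) (.leaf 0x800000))))) (.node 8 (.node 4 (.node 2 (.node 1 (.leaf 0x2a000000000000000000) (.leaf 0x1000000000000000000)) (zeroT 1))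 (zeroT 2)) (.node 4 (.node 2 (.node 1 (zeroT 0) (.leaf 0x4000000000000)) (zeroT 1)) (.node 2 (.node 1 (.leaf 0x8000000000000) (zeroT 0)) (.node 1 (.leaf 0x30000000000000) (.leaf 0x10000000000000))))))) (.node 32 (.node 16 (.node 8 (.node 4 (.node 2 (.node 1 (.leaf 0x2000000000) (zeroT 0)) (.node 1 (zeroT 0) (.leaf 0x80000000000000))) (.node 2 (.node 1 (.leaf 0xc0000000000000) (.leaf 0x400000000000000)) (.node 1 (.leaf 0x2000000000000000) (zeroT 0)))) (.node 4 (.node 2 (.node 1 (zeroT 0) (.leaf 0x20000)) (.node 1 (.leaf 0x20000) (.leaf 0x20000))) (.node 2 (.node 1 (.leaf 0x10000) (zeroT 0)) (zeroT 1)))) (zeroT 4)) (zeroT 5)))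

/-- bracket with a basis vector -/
def adT18 : BT := (.node 64 (.node 32 (.node 16 (.node 8 (.node 4 (zeroT 2) (.node 2 (zeroT 1) (.node 1 (.leaf 0x2) (zeroT 0)))) (.node 4 (.node 2 (zeroT 1) (.node 1 (zeroT 0) (.leaf 0x8))) (.node 2 (.node 1 (.leaf 0x18) (zeroT 0)) (.node 1 (.leaf 0x80) (zeroT 0))))) (.node 8 (.node 4 (zeroT 2) (.node 2 (.node 1 (zeroT 0) (.leaf 0x8000)) (zeroT 1))) (.node 4 (.node 2 (.node 1 (zeroT 0) (.leaf 0x20)) (.node 1 (.leaf 0x100) (.leaf 0x300))) (.node 2 (.node 1 (zeroT 0) (.leaf 0x2000)) (zeroT 1))))) (.node 16 (.node 8 (.node 4 (.node 2 (.node 1 (zeroT 0) (.leaf 0x10000)) (.node 1 (.leaf 0x30000) (zeroT 0))) (.node 2 (.node 1 (.leaf 0x80000000) (.leaf 0x180000000)) (zeroT 1))) (.node 4 (.node 2 (.node 1 (zeroT 0) (.leaf 0x800000000)) (.node 1 (.leaf 0x100000) (.leaf 0x400000))) (.node 2 (.node 1 (.leaf 0xc00000) (.leaf 0x9000000000000000000)) (.node 1 (.leaf 0x3b000000000000000000)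 (zeroT 0))))) (.node 8 (.node 4 (.node 2 (.node 1 (.leaf 0x4000000000) (.leaf 0xc000000000)) (zeroT 1)) (.node 2 (zeroT 1) (.node 1 (zeroT 0) (.leaf 0x4000000000000)))) (.node 4 (zeroT 2) (.node 2 (.node 1 (.leaf 0x10000000000000) (.leaf 0x30000000000000)) (.node 1 (zeroT 0) (.leaf 0x100000000000000))))))) (.node 32 (.node 16 (.node 8 (.node 4 (.node 2 (.node 1 (.leaf 0x10000000000) (zeroT 0)) (.node 1 (.leaf 0x40000000000000) (.leaf 0x200000000000000))) (.node 2 (.node 1 (.leaf 0x600000000000000) (zeroT 0)) (.node 1 (.leaf 0x4000000000000000) (zeroT 0)))) (.node 4 (.node 2 (.node 1 (.leaf 0x40000) (.leaf 0x80000)) (.node 1 (.leaf 0x40000) (.leaf 0x40000))) (.node 2 (.node 1 (.leaf 0xc0000) (.leaf 0x40000)) (zeroT 1)))) (zeroT 4)) (zeroT 5)))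

/-- bracket with a basis vector -/
def adT19 : BT := (.node 64 (.node 32 (.node 16 (.node 8 (.node 4 (zeroT 2) (.node 2 (.node 1 (zeroT 0) (.leaf 0x2)) (zeroT 1))) (.node 4 (.node 2 (zeroT 1) (.node 1 (zeroT 0) (.leaf 0x10))) (.node 2 (.node 1 (.leaf 0x8) (.leaf 0x80)) (zeroT 1)))) (.node 8 (.node 4 (zeroT 2) (.node 2 (.node 1 (.leaf 0x8000) (zeroT 0)) (zeroT 1))) (.node 4 (.node 2 (.node 1 (zeroT 0) (.leaf 0x40)) (.node 1 (.leaf 0x200) (.leaf 0x100))) (.node 2 (.node 1 (zeroT 0) (.leaf 0x4000)) (zeroT 1))))) (.node 16 (.node 8 (.node 4 (.node 2 (.node 1 (zeroT 0) (.leaf 0x20000)) (.node 1 (.leaf 0x10000) (zeroT 0))) (.node 2 (.node 1 (.leaf 0x100000000) (.leaf 0x80000000)) (zeroT 1))) (.node 4 (.node 2 (.node 1 (.leaf 0x800000000) (zeroT 0)) (.node 1 (.leaf 0x200000) (.leaf 0x800000))) (.node 2 (.node 1 (.leaf 0x400000) (.leaf 0x32000000000000000000)) (.node 1 (.leaf 0x9000000000000000000) (zeroT 0))))) (.node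 8 (.node 4 (.node 2 (.node 1 (.leaf 0x8000000000) (.leaf 0x4000000000)) (zeroT 1)) (.node 2 (zeroT 1) (.node 1 (.leaf 0x4000000000000) (zeroT 0)))) (.node 4 (zeroT 2) (.node 2 (.node 1 (.leaf 0x20000000000000) (.leaf 0x10000000000000)) (.node 1 (.leaf 0x100000000000000) (zeroT 0))))))) (.node 32 (.node 16 (.node 8 (.node 4 (.node 2 (.node 1 (.leaf 0x20000000000) (zeroT 0)) (.node 1 (.leaf 0x80000000000000) (.leaf 0x400000000000000))) (.node 2 (.node 1 (.leaf 0x200000000000000) (zeroT 0)) (.node 1 (.leaf 0x8000000000000000) (zeroT 0)))) (.node 4 (.node 2 (.node 1 (.leaf 0x80000) (.leaf 0xc0000)) (.node 1 (.leaf 0x80000) (.leaf 0x80000))) (.node 2 (.node 1 (.leaf 0x40000) (.leaf 0x80000)) (zeroT 1)))) (zeroT 4)) (zeroT 5)))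

/-- bracket with a basis vector -/
def adT20 : BT := (.node 64 (.node 32 (.node 16 (.node 8 (.node 4 (zeroT 2) (.node 2 (zeroT 1) (.node 1 (.leaf 0x4) (zeroT 0)))) (.node 4 (.node 2 (.node 1 (.leaf 0x8) (.leaf 0x18)) (zeroT 1)) (.node 2 (zeroT 1) (.node 1 (.leaf 0x400) (zeroT 0))))) (.node 8 (.node 4 (.node 2 (zeroT 1) (.node 1 (zeroT 0) (.leaf 0x8000))) (zeroT 2)) (.node 4 (.node 2 (.node 1 (.leaf 0x20) (zeroT 0)) (.node 1 (.leaf 0x800) (.leaf 0x1800))) (.node 2 (.node 1 (.leaf 0x2000) (zeroT 0)) (.node 1 (zeroT 0) (.leaf 0x10000)))))) (.node 16 (.node 8 (.node 4 (.node 2 (.node 1 (.leaf 0x30000) (zeroT 0)) (.node 1 (zeroT 0) (.leaf 0x40000))) (.node 2 (.node 1 (.leaf 0x200000000) (.leaf 0x600000000)) (.node 1 (.leaf 0x400000) (.leaf 0xc00000)))) (.node 4 (.node 2 (.node 1 (.leaf 0x9000000000000000000) (.leaf 0x1b000000000000000000)) (zeroT 1)) (.node 2 (zeroT 1) (.node 1 (.leaf 0x40000000000) (zeroT 0)))))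 (.node 8 (.node 4 (.node 2 (.node 1 (.leaf 0x80000000000) (.leaf 0x180000000000)) (zeroT 1)) (.node 2 (zeroT 1) (.node 1 (zeroT 0) (.leaf 0x8000000000000)))) (.node 4 (.node 2 (.node 1 (zeroT 0) (.leaf 0x10000000000000)) (.node 1 (.leaf 0x30000000000000) (zeroT 0))) (.node 2 (zeroT 1) (.node 1 (zeroT 0) (.leaf 0x800000000000000))))))) (.node 32 (.node 16 (.node 8 (.node 4 (.node 2 (.node 1 (.leaf 0x200000000000) (.leaf 0x40000000000000)) (.node 1 (zeroT 0) (.leaf 0x1000000000000000))) (.node 2 (.node 1 (.leaf 0x3000000000000000) (.leaf 0x4000000000000000)) (zeroT 1))) (.node 4 (.node 2 (.node 1 (.leaf 0x100000) (.leaf 0x200000)) (.node 1 (zeroT 0) (.leaf 0x100000))) (.node 2 (.node 1 (.leaf 0x200000) (.leaf 0x100000)) (zeroT 1)))) (zeroT 4)) (zeroT 5)))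

/-- bracket with a basis vector -/
def adT21 : BT := (.node 64 (.node 32 (.node 16 (.node 8 (.node 4 (zeroT 2) (.node 2 (.node 1 (zeroT 0) (.leaf 0x4)) (zeroT 1))) (.node 4 (.node 2 (.node 1 (.leaf 0x10) (.leaf 0x8)) (zeroT 1)) (.node 2 (.node 1 (zeroT 0) (.leaf 0x400)) (zeroT 1)))) (.node 8 (.node 4 (.node 2 (zeroT 1) (.node 1 (.leaf 0x8000) (zeroT 0))) (zeroT 2)) (.node 4 (.node 2 (.node 1 (.leaf 0x40) (zeroT 0)) (.node 1 (.leaf 0x1000) (.leaf 0x800))) (.node 2 (.node 1 (.leaf 0x4000) (zeroT 0)) (.node 1 (zeroT 0) (.leaf 0x20000)))))) (.node 16 (.node 8 (.node 4 (.node 2 (.node 1 (.leaf 0x10000) (zeroT 0)) (.node 1 (zeroT 0) (.leaf 0x80000))) (.node 2 (.node 1 (.leaf 0x400000000) (.leaf 0x200000000)) (.node 1 (.leaf 0x800000) (.leaf 0x400000)))) (.node 4 (.node 2 (.node 1 (.leaf 0x12000000000000000000) (.leaf 0x9000000000000000000)) (zeroT 1)) (.node 2 (.node 1 (zeroT 0) (.leaf 0x40000000000)) (zeroT 1))))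 (.node 8 (.node 4 (.node 2 (.node 1 (.leaf 0x100000000000) (.leaf 0x80000000000)) (zeroT 1)) (.node 2 (zeroT 1) (.node 1 (.leaf 0x8000000000000) (zeroT 0)))) (.node 4 (.node 2 (.node 1 (zeroT 0) (.leaf 0x20000000000000)) (.node 1 (.leaf 0x10000000000000) (zeroT 0))) (.node 2 (zeroT 1) (.node 1 (.leaf 0x800000000000000) (zeroT 0))))))) (.node 32 (.node 16 (.node 8 (.node 4 (.node 2 (.node 1 (.leaf 0x400000000000) (.leaf 0x80000000000000)) (.node 1 (zeroT 0) (.leaf 0x2000000000000000))) (.node 2 (.node 1 (.leaf 0x1000000000000000) (.leaf 0x8000000000000000)) (zeroT 1))) (.node 4 (.node 2 (.node 1 (.leaf 0x200000) (.leaf 0x300000)) (.node 1 (zeroT 0) (.leaf 0x200000))) (.node 2 (.node 1 (.leaf 0x300000) (.leaf 0x200000)) (zeroT 1)))) (zeroT 4)) (zeroT 5)))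

/-- bracket with a basis vector -/
def adT22 : BT := (.node 64 (.node 32 (.node 16 (.node 8 (.node 4 (zeroT 2) (.node 2 (.node 1 (zeroT 0) (.leaf 0x8)) (.node 1 (.leaf 0x10) (zeroT 0)))) (.node 4 (.node 2 (.node 1 (zeroT 0) (.leaf 0x80)) (zeroT 1)) (.node 2 (.node 1 (.leaf 0x400) (zeroT 0)) (zeroT 1)))) (.node 8 (.node 4 (.node 2 (.node 1 (zeroT 0) (.leaf 0x8000)) (zeroT 1)) (zeroT 2)) (.node 4 (.node 2 (.node 1 (.leaf 0x100) (.leaf 0x800)) (.node 1 (.leaf 0x2000) (.leaf 0x4000))) (.node 2 (zeroT 1) (.node 1 (.leaf 0x10000) (.leaf 0x40000)))))) (.node 16 (.node 8 (.node 4 (.node 2 (.node 1 (.leaf 0x80000) (.leaf 0x100000)) (.node 1 (.leaf 0x200000) (zeroT 0))) (.node 2 (.node 1 (.leaf 0x1000000000000000000) (.leaf 0x3000000000000000000)) (zeroT 1))) (.node 4 (.node 2 (.node 1 (.leaf 0x4000000000) (.leaf 0x8000000000)) (zeroT 1)) (.node 2 (.node 1 (zeroT 0) (.leaf 0x80000000000)) (.node 1 (.leaf 0x100000000000)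 (zeroT 0))))) (.node 8 (.node 4 (.node 2 (.node 1 (zeroT 0) (.leaf 0x800000000000)) (zeroT 1)) (.node 2 (zeroT 1) (.node 1 (.leaf 0x10000000000000) (.leaf 0x20000000000000)))) (.node 4 (.node 2 (zeroT 1) (.node 1 (.leaf 0x100000000000000) (zeroT 0))) (.node 2 (.node 1 (zeroT 0) (.leaf 0x800000000000000)) (zeroT 1)))))) (.node 32 (.node 16 (.node 8 (.node 4 (.node 2 (.node 1 (.leaf 0x1000000000000) (.leaf 0x200000000000000)) (.node 1 (.leaf 0x1000000000000000) (.leaf 0x4000000000000000))) (.node 2 (.node 1 (.leaf 0x8000000000000000) (zeroT 0)) (zeroT 1))) (.node 4 (.node 2 (zeroT 1) (.node 1 (zeroT 0) (.leaf 0x400000))) (.node 2 (.node 1 (.leaf 0x800000) (zeroT 0)) (zeroT 1)))) (zeroT 4)) (zeroT 5)))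

/-- bracket with a basis vector -/
def adT23 : BT := (.node 64 (.node 32 (.node 16 (.node 8 (.node 4 (zeroT 2) (.node 2 (.node 1 (zeroT 0) (.leaf 0x18)) (.node 1 (.leaf 0x8) (zeroT 0)))) (.node 4 (.node 2 (.node 1 (.leaf 0x80) (zeroT 0)) (.node 1 (zeroT 0) (.leaf 0x400))) (zeroT 2))) (.node 8 (.node 4 (.node 2 (.node 1 (.leaf 0x8000) (zeroT 0)) (zeroT 1)) (zeroT 2)) (.node 4 (.node 2 (.node 1 (.leaf 0x200) (.leaf 0x1000)) (.node 1 (.leaf 0x4000) (.leaf 0x6000))) (.node 2 (zeroT 1) (.node 1 (.leaf 0x20000) (.leaf 0x80000)))))) (.node 16 (.node 8 (.node 4 (.node 2 (.node 1 (.leaf 0xc0000) (.leaf 0x200000)) (.node 1 (.leaf 0x300000) (zeroT 0))) (.node 2 (.node 1 (.leaf 0x2000000000000000000) (.leaf 0x1000000000000000000)) (zeroT 1))) (.node 4 (.node 2 (.node 1 (.leaf 0xc000000000) (.leaf 0x4000000000)) (zeroT 1)) (.node 2 (.node 1 (zeroT 0) (.leaf 0x180000000000)) (.node 1 (.leaf 0x80000000000) (zeroT 0))))) (.node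 8 (.node 4 (.node 2 (.node 1 (.leaf 0x800000000000) (zeroT 0)) (zeroT 1)) (.node 2 (zeroT 1) (.node 1 (.leaf 0x30000000000000) (.leaf 0x10000000000000)))) (.node 4 (.node 2 (.node 1 (zeroT 0) (.leaf 0x100000000000000)) (zeroT 1)) (.node 2 (.node 1 (.leaf 0x800000000000000) (zeroT 0)) (zeroT 1)))))) (.node 32 (.node 16 (.node 8 (.node 4 (.node 2 (.node 1 (.leaf 0x2000000000000) (.leaf 0x400000000000000)) (.node 1 (.leaf 0x2000000000000000) (.leaf 0x8000000000000000))) (.node 2 (.node 1 (.leaf 0xc000000000000000) (zeroT 0)) (zeroT 1))) (.node 4 (.node 2 (zeroT 1) (.node 1 (zeroT 0) (.leaf 0x800000))) (.node 2 (.node 1 (.leaf 0xc00000) (zeroT 0)) (zeroT 1)))) (zeroT 4)) (zeroT 5)))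

/-- bracket with a basis vector -/
def adT24 : BT := (.node 64 (.node 32 (.node 16 (.node 8 (zeroT 3) (.node 4 (.node 2 (zeroT 1) (.node 1 (.leaf 0x1) (zeroT 0))) (.node 2 (zeroT 1) (.node 1 (zeroT 0) (.leaf 0x2))))) (.node 8 (.node 4 (zeroT 2) (.node 2 (.node 1 (.leaf 0x20) (.leaf 0x40)) (.node 1 (.leaf 0x100) (.leaf 0x200)))) (zeroT 3))) (.node 16 (.node 8 (zeroT 3) (.node 4 (.node 2 (zeroT 1) (.node 1 (.leaf 0x2000000) (.leaf 0x4000000))) (.node 2 (.node 1 (.leaf 0x8000000) (zeroT 0)) (.node 1 (zeroT 0) (.leaf 0x10000000))))) (.node 8 (.node 4 (.node 2 (zeroT 1) (.node 1 (zeroT 0) (.leaf 0x40000000))) (.node 2 (.node 1 (.leaf 0x80000000) (.leaf 0x100000000)) (zeroT 1))) (.node 4 (.node 2 (.node 1 (.leaf 0x800000000) (zeroT 0)) (.node 1 (zeroT 0) (.leaf 0xc000000000000000000))) (.node 2 (.node 1 (.leaf 0x1000000000) (.leaf 0x2000000000)) (.node 1 (.leaf 0x10000000000) (.leaf 0x20000000000))))))) (.node 32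 (.node 16 (.node 8 (.node 4 (zeroT 2) (.node 2 (zeroT 1) (.node 1 (.leaf 0x10000000000000000) (.leaf 0x20000000000000000)))) (.node 4 (.node 2 (.node 1 (zeroT 0) (.leaf 0x1000000)) (zeroT 1)) (.node 2 (.node 1 (zeroT 0) (.leaf 0x1000000)) (zeroT 1)))) (zeroT 4)) (zeroT 5)))

/-- bracket with a basis vector -/
def adT25 : BT := (.node 64 (.node 32 (.node 16 (.node 8 (.node 4 (zeroT 2) (.node 2 (zeroT 1) (.node 1 (zeroT 0) (.leaf 0x1)))) (.node 4 (zeroT 2) (.node 2 (zeroT 1) (.node 1 (zeroT 0) (.leaf 0x4))))) (.node 8 (.node 4 (.node 2 (zeroT 1) (.node 1 (.leaf 0x20) (.leaf 0x40))) (.node 2 (zeroT 1) (.node 1 (.leaf 0x800) (.leaf 0x1000)))) (zeroT 3))) (.node 16 (.node 8 (.node 4 (.node 2 (zeroT 1) (.node 1 (zeroT 0) (.leaf 0x1000000))) (.node 2 (zeroT 1) (.node 1 (.leaf 0x4000000) (.leaf 0x8000000)))) (.node 4 (zeroT 2) (.node 2 (zeroT 1) (.node 1 (zeroT 0) (.leaf 0x20000000))))) (.node 8 (.node 4 (.node 2 (zeroT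 1) (.node 1 (.leaf 0x40000000) (zeroT 0))) (.node 2 (.node 1 (.leaf 0x200000000) (.leaf 0x400000000)) (zeroT 1))) (.node 4 (.node 2 (.node 1 (.leaf 0x2c000000000000000000) (.leaf 0x1000000000)) (.node 1 (.leaf 0x2000000000) (.leaf 0x40000000000))) (.node 2 (zeroT 1) (.node 1 (.leaf 0x200000000000) (.leaf 0x400000000000))))))) (.node 32 (.node 16 (.node 8 (.node 4 (zeroT 2) (.node 2 (.node 1 (zeroT 0) (.leaf 0x10000000000000000)) (.node 1 (zeroT 0) (.leaf 0x40000000000000000)))) (.node 4 (.node 2 (.node 1 (zeroT 0) (.leaf 0x2000000)) (.node 1 (.leaf 0x2000000) (zeroT 0))) (.node 2 (.node 1 (.leaf 0x2000000) (.leaf 0x2000000)) (zeroT 1)))) (zeroT 4)) (zeroT 5)))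

/-- bracket with a basis vector -/
def adT26 : BT := (.node 64 (.node 32 (.node 16 (.node 8 (.node 4 (zeroT 2) (.node 2 (.node 1 (.leaf 0x1) (zeroT 0)) (zeroT 1))) (.node 4 (zeroT 2) (.node 2 (zeroT 1) (.node 1 (zeroT 0) (.leaf 0x8))))) (.node 8 (.node 4 (.node 2 (.node 1 (.leaf 0x20) (.leaf 0x40)) (.node 1 (.leaf 0x100) (.leaf 0x200))) (.node 2 (.node 1 (.leaf 0x800) (.leaf 0x1000)) (.node 1 (.leaf 0x2000) (.leaf 0x4000)))) (zeroT 3))) (.node 16 (.node 8 (.node 4 (.node 2 (.node 1 (.leaf 0x1000000) (zeroT 0)) (.node 1 (.leaf 0x2000000) (zeroT 0))) (.node 2 (zeroT 1) (.node 1 (zeroT 0) (.leaf 0x10000000)))) (.node 4 (zeroT 2) (.node 2 (.node 1 (.leaf 0x20000000) (zeroT 0)) (zeroT 1)))) (.node 8 (.node 4 (.node 2 (zeroT 1) (.node 1 (.leaf 0x80000000) (.leaf 0x200000000))) (.node 2 (.node 1 (.leaf 0x8000000000000000000) (.leaf 0x3c000000000000000000)) (.node 1 (.leaf 0x1000000000) (.leaf 0x2000000000)))) (.node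 4 (.node 2 (.node 1 (.leaf 0x4000000000) (.leaf 0x10000000000)) (.node 1 (.leaf 0x20000000000) (.leaf 0x80000000000))) (.node 2 (.node 1 (.leaf 0x200000000000) (.leaf 0x400000000000)) (.node 1 (.leaf 0x1000000000000) (.leaf 0x2000000000000))))))) (.node 32 (.node 16 (.node 8 (.node 4 (zeroT 2) (.node 2 (.node 1 (.leaf 0x10000000000000000) (zeroT 0)) (.node 1 (zeroT 0) (.leaf 0x80000000000000000)))) (.node 4 (.node 2 (.node 1 (.leaf 0x4000000) (.leaf 0x8000000)) (.node 1 (.leaf 0x4000000) (zeroT 0))) (.node 2 (.node 1 (.leaf 0x4000000) (zeroT 0)) (zeroT 1)))) (zeroT 4)) (zeroT 5)))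

/-- bracket with a basis vector -/
def adT27 : BT := (.node 64 (.node 32 (.node 16 (.node 8 (.node 4 (.node 2 (zeroT 1) (.node 1 (zeroT 0) (.leaf 0x1))) (zeroT 2)) (.node 4 (zeroT 2) (.node 2 (zeroT 1) (.node 1 (zeroT 0) (.leaf 0x10))))) (.node 8 (.node 4 (.node 2 (.node 1 (.leaf 0x40) (.leaf 0x60)) (.node 1 (.leaf 0x300) (.leaf 0x100))) (.node 2 (.node 1 (.leaf 0x1800) (.leaf 0x800)) (.node 1 (.leaf 0x4000) (.leaf 0x6000)))) (.node 4 (zeroT 2) (.node 2 (zeroT 1) (.node 1 (zeroT 0) (.leaf 0x1000000)))))) (.node 16 (.node 8 (.node 4 (.node 2 (.node 1 (zeroT 0) (.leaf 0x2000000)) (zeroT 1)) (.node 2 (zeroT 1) (.node 1 (.leaf 0x10000000) (zeroT 0)))) (.node 4 (.node 2 (zeroT 1) (.node 1 (zeroT 0) (.leaf 0x20000000))) (zeroT 2))) (.node 8 (.node 4 (.node 2 (zeroT 1) (.node 1 (.leaf 0x100000000) (.leaf 0x400000000))) (.node 2 (.node 1 (.leaf 0x34000000000000000000) (.leaf 0x8000000000000000000)) (.node 1 (.leaf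 0x3000000000) (.leaf 0x1000000000)))) (.node 4 (.node 2 (.node 1 (.leaf 0x8000000000) (.leaf 0x20000000000)) (.node 1 (.leaf 0x30000000000) (.leaf 0x100000000000))) (.node 2 (.node 1 (.leaf 0x400000000000) (.leaf 0x600000000000)) (.node 1 (.leaf 0x3000000000000) (.leaf 0x1000000000000))))))) (.node 32 (.node 16 (.node 8 (.node 4 (.node 2 (zeroT 1) (.node 1 (zeroT 0) (.leaf 0x10000000000000000))) (.node 2 (zeroT 1) (.node 1 (zeroT 0) (.leaf 0x100000000000000000)))) (.node 4 (.node 2 (.node 1 (.leaf 0x8000000) (.leaf 0xc000000)) (.node 1 (.leaf 0x8000000) (zeroT 0))) (.node 2 (.node 1 (.leaf 0x8000000) (zeroT 0)) (zeroT 1)))) (zeroT 4)) (zeroT 5)))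

/-- bracket with a basis vector -/
def adT28 : BT := (.node 64 (.node 32 (.node 16 (.node 8 (.node 4 (.node 2 (zeroT 1) (.node 1 (.leaf 0x1) (zeroT 0))) (zeroT 2)) (.node 4 (zeroT 2) (.node 2 (zeroT 1) (.node 1 (zeroT 0) (.leaf 0x80))))) (.node 8 (.node 4 (.node 2 (.node 1 (.leaf 0x100) (.leaf 0x200)) (zeroT 1)) (.node 2 (.node 1 (.leaf 0x2000) (.leaf 0x4000)) (zeroT 1))) (.node 4 (zeroT 2) (.node 2 (zeroT 1) (.node 1 (.leaf 0x1000000) (zeroT 0)))))) (.node 16 (.node 8 (.node 4 (.node 2 (.node 1 (zeroT 0) (.leaf 0x4000000)) (.node 1 (.leaf 0x8000000) (zeroT 0))) (zeroT 2)) (.node 4 (.node 2 (zeroT 1) (.node 1 (.leaf 0x20000000) (zeroT 0))) (zeroT 2))) (.node 8 (.node 4 (.node 2 (zeroT 1) (.node 1 (.leaf 0x800000000) (.leaf 0x24000000000000000000))) (.node 2 (.node 1 (.leaf 0x4000000000) (.leaf 0x8000000000)) (.node 1 (.leaf 0x10000000000) (.leaf 0x20000000000)))) (.node 4 (.node 2 (zeroT 1) (.node 1 (zeroT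 0) (.leaf 0x800000000000))) (.node 2 (.node 1 (.leaf 0x1000000000000) (.leaf 0x2000000000000)) (zeroT 1)))))) (.node 32 (.node 16 (.node 8 (.node 4 (.node 2 (zeroT 1) (.node 1 (.leaf 0x10000000000000000) (zeroT 0))) (.node 2 (zeroT 1) (.node 1 (zeroT 0) (.leaf 0x200000000000000000)))) (.node 4 (.node 2 (zeroT 1) (.node 1 (.leaf 0x10000000) (zeroT 0))) (.node 2 (.node 1 (.leaf 0x10000000) (.leaf 0x10000000)) (zeroT 1)))) (zeroT 4)) (zeroT 5)))

/-- bracket with a basis vector -/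
def adT29 : BT := (.node 64 (.node 32 (.node 16 (.node 8 (.node 4 (.node 2 (.node 1 (zeroT 0) (.leaf 0x1)) (zeroT 1)) (zeroT 2)) (.node 4 (zeroT 2) (.node 2 (zeroT 1) (.node 1 (zeroT 0) (.leaf 0x400))))) (.node 8 (.node 4 (.node 2 (.node 1 (.leaf 0x800) (.leaf 0x1000)) (.node 1 (.leaf 0x2000) (.leaf 0x4000))) (zeroT 2)) (.node 4 (zeroT 2) (.node 2 (zeroT 1) (.node 1 (.leaf 0x2000000) (.leaf 0x4000000)))))) (.node 16 (.node 8 (.node 4 (.node 2 (.node 1 (.leaf 0x8000000) (zeroT 0)) (.node 1 (zeroT 0) (.leaf 0x10000000))) (zeroT 2)) (zeroT 3)) (.node 8 (.node 4 (.node 2 (zeroT 1) (.node 1 (.leaf 0x4000000000000000000) (.leaf 0x40000000000))) (.node 2 (.node 1 (.leaf 0x80000000000) (.leaf 0x100000000000)) (.node 1 (.leaf 0x200000000000) (.leaf 0x400000000000)))) (.node 4 (.node 2 (.node 1 (.leaf 0x800000000000) (.leaf 0x1000000000000)) (.node 1 (.leaf 0x2000000000000) (zeroT 0))) (zeroT 2))))) (.node 32 (.node 16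 (.node 8 (.node 4 (.node 2 (.node 1 (zeroT 0) (.leaf 0x10000000000000000)) (zeroT 1)) (.node 2 (zeroT 1) (.node 1 (zeroT 0) (.leaf 0x400000000000000000)))) (.node 4 (zeroT 2) (.node 2 (.node 1 (zeroT 0) (.leaf 0x20000000)) (zeroT 1)))) (zeroT 4)) (zeroT 5)))

/-- bracket with a basis vector -/
def adT30 : BT := (.node 64 (.node 32 (.node 16 (.node 8 (.node 4 (zeroT 2) (.node 2 (zeroT 1) (.node 1 (zeroT 0) (.leaf 0x2)))) (.node 4 (.node 2 (zeroT 1) (.node 1 (.leaf 0x4) (zeroT 0))) (.node 2 (.node 1 (zeroT 0) (.leaf 0x20)) (.node 1 (.leaf 0x40) (zeroT 0))))) (.node 8 (.node 4 (zeroT 2) (.node 2 (zeroT 1) (.node 1 (.leaf 0x10000) (.leaf 0x20000)))) (.node 4 (zeroT 2) (.node 2 (.node 1 (.leaf 0x1000000) (.leaf 0x2000000)) (zeroT 1))))) (.node 16 (.node 8 (.node 4 (zeroT 2) (.node 2 (zeroT 1) (.node 1 (.leaf 0x80000000) (.leaf 0x100000000)))) (.node 4 (.node 2 (zeroT 1) (.node 1 (zeroT 0) (.leaf 0x200000000))) (.node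 2 (.node 1 (.leaf 0x400000000) (zeroT 0)) (.node 1 (zeroT 0) (.leaf 0x28000000000000000000))))) (.node 8 (.node 4 (.node 2 (.node 1 (.leaf 0x1000000000) (.leaf 0x2000000000)) (zeroT 1)) (zeroT 2)) (.node 4 (.node 2 (.node 1 (.leaf 0x4000000000000) (zeroT 0)) (.node 1 (zeroT 0) (.leaf 0x8000000000000))) (.node 2 (zeroT 1) (.node 1 (.leaf 0x40000000000000) (.leaf 0x80000000000000))))))) (.node 32 (.node 16 (.node 8 (.node 4 (zeroT 2) (.node 2 (.node 1 (zeroT 0) (.leaf 0x20000000000000000)) (.node 1 (.leaf 0x40000000000000000) (zeroT 0)))) (.node 4 (.node 2 (.node 1 (zeroT 0) (.leaf 0x40000000)) (.node 1 (.leaf 0x40000000) (zeroT 0))) (.node 2 (.node 1 (.leaf 0x40000000) (zeroT 0)) (zeroT 1)))) (zeroT 4)) (zeroT 5)))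

/-- bracket with a basis vector -/
def adT31 : BT := (.node 64 (.node 32 (.node 16 (.node 8 (.node 4 (zeroT 2) (.node 2 (.node 1 (.leaf 0x2) (zeroT 0)) (zeroT 1))) (.node 4 (.node 2 (zeroT 1) (.node 1 (.leaf 0x8) (.leaf 0x20))) (.node 2 (.node 1 (.leaf 0x40) (.leaf 0x100)) (.node 1 (.leaf 0x200) (zeroT 0))))) (.node 8 (.node 4 (zeroT 2) (.node 2 (.node 1 (.leaf 0x10000) (.leaf 0x20000)) (.node 1 (.leaf 0x40000) (.leaf 0x80000)))) (.node 4 (.node 2 (zeroT 1) (.node 1 (zeroT 0) (.leaf 0x1000000))) (.node 2 (.node 1 (zeroT 0) (.leaf 0x4000000)) (zeroT 1))))) (.node 16 (.node 8 (.node 4 (.node 2 (zeroT 1) (.node 1 (.leaf 0x40000000) (zeroT 0))) (.node 2 (zeroT 1) (.node 1 (zeroT 0) (.leaf 0x800000000)))) (.node 4 (.node 2 (zeroT 1) (.node 1 (.leaf 0x200000000) (.leaf 0x8000000000000000000))) (.node 2 (.node 1 (.leaf 0x38000000000000000000) (.leaf 0x1000000000)) (.node 1 (.leaf 0x2000000000) (.leaf 0x4000000000)))))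 (.node 8 (.node 4 (.node 2 (.node 1 (.leaf 0x10000000000) (.leaf 0x20000000000)) (zeroT 1)) (.node 2 (.node 1 (zeroT 0) (.leaf 0x4000000000000)) (zeroT 1))) (.node 4 (.node 2 (zeroT 1) (.node 1 (zeroT 0) (.leaf 0x10000000000000))) (.node 2 (.node 1 (.leaf 0x40000000000000) (.leaf 0x80000000000000)) (.node 1 (.leaf 0x200000000000000) (.leaf 0x400000000000000))))))) (.node 32 (.node 16 (.node 8 (.node 4 (zeroT 2) (.node 2 (.node 1 (.leaf 0x20000000000000000) (zeroT 0)) (.node 1 (.leaf 0x80000000000000000) (zeroT 0)))) (.node 4 (.node 2 (.node 1 (.leaf 0x80000000) (.leaf 0x100000000)) (.node 1 (.leaf 0x80000000) (zeroT 0))) (.node 2 (.node 1 (.leaf 0x80000000) (.leaf 0x80000000)) (zeroT 1)))) (zeroT 4)) (zeroT 5)))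

/-- bracket with a basis vector -/
def adT32 : BT := (.node 64 (.node 32 (.node 16 (.node 8 (.node 4 (.node 2 (zeroT 1) (.node 1 (zeroT 0) (.leaf 0x2))) (zeroT 2)) (.node 4 (.node 2 (zeroT 1) (.node 1 (.leaf 0x10) (.leaf 0x40))) (.node 2 (.node 1 (.leaf 0x60) (.leaf 0x300)) (.node 1 (.leaf 0x100) (zeroT 0))))) (.node 8 (.node 4 (zeroT 2) (.node 2 (.node 1 (.leaf 0x30000) (.leaf 0x10000)) (.node 1 (.leaf 0x80000) (.leaf 0xc0000)))) (.node 4 (.node 2 (zeroT 1) (.node 1 (.leaf 0x1000000) (zeroT 0))) (.node 2 (.node 1 (zeroT 0) (.leaf 0x8000000)) (zeroT 1))))) (.node 16 (.node 8 (.node 4 (.node 2 (.node 1 (zeroT 0) (.leaf 0x40000000)) (zeroT 1)) (.node 2 (zeroT 1) (.node 1 (.leaf 0x800000000) (zeroT 0)))) (.node 4 (.node 2 (zeroT 1) (.node 1 (.leaf 0x400000000) (.leaf 0x30000000000000000000))) (.node 2 (.node 1 (.leaf 0x8000000000000000000) (.leaf 0x3000000000)) (.node 1 (.leaf 0x1000000000) (.leaf 0x8000000000)))))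 (.node 8 (.node 4 (.node 2 (.node 1 (.leaf 0x20000000000) (.leaf 0x30000000000)) (zeroT 1)) (.node 2 (.node 1 (.leaf 0x4000000000000) (zeroT 0)) (zeroT 1))) (.node 4 (.node 2 (zeroT 1) (.node 1 (zeroT 0) (.leaf 0x20000000000000))) (.node 2 (.node 1 (.leaf 0x80000000000000) (.leaf 0xc0000000000000)) (.node 1 (.leaf 0x600000000000000) (.leaf 0x200000000000000))))))) (.node 32 (.node 16 (.node 8 (.node 4 (.node 2 (zeroT 1) (.node 1 (zeroT 0) (.leaf 0x20000000000000000))) (.node 2 (zeroT 1) (.node 1 (.leaf 0x100000000000000000) (zeroT 0)))) (.node 4 (.node 2 (.node 1 (.leaf 0x100000000) (.leaf 0x180000000)) (.node 1 (.leaf 0x100000000) (zeroT 0))) (.node 2 (.node 1 (.leaf 0x100000000) (.leaf 0x100000000)) (zeroT 1)))) (zeroT 4)) (zeroT 5)))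

/-- bracket with a basis vector -/
def adT33 : BT := (.node 64 (.node 32 (.node 16 (.node 8 (.node 4 (zeroT 2) (.node 2 (.node 1 (.leaf 0x4) (zeroT 0)) (.node 1 (zeroT 0) (.leaf 0x8)))) (.node 4 (.node 2 (.node 1 (.leaf 0x20) (.leaf 0x40)) (zeroT 1)) (.node 2 (.node 1 (zeroT 0) (.leaf 0x800)) (.node 1 (.leaf 0x1000) (zeroT 0))))) (.node 8 (.node 4 (.node 2 (zeroT 1) (.node 1 (.leaf 0x10000) (.leaf 0x20000))) (.node 2 (zeroT 1) (.node 1 (.leaf 0x100000) (.leaf 0x200000)))) (.node 4 (.node 2 (zeroT 1) (.node 1 (zeroT 0) (.leaf 0x2000000))) (.node 2 (.node 1 (.leaf 0x4000000) (zeroT 0)) (zeroT 1))))) (.node 16 (.node 8 (.node 4 (.node 2 (.node 1 (.leaf 0x40000000) (zeroT 0)) (.node 1 (zeroT 0) (.leaf 0x80000000))) (.node 2 (zeroT 1) (.node 1 (.leaf 0x8000000000000000000) (.leaf 0x18000000000000000000)))) (.node 4 (.node 2 (.node 1 (.leaf 0x1000000000) (.leaf 0x2000000000)) (zeroT 1)) (.node 2 (.node 1 (.leaf 0x40000000000)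 (zeroT 0)) (.node 1 (zeroT 0) (.leaf 0x80000000000))))) (.node 8 (.node 4 (.node 2 (.node 1 (.leaf 0x200000000000) (.leaf 0x400000000000)) (zeroT 1)) (.node 2 (.node 1 (zeroT 0) (.leaf 0x8000000000000)) (zeroT 1))) (.node 4 (.node 2 (.node 1 (.leaf 0x10000000000000) (.leaf 0x40000000000000)) (.node 1 (.leaf 0x80000000000000) (zeroT 0))) (.node 2 (zeroT 1) (.node 1 (.leaf 0x1000000000000000) (.leaf 0x2000000000000000))))))) (.node 32 (.node 16 (.node 8 (.node 4 (zeroT 2) (.node 2 (.node 1 (.leaf 0x40000000000000000) (.leaf 0x80000000000000000)) (zeroT 1))) (.node 4 (.node 2 (.node 1 (.leaf 0x200000000) (.leaf 0x400000000)) (zeroT 1)) (.node 2 (.node 1 (zeroT 0) (.leaf 0x200000000)) (zeroT 1)))) (zeroT 4)) (zeroT 5)))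

/-- bracket with a basis vector -/
def adT34 : BT := (.node 64 (.node 32 (.node 16 (.node 8 (.node 4 (.node 2 (zeroT 1) (.node 1 (zeroT 0) (.leaf 0x4))) (.node 2 (zeroT 1) (.node 1 (zeroT 0) (.leaf 0x10)))) (.node 4 (.node 2 (.node 1 (.leaf 0x40) (.leaf 0x60)) (zeroT 1)) (.node 2 (.node 1 (zeroT 0) (.leaf 0x1800)) (.node 1 (.leaf 0x800) (zeroT 0))))) (.node 8 (.node 4 (.node 2 (zeroT 1) (.node 1 (.leaf 0x30000) (.leaf 0x10000))) (.node 2 (zeroT 1) (.node 1 (.leaf 0x200000) (.leaf 0x300000)))) (.node 4 (.node 2 (zeroT 1) (.node 1 (.leaf 0x2000000) (zeroT 0))) (.node 2 (.node 1 (.leaf 0x8000000) (zeroT 0)) (.node 1 (zeroT 0) (.leaf 0x40000000)))))) (.node 16 (.node 8 (.node 4 (.node 2 (zeroT 1) (.node 1 (zeroT 0) (.leaf 0x100000000))) (.node 2 (zeroT 1) (.node 1 (.leaf 0x10000000000000000000) (.leaf 0x8000000000000000000)))) (.node 4 (.node 2 (.node 1 (.leaf 0x3000000000) (.leaf 0x1000000000)) (.node 1 (zeroT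 0) (.leaf 0x40000000000))) (.node 2 (zeroT 1) (.node 1 (zeroT 0) (.leaf 0x100000000000))))) (.node 8 (.node 4 (.node 2 (.node 1 (.leaf 0x400000000000) (.leaf 0x600000000000)) (zeroT 1)) (.node 2 (.node 1 (.leaf 0x8000000000000) (zeroT 0)) (zeroT 1))) (.node 4 (.node 2 (.node 1 (.leaf 0x20000000000000) (.leaf 0x80000000000000)) (.node 1 (.leaf 0xc0000000000000) (zeroT 0))) (.node 2 (zeroT 1) (.node 1 (.leaf 0x3000000000000000) (.leaf 0x1000000000000000))))))) (.node 32 (.node 16 (.node 8 (.node 4 (.node 2 (zeroT 1) (.node 1 (zeroT 0) (.leaf 0x40000000000000000))) (.node 2 (.node 1 (zeroT 0) (.leaf 0x100000000000000000)) (zeroT 1))) (.node 4 (.node 2 (.node 1 (.leaf 0x400000000) (.leaf 0x600000000)) (zeroT 1)) (.node 2 (.node 1 (zeroT 0) (.leaf 0x400000000)) (zeroT 1)))) (zeroT 4)) (zeroT 5)))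

/-- bracket with a basis vector -/
def adT35 : BT := (.node 64 (.node 32 (.node 16 (.node 8 (.node 4 (.node 2 (zeroT 1) (.node 1 (.leaf 0x2) (zeroT 0))) (zeroT 2)) (.node 4 (.node 2 (zeroT 1) (.node 1 (.leaf 0x80) (.leaf 0x100))) (.node 2 (.node 1 (.leaf 0x200) (zeroT 0)) (zeroT 1)))) (.node 8 (.node 4 (zeroT 2) (.node 2 (.node 1 (.leaf 0x40000) (.leaf 0x80000)) (zeroT 1))) (.node 4 (.node 2 (.node 1 (zeroT 0) (.leaf 0x1000000)) (zeroT 1)) (.node 2 (.node 1 (zeroT 0) (.leaf 0x10000000)) (zeroT 1))))) (.node 16 (.node 8 (.node 4 (.node 2 (.node 1 (zeroT 0) (.leaf 0x80000000)) (.node 1 (.leaf 0x100000000) (zeroT 0))) (zeroT 2)) (.node 4 (.node 2 (zeroT 1) (.node 1 (.leaf 0x20000000000000000000) (.leaf 0x4000000000))) (.node 2 (.node 1 (.leaf 0x8000000000) (.leaf 0x10000000000)) (.node 1 (.leaf 0x20000000000) (zeroT 0))))) (.node 8 (.node 4 (.node 2 (zeroT 1) (.node 1 (zeroT 0) (.leaf 0x4000000000000))) (zeroT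 2)) (.node 4 (.node 2 (zeroT 1) (.node 1 (zeroT 0) (.leaf 0x100000000000000))) (.node 2 (.node 1 (.leaf 0x200000000000000) (.leaf 0x400000000000000)) (zeroT 1)))))) (.node 32 (.node 16 (.node 8 (.node 4 (.node 2 (zeroT 1) (.node 1 (.leaf 0x20000000000000000) (zeroT 0))) (.node 2 (zeroT 1) (.node 1 (.leaf 0x200000000000000000) (zeroT 0)))) (.node 4 (.node 2 (zeroT 1) (.node 1 (.leaf 0x800000000) (zeroT 0))) (.node 2 (.node 1 (.leaf 0x800000000) (zeroT 0)) (zeroT 1)))) (zeroT 4)) (zeroT 5)))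

/-- bracket with a basis vector -/
def adT36 : BT := (.node 64 (.node 32 (.node 16 (.node 8 (.node 4 (.node 2 (zeroT 1) (.node 1 (zeroT 0) (.leaf 0x20))) (.node 2 (.node 1 (.leaf 0x40) (zeroT 0)) (.node 1 (zeroT 0) (.leaf 0x100)))) (.node 4 (.node 2 (.node 1 (zeroT 0) (.leaf 0x1000000)) (.node 1 (.leaf 0x800) (zeroT 0))) (.node 2 (.node 1 (.leaf 0x2000000) (.leaf 0x4000000)) (.node 1 (.leaf 0x8000000) (.leaf 0x10000))))) (.node 8 (.node 4 (.node 2 (.node 1 (zeroT 0) (.leaf 0x40000000)) (.node 1 (.leaf 0x80000000) (.leaf 0x100000000))) (.node 2 (.node 1 (.leaf 0x200000000) (.leaf 0x400000000)) (.node 1 (.leaf 0x1000000000000000000) (.leaf 0x2000000000000000000)))) (zeroT 3))) (.node 16 (.node 8 (.node 4 (zeroT 2) (.node 2 (zeroT 1) (.node 1 (.leaf 0x10000000000) (.leaf 0x20000000000)))) (.node 4 (.node 2 (zeroT 1) (.node 1 (zeroT 0) (.leaf 0x200000000000))) (.node 2 (.node 1 (.leaf 0x400000000000) (zeroT 0))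 (.node 1 (zeroT 0) (.leaf 0x1000000000000))))) (.node 8 (.node 4 (.node 2 (.node 1 (zeroT 0) (.leaf 0x10000000000000000)) (zeroT 1)) (.node 2 (.node 1 (.leaf 0x40000000000000) (.leaf 0x80000000000000)) (zeroT 1))) (.node 4 (.node 2 (.node 1 (.leaf 0x200000000000000) (zeroT 0)) (.node 1 (.leaf 0x20000000000000000) (.leaf 0x1000000000000000))) (.node 2 (.node 1 (zeroT 0) (.leaf 0x40000000000000000)) (.node 1 (.leaf 0x80000000000000000) (.leaf 0x100000000000000000))))))) (.node 32 (.node 16 (.node 8 (zeroT 3) (.node 4 (.node 2 (zeroT 1) (.node 1 (zeroT 0) (.leaf 0x1000000000))) (.node 2 (.node 1 (.leaf 0x3000000000) (zeroT 0)) (zeroT 1)))) (zeroT 4)) (zeroT 5)))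

/-- bracket with a basis vector -/
def adT37 : BT := (.node 64 (.node 32 (.node 16 (.node 8 (.node 4 (.node 2 (zeroT 1) (.node 1 (zeroT 0) (.leaf 0x40))) (.node 2 (.node 1 (.leaf 0x60) (zeroT 0)) (.node 1 (zeroT 0) (.leaf 0x200)))) (.node 4 (.node 2 (.node 1 (.leaf 0x1000000) (zeroT 0)) (.node 1 (.leaf 0x1000) (.leaf 0x2000000))) (.node 2 (.node 1 (zeroT 0) (.leaf 0xc000000)) (.node 1 (.leaf 0x4000000) (.leaf 0x20000))))) (.node 8 (.node 4 (.node 2 (.node 1 (.leaf 0x40000000) (zeroT 0)) (.node 1 (.leaf 0x180000000) (.leaf 0x80000000))) (.node 2 (.node 1 (.leaf 0x600000000) (.leaf 0x200000000)) (.node 1 (.leaf 0x3000000000000000000) (.leaf 0x1000000000000000000)))) (zeroT 3))) (.node 16 (.node 8 (.node 4 (zeroT 2) (.node 2 (zeroT 1) (.node 1 (.leaf 0x20000000000) (.leaf 0x30000000000)))) (.node 4 (.node 2 (zeroT 1) (.node 1 (zeroT 0) (.leaf 0x400000000000))) (.node 2 (.node 1 (.leaf 0x600000000000) (zeroT 0))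 (.node 1 (zeroT 0) (.leaf 0x2000000000000))))) (.node 8 (.node 4 (.node 2 (.node 1 (.leaf 0x10000000000000000) (zeroT 0)) (zeroT 1)) (.node 2 (.node 1 (.leaf 0x80000000000000) (.leaf 0xc0000000000000)) (zeroT 1))) (.node 4 (.node 2 (.node 1 (.leaf 0x400000000000000) (.leaf 0x20000000000000000)) (.node 1 (zeroT 0) (.leaf 0x2000000000000000))) (.node 2 (.node 1 (.leaf 0x40000000000000000) (zeroT 0)) (.node 1 (.leaf 0x180000000000000000) (.leaf 0x80000000000000000))))))) (.node 32 (.node 16 (.node 8 (zeroT 3) (.node 4 (.node 2 (zeroT 1) (.node 1 (zeroT 0) (.leaf 0x2000000000))) (.node 2 (.node 1 (.leaf 0x1000000000) (zeroT 0)) (zeroT 1)))) (zeroT 4)) (zeroT 5)))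

/-- bracket with a basis vector -/
def adT38 : BT := (.node 64 (.node 32 (.node 16 (.node 8 (.node 4 (.node 2 (zeroT 1) (.node 1 (.leaf 0x8) (zeroT 0))) (.node 2 (.node 1 (.leaf 0x80) (.leaf 0x100)) (.node 1 (.leaf 0x200) (zeroT 0)))) (.node 4 (.node 2 (zeroT 1) (.node 1 (zeroT 0) (.leaf 0x2000))) (.node 2 (.node 1 (.leaf 0x4000) (zeroT 0)) (zeroT 1)))) (.node 8 (.node 4 (.node 2 (.node 1 (.leaf 0x40000) (.leaf 0x80000)) (zeroT 1)) (.node 2 (.node 1 (.leaf 0x400000) (.leaf 0x800000)) (zeroT 1))) (.node 4 (.node 2 (.node 1 (zeroT 0) (.leaf 0x4000000)) (.node 1 (zeroT 0) (.leaf 0x10000000))) (.node 2 (zeroT 1) (.node 1 (.leaf 0x80000000) (zeroT 0)))))) (.node 16 (.node 8 (.node 4 (.node 2 (.node 1 (.leaf 0x800000000) (.leaf 0x8000000000000000000)) (.node 1 (.leaf 0x10000000000000000000) (zeroT 0))) (.node 2 (.node 1 (.leaf 0x10000000000) (.leaf 0x20000000000)) (zeroT 1))) (.node 4 (.node 2 (zeroT 1) (.node 1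 (.leaf 0x80000000000) (zeroT 0))) (.node 2 (.node 1 (.leaf 0x800000000000) (.leaf 0x1000000000000)) (.node 1 (.leaf 0x2000000000000) (zeroT 0))))) (.node 8 (.node 4 (.node 2 (zeroT 1) (.node 1 (zeroT 0) (.leaf 0x10000000000000))) (.node 2 (.node 1 (zeroT 0) (.leaf 0x100000000000000)) (.node 1 (.leaf 0x200000000000000) (.leaf 0x400000000000000)))) (.node 4 (zeroT 2) (.node 2 (.node 1 (.leaf 0x4000000000000000) (.leaf 0x8000000000000000)) (zeroT 1)))))) (.node 32 (.node 16 (.node 8 (.node 4 (.node 2 (zeroT 1) (.node 1 (.leaf 0x80000000000000000) (zeroT 0))) (.node 2 (.node 1 (.leaf 0x200000000000000000) (zeroT 0)) (zeroT 1))) (.node 4 (.node 2 (.node 1 (.leaf 0x4000000000) (.leaf 0xc000000000)) (zeroT 1)) (.node 2 (.node 1 (zeroT 0) (.leaf 0x4000000000)) (zeroT 1)))) (zeroT 4)) (zeroT 5)))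

/-- bracket with a basis vector -/
def adT39 : BT := (.node 64 (.node 32 (.node 16 (.node 8 (.node 4 (.node 2 (zeroT 1) (.node 1 (.leaf 0x10) (.leaf 0x80))) (.node 2 (.node 1 (zeroT 0) (.leaf 0x300)) (.node 1 (.leaf 0x100) (zeroT 0)))) (.node 4 (.node 2 (zeroT 1) (.node 1 (zeroT 0) (.leaf 0x4000))) (.node 2 (.node 1 (.leaf 0x6000) (zeroT 0)) (zeroT 1)))) (.node 8 (.node 4 (.node 2 (.node 1 (.leaf 0x80000) (.leaf 0xc0000)) (zeroT 1)) (.node 2 (.node 1 (.leaf 0xc00000) (.leaf 0x400000)) (zeroT 1))) (.node 4 (.node 2 (.node 1 (zeroT 0) (.leaf 0x8000000)) (.node 1 (.leaf 0x10000000) (zeroT 0))) (.node 2 (zeroT 1) (.node 1 (.leaf 0x100000000) (.leaf 0x800000000)))))) (.node 16 (.node 8 (.node 4 (.node 2 (.node 1 (zeroT 0) (.leaf 0x18000000000000000000)) (.node 1 (.leaf 0x8000000000000000000) (zeroT 0))) (.node 2 (.node 1 (.leaf 0x20000000000) (.leaf 0x30000000000)) (zeroT 1))) (.node 4 (.node 2 (zeroT 1) (.node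 1 (.leaf 0x100000000000) (.leaf 0x800000000000))) (.node 2 (.node 1 (zeroT 0) (.leaf 0x3000000000000)) (.node 1 (.leaf 0x1000000000000) (zeroT 0))))) (.node 8 (.node 4 (.node 2 (zeroT 1) (.node 1 (zeroT 0) (.leaf 0x20000000000000))) (.node 2 (.node 1 (.leaf 0x100000000000000) (zeroT 0)) (.node 1 (.leaf 0x600000000000000) (.leaf 0x200000000000000)))) (.node 4 (zeroT 2) (.node 2 (.node 1 (.leaf 0x8000000000000000) (.leaf 0xc000000000000000)) (zeroT 1)))))) (.node 32 (.node 16 (.node 8 (.node 4 (.node 2 (zeroT 1) (.node 1 (.leaf 0x100000000000000000) (.leaf 0x200000000000000000))) (zeroT 2)) (.node 4 (.node 2 (.node 1 (.leaf 0x8000000000) (.leaf 0x4000000000)) (zeroT 1)) (.node 2 (.node 1 (zeroT 0) (.leaf 0x8000000000)) (zeroT 1)))) (zeroT 4)) (zeroT 5)))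

/-- bracket with a basis vector -/
def adT40 : BT := (.node 64 (.node 32 (.node 16 (.node 8 (.node 4 (.node 2 (zeroT 1) (.node 1 (.leaf 0x20) (.leaf 0x100))) (.node 2 (.node 1 (.leaf 0x300) (zeroT 0)) (.node 1 (.leaf 0x1000000) (zeroT 0)))) (.node 4 (.node 2 (zeroT 1) (.node 1 (.leaf 0x2000) (.leaf 0x4000000))) (.node 2 (.node 1 (.leaf 0xc000000) (zeroT 0)) (.node 1 (.leaf 0x10000000) (.leaf 0x40000))))) (.node 8 (.node 4 (.node 2 (.node 1 (.leaf 0x80000000) (.leaf 0x180000000)) (.node 1 (zeroT 0) (.leaf 0x800000000))) (.node 2 (.node 1 (.leaf 0x9000000000000000000) (.leaf 0x12000000000000000000)) (.node 1 (.leaf 0x4000000000) (.leaf 0xc000000000)))) (zeroT 3))) (.node 16 (.node 8 (.node 4 (.node 2 (.node 1 (zeroT 0) (.leaf 0x1000000000)) (.node 1 (.leaf 0x3000000000) (zeroT 0))) (zeroT 2)) (.node 4 (.node 2 (zeroT 1) (.node 1 (.leaf 0x200000000000) (.leaf 0x1000000000000))) (.node 2 (.node 1 (.leaf 0x3000000000000)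 (zeroT 0)) (.node 1 (.leaf 0x10000000000000000) (zeroT 0))))) (.node 8 (.node 4 (.node 2 (zeroT 1) (.node 1 (zeroT 0) (.leaf 0x40000000000000))) (.node 2 (.node 1 (.leaf 0x200000000000000) (.leaf 0x600000000000000)) (.node 1 (zeroT 0) (.leaf 0x20000000000000000)))) (.node 4 (.node 2 (zeroT 1) (.node 1 (zeroT 0) (.leaf 0x4000000000000000))) (.node 2 (.node 1 (.leaf 0x80000000000000000) (.leaf 0x180000000000000000)) (.node 1 (zeroT 0) (.leaf 0x200000000000000000))))))) (.node 32 (.node 16 (.node 8 (zeroT 3) (.node 4 (.node 2 (.node 1 (.leaf 0x10000000000) (.leaf 0x30000000000)) (.node 1 (zeroT 0) (.leaf 0x10000000000))) (.node 2 (.node 1 (.leaf 0x30000000000) (.leaf 0x10000000000)) (zeroT 1)))) (zeroT 4)) (zeroT 5)))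

/-- bracket with a basis vector -/
def adT41 : BT := (.node 64 (.node 32 (.node 16 (.node 8 (.node 4 (.node 2 (zeroT 1) (.node 1 (.leaf 0x40) (.leaf 0x200))) (.node 2 (.node 1 (.leaf 0x100) (.leaf 0x1000000)) (zeroT 1))) (.node 4 (.node 2 (zeroT 1) (.node 1 (.leaf 0x4000) (.leaf 0x8000000))) (.node 2 (.node 1 (.leaf 0x4000000) (.leaf 0x10000000)) (.node 1 (zeroT 0) (.leaf 0x80000))))) (.node 8 (.node 4 (.node 2 (.node 1 (.leaf 0x100000000) (.leaf 0x80000000)) (.node 1 (.leaf 0x800000000) (zeroT 0))) (.node 2 (.node 1 (.leaf 0x1b000000000000000000) (.leaf 0x9000000000000000000)) (.node 1 (.leaf 0x8000000000) (.leaf 0x4000000000)))) (zeroT 3))) (.node 16 (.node 8 (.node 4 (.node 2 (.node 1 (zeroT 0) (.leaf 0x2000000000)) (.node 1 (.leaf 0x1000000000) (zeroT 0))) (zeroT 2)) (.node 4 (.node 2 (zeroT 1) (.node 1 (.leaf 0x400000000000) (.leaf 0x2000000000000))) (.node 2 (.node 1 (.leaf 0x1000000000000) (.leaf 0x10000000000000000))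 (zeroT 1)))) (.node 8 (.node 4 (.node 2 (zeroT 1) (.node 1 (zeroT 0) (.leaf 0x80000000000000))) (.node 2 (.node 1 (.leaf 0x400000000000000) (.leaf 0x200000000000000)) (.node 1 (.leaf 0x20000000000000000) (zeroT 0)))) (.node 4 (.node 2 (zeroT 1) (.node 1 (zeroT 0) (.leaf 0x8000000000000000))) (.node 2 (.node 1 (.leaf 0x100000000000000000) (.leaf 0x80000000000000000)) (.node 1 (.leaf 0x200000000000000000) (zeroT 0))))))) (.node 32 (.node 16 (.node 8 (zeroT 3) (.node 4 (.node 2 (.node 1 (.leaf 0x20000000000) (.leaf 0x10000000000)) (.node 1 (zeroT 0) (.leaf 0x20000000000))) (.node 2 (.node 1 (.leaf 0x10000000000) (.leaf 0x20000000000)) (zeroT 1)))) (zeroT 4)) (zeroT 5)))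

/-- bracket with a basis vector -/
def adT42 : BT := (.node 64 (.node 32 (.node 16 (.node 8 (.node 4 (.node 2 (.node 1 (zeroT 0) (.leaf 0x4)) (zeroT 1)) (.node 2 (zeroT 1) (.node 1 (zeroT 0) (.leaf 0x400)))) (.node 4 (.node 2 (.node 1 (.leaf 0x800) (.leaf 0x1000)) (zeroT 1)) (zeroT 2))) (.node 8 (.node 4 (.node 2 (zeroT 1) (.node 1 (.leaf 0x100000) (.leaf 0x200000))) (zeroT 2)) (.node 4 (.node 2 (.node 1 (.leaf 0x2000000) (zeroT 0)) (zeroT 1)) (.node 2 (.node 1 (.leaf 0x20000000) (zeroT 0)) (.node 1 (zeroT 0) (.leaf 0x200000000)))))) (.node 16 (.node 8 (.node 4 (.node 2 (.node 1 (.leaf 0x400000000) (zeroT 0)) (.node 1 (zeroT 0) (.leaf 0x20000000000000000000))) (.node 2 (zeroT 1) (.node 1 (.leaf 0x80000000000) (.leaf 0x100000000000)))) (.node 4 (.node 2 (.node 1 (.leaf 0x200000000000) (.leaf 0x400000000000)) (zeroT 1)) (zeroT 2))) (.node 8 (.node 4 (.node 2 (zeroT 1) (.node 1 (.leaf 0x8000000000000) (zeroT 0)))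 (zeroT 2)) (.node 4 (.node 2 (.node 1 (.leaf 0x800000000000000) (.leaf 0x1000000000000000)) (.node 1 (.leaf 0x2000000000000000) (zeroT 0))) (zeroT 2))))) (.node 32 (.node 16 (.node 8 (.node 4 (.node 2 (.node 1 (zeroT 0) (.leaf 0x40000000000000000)) (zeroT 1)) (.node 2 (.node 1 (zeroT 0) (.leaf 0x400000000000000000)) (zeroT 1))) (.node 4 (.node 2 (zeroT 1) (.node 1 (.leaf 0x40000000000) (zeroT 0))) (.node 2 (.node 1 (.leaf 0x40000000000) (zeroT 0)) (zeroT 1)))) (zeroT 4)) (zeroT 5)))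

/-- bracket with a basis vector -/
def adT43 : BT := (.node 64 (.node 32 (.node 16 (.node 8 (.node 4 (.node 2 (.node 1 (zeroT 0) (.leaf 0x8)) (zeroT 1)) (.node 2 (.node 1 (.leaf 0x400) (.leaf 0x800)) (.node 1 (.leaf 0x1000) (zeroT 0)))) (.node 4 (.node 2 (.node 1 (.leaf 0x2000) (.leaf 0x4000)) (zeroT 1)) (zeroT 2))) (.node 8 (.node 4 (.node 2 (.node 1 (.leaf 0x100000) (.leaf 0x200000)) (.node 1 (.leaf 0x400000) (.leaf 0x800000))) (zeroT 2)) (.node 4 (.node 2 (.node 1 (.leaf 0x4000000) (zeroT 0)) (.node 1 (zeroT 0) (.leaf 0x20000000))) (.node 2 (zeroT 1) (.node 1 (.leaf 0x200000000) (.leaf 0x8000000000000000000)))))) (.node 16 (.node 8 (.node 4 (.node 2 (.node 1 (.leaf 0x30000000000000000000) (zeroT 0)) (.node 1 (.leaf 0x40000000000) (.leaf 0x4000000000))) (.node 2 (.node 1 (.leaf 0x200000000000) (.leaf 0x400000000000)) (.node 1 (zeroT 0) (.leaf 0x800000000000)))) (.node 4 (.node 2 (.node 1 (.leaf 0x1000000000000)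 (.leaf 0x2000000000000)) (zeroT 1)) (zeroT 2))) (.node 8 (.node 4 (.node 2 (zeroT 1) (.node 1 (.leaf 0x10000000000000) (zeroT 0))) (.node 2 (.node 1 (zeroT 0) (.leaf 0x800000000000000)) (.node 1 (.leaf 0x1000000000000000) (.leaf 0x2000000000000000)))) (.node 4 (.node 2 (.node 1 (zeroT 0) (.leaf 0x4000000000000000)) (.node 1 (.leaf 0x8000000000000000) (zeroT 0))) (zeroT 2))))) (.node 32 (.node 16 (.node 8 (.node 4 (.node 2 (.node 1 (zeroT 0) (.leaf 0x80000000000000000)) (zeroT 1)) (.node 2 (.node 1 (.leaf 0x400000000000000000) (zeroT 0)) (zeroT 1))) (.node 4 (.node 2 (.node 1 (.leaf 0x80000000000) (.leaf 0x180000000000)) (.node 1 (.leaf 0x80000000000) (zeroT 0))) (.node 2 (.node 1 (.leaf 0x80000000000) (.leaf 0x80000000000)) (zeroT 1)))) (zeroT 4)) (zeroT 5)))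

/-- bracket with a basis vector -/
def adT44 : BT := (.node 64 (.node 32 (.node 16 (.node 8 (.node 4 (.node 2 (.node 1 (zeroT 0) (.leaf 0x10)) (.node 1 (zeroT 0) (.leaf 0x400))) (.node 2 (.node 1 (zeroT 0) (.leaf 0x1800)) (.node 1 (.leaf 0x800) (zeroT 0)))) (.node 4 (.node 2 (.node 1 (.leaf 0x4000) (.leaf 0x6000)) (zeroT 1)) (zeroT 2))) (.node 8 (.node 4 (.node 2 (.node 1 (.leaf 0x200000) (.leaf 0x300000)) (.node 1 (.leaf 0xc00000) (.leaf 0x400000))) (zeroT 2)) (.node 4 (.node 2 (.node 1 (.leaf 0x8000000) (zeroT 0)) (.node 1 (.leaf 0x20000000) (zeroT 0))) (.node 2 (zeroT 1) (.node 1 (.leaf 0x400000000) (.leaf 0x38000000000000000000)))))) (.node 16 (.node 8 (.node 4 (.node 2 (.node 1 (.leaf 0x8000000000000000000) (.leaf 0x40000000000)) (.node 1 (zeroT 0) (.leaf 0x8000000000))) (.node 2 (.node 1 (.leaf 0x400000000000) (.leaf 0x600000000000)) (.node 1 (.leaf 0x800000000000) (zeroT 0)))) (.node 4 (.node 2 (.node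 1 (.leaf 0x3000000000000) (.leaf 0x1000000000000)) (zeroT 1)) (zeroT 2))) (.node 8 (.node 4 (.node 2 (zeroT 1) (.node 1 (.leaf 0x20000000000000) (zeroT 0))) (.node 2 (.node 1 (.leaf 0x800000000000000) (zeroT 0)) (.node 1 (.leaf 0x3000000000000000) (.leaf 0x1000000000000000)))) (.node 4 (.node 2 (.node 1 (zeroT 0) (.leaf 0x8000000000000000)) (.node 1 (.leaf 0xc000000000000000) (zeroT 0))) (zeroT 2))))) (.node 32 (.node 16 (.node 8 (.node 4 (.node 2 (.node 1 (zeroT 0) (.leaf 0x100000000000000000)) (.node 1 (zeroT 0) (.leaf 0x400000000000000000))) (zeroT 2)) (.node 4 (.node 2 (.node 1 (.leaf 0x100000000000) (.leaf 0x80000000000)) (.node 1 (.leaf 0x100000000000) (zeroT 0))) (.node 2 (.node 1 (.leaf 0x100000000000) (.leaf 0x100000000000)) (zeroT 1)))) (zeroT 4)) (zeroT 5)))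

/-- bracket with a basis vector -/
def adT45 : BT := (.node 64 (.node 32 (.node 16 (.node 8 (.node 4 (.node 2 (.node 1 (zeroT 0) (.leaf 0x20)) (.node 1 (zeroT 0) (.leaf 0x800))) (.node 2 (.node 1 (.leaf 0x1800) (zeroT 0)) (.node 1 (.leaf 0x2000000) (.leaf 0x2000)))) (.node 4 (.node 2 (.node 1 (.leaf 0x4000000) (.leaf 0xc000000)) (zeroT 1)) (.node 2 (zeroT 1) (.node 1 (.leaf 0x20000000) (.leaf 0x100000))))) (.node 8 (.node 4 (.node 2 (.node 1 (.leaf 0x200000000) (.leaf 0x600000000)) (.node 1 (.leaf 0x9000000000000000000) (.leaf 0x32000000000000000000))) (.node 2 (.node 1 (zeroT 0) (.leaf 0x40000000000)) (.node 1 (.leaf 0x80000000000) (.leaf 0x180000000000)))) (.node 4 (zeroT 2) (.node 2 (zeroT 1) (.node 1 (zeroT 0) (.leaf 0x1000000000)))))) (.node 16 (.node 8 (.node 4 (.node 2 (.node 1 (.leaf 0x3000000000) (zeroT 0)) (.node 1 (zeroT 0) (.leaf 0x10000000000))) (.node 2 (zeroT 1) (.node 1 (.leaf 0x1000000000000)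 (.leaf 0x3000000000000)))) (.node 4 (.node 2 (.node 1 (zeroT 0) (.leaf 0x10000000000000000)) (zeroT 1)) (zeroT 2))) (.node 8 (.node 4 (.node 2 (zeroT 1) (.node 1 (.leaf 0x40000000000000) (zeroT 0))) (.node 2 (.node 1 (.leaf 0x1000000000000000) (.leaf 0x3000000000000000)) (.node 1 (zeroT 0) (.leaf 0x40000000000000000)))) (.node 4 (.node 2 (.node 1 (.leaf 0x4000000000000000) (.leaf 0x80000000000000000)) (.node 1 (.leaf 0x180000000000000000) (zeroT 0))) (.node 2 (zeroT 1) (.node 1 (zeroT 0) (.leaf 0x400000000000000000))))))) (.node 32 (.node 16 (.node 8 (zeroT 3) (.node 4 (.node 2 (.node 1 (.leaf 0x200000000000) (.leaf 0x600000000000)) (.node 1 (.leaf 0x200000000000) (.leaf 0x200000000000))) (.node 2 (.node 1 (.leaf 0x400000000000) (.leaf 0x200000000000)) (zeroT 1)))) (zeroT 4)) (zeroT 5)))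

/-- bracket with a basis vector -/
def adT46 : BT := (.node 64 (.node 32 (.node 16 (.node 8 (.node 4 (.node 2 (.node 1 (zeroT 0) (.leaf 0x40)) (.node 1 (zeroT 0) (.leaf 0x1000))) (.node 2 (.node 1 (.leaf 0x800) (.leaf 0x2000000)) (.node 1 (zeroT 0) (.leaf 0x4000)))) (.node 4 (.node 2 (.node 1 (.leaf 0x8000000) (.leaf 0x4000000)) (zeroT 1)) (.node 2 (.node 1 (zeroT 0) (.leaf 0x20000000)) (.node 1 (zeroT 0) (.leaf 0x200000))))) (.node 8 (.node 4 (.node 2 (.node 1 (.leaf 0x400000000) (.leaf 0x200000000)) (.node 1 (.leaf 0x3b000000000000000000) (.leaf 0x9000000000000000000))) (.node 2 (.node 1 (.leaf 0x40000000000) (zeroT 0)) (.node 1 (.leaf 0x100000000000) (.leaf 0x80000000000)))) (.node 4 (zeroT 2) (.node 2 (zeroT 1) (.node 1 (zeroT 0) (.leaf 0x2000000000)))))) (.node 16 (.node 8 (.node 4 (.node 2 (.node 1 (.leaf 0x1000000000) (zeroT 0)) (.node 1 (zeroT 0) (.leaf 0x20000000000))) (.node 2 (zeroT 1) (.node 1 (.leaf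 0x2000000000000) (.leaf 0x1000000000000)))) (.node 4 (.node 2 (.node 1 (.leaf 0x10000000000000000) (zeroT 0)) (zeroT 1)) (zeroT 2))) (.node 8 (.node 4 (.node 2 (zeroT 1) (.node 1 (.leaf 0x80000000000000) (zeroT 0))) (.node 2 (.node 1 (.leaf 0x2000000000000000) (.leaf 0x1000000000000000)) (.node 1 (.leaf 0x40000000000000000) (zeroT 0)))) (.node 4 (.node 2 (.node 1 (.leaf 0x8000000000000000) (.leaf 0x100000000000000000)) (.node 1 (.leaf 0x80000000000000000) (zeroT 0))) (.node 2 (zeroT 1) (.node 1 (.leaf 0x400000000000000000) (zeroT 0))))))) (.node 32 (.node 16 (.node 8 (zeroT 3) (.node 4 (.node 2 (.node 1 (.leaf 0x400000000000) (.leaf 0x200000000000)) (.node 1 (.leaf 0x400000000000) (.leaf 0x400000000000))) (.node 2 (.node 1 (.leaf 0x600000000000) (.leaf 0x400000000000)) (zeroT 1)))) (zeroT 4)) (zeroT 5)))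

/-- bracket with a basis vector -/
def adT47 : BT := (.node 64 (.node 32 (.node 16 (.node 8 (.node 4 (.node 2 (.node 1 (zeroT 0) (.leaf 0x80)) (.node 1 (.leaf 0x400) (zeroT 0))) (.node 2 (.node 1 (zeroT 0) (.leaf 0x2000)) (.node 1 (.leaf 0x4000) (zeroT 0)))) (zeroT 3)) (.node 8 (.node 4 (.node 2 (.node 1 (.leaf 0x400000) (.leaf 0x800000)) (zeroT 1)) (zeroT 2)) (.node 4 (.node 2 (.node 1 (.leaf 0x10000000) (.leaf 0x20000000)) (zeroT 1)) (.node 2 (zeroT 1) (.node 1 (.leaf 0x28000000000000000000) (.leaf 0x4000000000)))))) (.node 16 (.node 8 (.node 4 (.node 2 (.node 1 (.leaf 0x8000000000) (.leaf 0x80000000000)) (.node 1 (.leaf 0x100000000000) (zeroT 0))) (.node 2 (.node 1 (.leaf 0x1000000000000) (.leaf 0x2000000000000)) (zeroT 1))) (zeroT 3)) (.node 8 (.node 4 (.node 2 (zeroT 1) (.node 1 (.leaf 0x100000000000000) (.leaf 0x800000000000000))) (.node 2 (zeroT 1) (.node 1 (.leaf 0x4000000000000000) (.leaf 0x8000000000000000))))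 (zeroT 3)))) (.node 32 (.node 16 (.node 8 (.node 4 (.node 2 (.node 1 (zeroT 0) (.leaf 0x200000000000000000)) (.node 1 (.leaf 0x400000000000000000) (zeroT 0))) (zeroT 2)) (.node 4 (.node 2 (.node 1 (zeroT 0) (.leaf 0x800000000000)) (.node 1 (.leaf 0x800000000000) (zeroT 0))) (.node 2 (.node 1 (.leaf 0x800000000000) (zeroT 0)) (zeroT 1)))) (zeroT 4)) (zeroT 5)))

/-- bracket with a basis vector -/
def adT48 : BT := (.node 64 (.node 32 (.node 16 (.node 8 (.node 4 (.node 2 (.node 1 (zeroT 0) (.leaf 0x100)) (.node 1 (.leaf 0x800) (.leaf 0x2000))) (.node 2 (.node 1 (.leaf 0x4000) (.leaf 0x4000000)) (.node 1 (.leaf 0x8000000) (zeroT 0)))) (.node 4 (.node 2 (.node 1 (zeroT 0) (.leaf 0x10000000)) (zeroT 1)) (.node 2 (.node 1 (.leaf 0x20000000) (zeroT 0)) (.node 1 (zeroT 0) (.leaf 0x400000))))) (.node 8 (.node 4 (.node 2 (.node 1 (.leaf 0x1000000000000000000) (.leaf 0x2a000000000000000000)) (.node 1 (.leaf 0x4000000000)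 (.leaf 0x8000000000))) (.node 2 (.node 1 (.leaf 0x80000000000) (.leaf 0x100000000000)) (.node 1 (zeroT 0) (.leaf 0x800000000000)))) (.node 4 (zeroT 2) (.node 2 (zeroT 1) (.node 1 (.leaf 0x1000000000) (.leaf 0x10000000000)))))) (.node 16 (.node 8 (.node 4 (.node 2 (.node 1 (.leaf 0x20000000000) (.leaf 0x200000000000)) (.node 1 (.leaf 0x400000000000) (zeroT 0))) (.node 2 (.node 1 (zeroT 0) (.leaf 0x10000000000000000)) (zeroT 1))) (zeroT 3)) (.node 8 (.node 4 (.node 2 (zeroT 1) (.node 1 (.leaf 0x200000000000000) (.leaf 0x1000000000000000))) (.node 2 (.node 1 (.leaf 0x4000000000000000) (.leaf 0x8000000000000000)) (.node 1 (.leaf 0x80000000000000000) (.leaf 0x100000000000000000)))) (.node 4 (.node 2 (zeroT 1) (.node 1 (.leaf 0x200000000000000000) (zeroT 0))) (.node 2 (.node 1 (zeroT 0) (.leaf 0x400000000000000000)) (zeroT 1)))))) (.node 32 (.node 16 (.node 8 (zeroT 3) (.node 4 (.node 2 (.node 1 (zeroT 0) (.leaf 0x1000000000000))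 (.node 1 (.leaf 0x1000000000000) (.leaf 0x1000000000000))) (.node 2 (.node 1 (.leaf 0x2000000000000) (zeroT 0)) (zeroT 1)))) (zeroT 4)) (zeroT 5)))

/-- bracket with a basis vector -/
def adT49 : BT := (.node 64 (.node 32 (.node 16 (.node 8 (.node 4 (.node 2 (.node 1 (zeroT 0) (.leaf 0x200)) (.node 1 (.leaf 0x1000) (.leaf 0x4000))) (.node 2 (.node 1 (.leaf 0x6000) (.leaf 0xc000000)) (.node 1 (.leaf 0x4000000) (zeroT 0)))) (.node 4 (.node 2 (.node 1 (.leaf 0x10000000) (zeroT 0)) (.node 1 (zeroT 0) (.leaf 0x20000000))) (.node 2 (zeroT 1) (.node 1 (zeroT 0) (.leaf 0x800000))))) (.node 8 (.node 4 (.node 2 (.node 1 (.leaf 0x2b000000000000000000) (.leaf 0x1000000000000000000)) (.node 1 (.leaf 0xc000000000) (.leaf 0x4000000000))) (.node 2 (.node 1 (.leaf 0x180000000000) (.leaf 0x80000000000)) (.node 1 (.leaf 0x800000000000) (zeroT 0)))) (.node 4 (zeroT 2) (.node 2 (zeroT 1) (.node 1 (.leaf 0x2000000000) (.leaf 0x20000000000))))))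 (.node 16 (.node 8 (.node 4 (.node 2 (.node 1 (.leaf 0x30000000000) (.leaf 0x400000000000)) (.node 1 (.leaf 0x600000000000) (zeroT 0))) (.node 2 (.node 1 (.leaf 0x10000000000000000) (zeroT 0)) (zeroT 1))) (zeroT 3)) (.node 8 (.node 4 (.node 2 (zeroT 1) (.node 1 (.leaf 0x400000000000000) (.leaf 0x2000000000000000))) (.node 2 (.node 1 (.leaf 0x8000000000000000) (.leaf 0xc000000000000000)) (.node 1 (.leaf 0x180000000000000000) (.leaf 0x80000000000000000)))) (.node 4 (.node 2 (.node 1 (zeroT 0) (.leaf 0x200000000000000000)) (zeroT 1)) (.node 2 (.node 1 (.leaf 0x400000000000000000) (zeroT 0)) (zeroT 1)))))) (.node 32 (.node 16 (.node 8 (zeroT 3) (.node 4 (.node 2 (.node 1 (zeroT 0) (.leaf 0x2000000000000)) (.node 1 (.leaf 0x2000000000000) (.leaf 0x2000000000000))) (.node 2 (.node 1 (.leaf 0x3000000000000) (zeroT 0)) (zeroT 1)))) (zeroT 4)) (zeroT 5)))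

/-- bracket with a basis vector -/
def adT50 : BT := (.node 64 (.node 32 (.node 16 (.node 8 (.node 4 (.node 2 (.node 1 (.leaf 0x2) (zeroT 0)) (zeroT 1)) (zeroT 2)) (.node 4 (.node 2 (zeroT 1) (.node 1 (.leaf 0x8000) (.leaf 0x10000))) (.node 2 (.node 1 (.leaf 0x20000) (.leaf 0x40000)) (.node 1 (.leaf 0x80000) (zeroT 0))))) (.node 8 (zeroT 3) (.node 4 (.node 2 (.node 1 (zeroT 0) (.leaf 0x40000000)) (.node 1 (.leaf 0x80000000) (.leaf 0x100000000))) (.node 2 (.node 1 (.leaf 0x800000000) (.leaf 0x4000000000000000000)) (zeroT 1))))) (.node 16 (.node 8 (zeroT 3) (.node 4 (.node 2 (zeroT 1) (.node 1 (.leaf 0x8000000000000) (.leaf 0x10000000000000))) (.node 2 (.node 1 (.leaf 0x20000000000000) (.leaf 0x40000000000000)) (.node 1 (.leaf 0x80000000000000) (.leaf 0x100000000000000))))) (.node 8 (.node 4 (.node 2 (.node 1 (.leaf 0x200000000000000) (.leaf 0x400000000000000)) (zeroT 1)) (zeroT 2)) (zeroT 3)))) (.node 32 (.node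 16 (.node 8 (.node 4 (.node 2 (.node 1 (.leaf 0x20000000000000000) (zeroT 0)) (zeroT 1)) (.node 2 (zeroT 1) (.node 1 (.leaf 0x800000000000000000) (zeroT 0)))) (.node 4 (zeroT 2) (.node 2 (.node 1 (zeroT 0) (.leaf 0x4000000000000)) (zeroT 1)))) (zeroT 4)) (zeroT 5)))

/-- bracket with a basis vector -/
def adT51 : BT := (.node 64 (.node 32 (.node 16 (.node 8 (.node 4 (.node 2 (.node 1 (.leaf 0x4) (zeroT 0)) (zeroT 1)) (.node 2 (zeroT 1) (.node 1 (zeroT 0) (.leaf 0x8000)))) (.node 4 (.node 2 (.node 1 (.leaf 0x10000) (.leaf 0x20000)) (zeroT 1)) (.node 2 (.node 1 (zeroT 0) (.leaf 0x100000)) (.node 1 (.leaf 0x200000) (zeroT 0))))) (.node 8 (zeroT 3) (.node 4 (.node 2 (.node 1 (.leaf 0x40000000) (zeroT 0)) (.node 1 (.leaf 0x200000000) (.leaf 0x400000000))) (.node 2 (.node 1 (.leaf 0x24000000000000000000) (.leaf 0x40000000000)) (zeroT 1))))) (.node 16 (.node 8 (.node 4 (.node 2 (zeroT 1) (.node 1 (zeroT 0) (.leaf 0x4000000000000)))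 (.node 2 (zeroT 1) (.node 1 (.leaf 0x10000000000000) (.leaf 0x20000000000000)))) (.node 4 (.node 2 (.node 1 (.leaf 0x40000000000000) (.leaf 0x80000000000000)) (zeroT 1)) (.node 2 (zeroT 1) (.node 1 (zeroT 0) (.leaf 0x800000000000000))))) (.node 8 (.node 4 (.node 2 (.node 1 (.leaf 0x1000000000000000) (.leaf 0x2000000000000000)) (zeroT 1)) (zeroT 2)) (zeroT 3)))) (.node 32 (.node 16 (.node 8 (.node 4 (.node 2 (.node 1 (.leaf 0x40000000000000000) (zeroT 0)) (zeroT 1)) (.node 2 (.node 1 (zeroT 0) (.leaf 0x800000000000000000)) (zeroT 1))) (.node 4 (.node 2 (zeroT 1) (.node 1 (.leaf 0x8000000000000) (zeroT 0))) (.node 2 (.node 1 (.leaf 0x8000000000000) (.leaf 0x8000000000000)) (zeroT 1)))) (zeroT 4)) (zeroT 5)))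

/-- bracket with a basis vector -/
def adT52 : BT := (.node 64 (.node 32 (.node 16 (.node 8 (.node 4 (.node 2 (.node 1 (.leaf 0x8) (zeroT 0)) (zeroT 1)) (.node 2 (.node 1 (.leaf 0x8000) (.leaf 0x10000)) (.node 1 (.leaf 0x20000) (zeroT 0)))) (.node 4 (.node 2 (.node 1 (.leaf 0x40000) (.leaf 0x80000)) (.node 1 (zeroT 0) (.leaf 0x100000))) (.node 2 (.node 1 (.leaf 0x200000) (.leaf 0x400000)) (.node 1 (.leaf 0x800000) (zeroT 0))))) (.node 8 (zeroT 3) (.node 4 (.node 2 (.node 1 (.leaf 0x80000000) (.leaf 0x200000000)) (.node 1 (.leaf 0x8000000000000000000) (.leaf 0x34000000000000000000))) (.node 2 (.node 1 (.leaf 0x4000000000) (.leaf 0x80000000000)) (zeroT 1))))) (.node 16 (.node 8 (.node 4 (.node 2 (.node 1 (.leaf 0x4000000000000) (zeroT 0)) (.node 1 (.leaf 0x8000000000000) (zeroT 0))) (.node 2 (.node 1 (.leaf 0x40000000000000) (.leaf 0x80000000000000)) (.node 1 (zeroT 0) (.leaf 0x100000000000000)))) (.node 4 (.node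 2 (.node 1 (.leaf 0x200000000000000) (.leaf 0x400000000000000)) (zeroT 1)) (.node 2 (.node 1 (.leaf 0x800000000000000) (.leaf 0x1000000000000000)) (.node 1 (.leaf 0x2000000000000000) (zeroT 0))))) (.node 8 (.node 4 (.node 2 (.node 1 (.leaf 0x4000000000000000) (.leaf 0x8000000000000000)) (zeroT 1)) (zeroT 2)) (zeroT 3)))) (.node 32 (.node 16 (.node 8 (.node 4 (.node 2 (.node 1 (.leaf 0x80000000000000000) (zeroT 0)) (zeroT 1)) (.node 2 (.node 1 (.leaf 0x800000000000000000) (zeroT 0)) (zeroT 1))) (.node 4 (.node 2 (.node 1 (.leaf 0x10000000000000) (.leaf 0x30000000000000)) (.node 1 (.leaf 0x10000000000000) (zeroT 0))) (.node 2 (.node 1 (.leaf 0x10000000000000) (zeroT 0)) (zeroT 1)))) (zeroT 4)) (zeroT 5)))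

/-- bracket with a basis vector -/
def adT53 : BT := (.node 64 (.node 32 (.node 16 (.node 8 (.node 4 (.node 2 (.node 1 (.leaf 0x10) (zeroT 0)) (.node 1 (zeroT 0) (.leaf 0x8000))) (.node 2 (.node 1 (zeroT 0) (.leaf 0x30000)) (.node 1 (.leaf 0x10000) (zeroT 0)))) (.node 4 (.node 2 (.node 1 (.leaf 0x80000) (.leaf 0xc0000)) (.node 1 (zeroT 0) (.leaf 0x200000))) (.node 2 (.node 1 (.leaf 0x300000) (.leaf 0xc00000)) (.node 1 (.leaf 0x400000) (zeroT 0))))) (.node 8 (zeroT 3) (.node 4 (.node 2 (.node 1 (.leaf 0x100000000) (.leaf 0x400000000)) (.node 1 (.leaf 0x3c000000000000000000) (.leaf 0x8000000000000000000))) (.node 2 (.node 1 (.leaf 0x8000000000) (.leaf 0x100000000000)) (.node 1 (zeroT 0) (.leaf 0x4000000000000)))))) (.node 16 (.node 8 (.node 4 (.node 2 (.node 1 (zeroT 0) (.leaf 0x8000000000000)) (zeroT 1)) (.node 2 (.node 1 (.leaf 0x80000000000000) (.leaf 0xc0000000000000)) (.node 1 (.leaf 0x100000000000000) (zeroT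 0)))) (.node 4 (.node 2 (.node 1 (.leaf 0x600000000000000) (.leaf 0x200000000000000)) (.node 1 (zeroT 0) (.leaf 0x800000000000000))) (.node 2 (.node 1 (zeroT 0) (.leaf 0x3000000000000000)) (.node 1 (.leaf 0x1000000000000000) (zeroT 0))))) (.node 8 (.node 4 (.node 2 (.node 1 (.leaf 0x8000000000000000) (.leaf 0xc000000000000000)) (zeroT 1)) (zeroT 2)) (zeroT 3)))) (.node 32 (.node 16 (.node 8 (.node 4 (.node 2 (.node 1 (.leaf 0x100000000000000000) (zeroT 0)) (.node 1 (zeroT 0) (.leaf 0x800000000000000000))) (zeroT 2)) (.node 4 (.node 2 (.node 1 (.leaf 0x20000000000000) (.leaf 0x10000000000000)) (.node 1 (.leaf 0x20000000000000) (zeroT 0))) (.node 2 (.node 1 (.leaf 0x20000000000000) (zeroT 0)) (zeroT 1)))) (zeroT 4)) (zeroT 5)))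

/-- bracket with a basis vector -/
def adT54 : BT := (.node 64 (.node 32 (.node 16 (.node 8 (.node 4 (.node 2 (.node 1 (.leaf 0x20) (zeroT 0)) (.node 1 (zeroT 0) (.leaf 0x10000))) (.node 2 (.node 1 (.leaf 0x30000) (zeroT 0)) (.node 1 (.leaf 0x40000000) (.leaf 0x40000)))) (.node 4 (.node 2 (.node 1 (.leaf 0x80000000) (.leaf 0x180000000)) (.node 1 (.leaf 0x100000) (.leaf 0x200000000))) (.node 2 (.node 1 (.leaf 0x600000000) (.leaf 0x9000000000000000000)) (.node 1 (.leaf 0x36000000000000000000) (zeroT 0))))) (.node 8 (.node 4 (.node 2 (zeroT 1) (.node 1 (zeroT 0) (.leaf 0x4000000000000))) (.node 2 (.node 1 (zeroT 0) (.leaf 0x8000000000000)) (.node 1 (.leaf 0x10000000000000) (.leaf 0x30000000000000)))) (.node 4 (.node 2 (zeroT 1) (.node 1 (.leaf 0x1000000000) (.leaf 0x3000000000))) (.node 2 (.node 1 (.leaf 0x10000000000) (.leaf 0x200000000000)) (zeroT 1))))) (.node 16 (.node 8 (.node 4 (zeroT 2) (.node 2 (zeroT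 1) (.node 1 (.leaf 0x200000000000000) (.leaf 0x600000000000000)))) (.node 4 (.node 2 (.node 1 (zeroT 0) (.leaf 0x20000000000000000)) (.node 1 (zeroT 0) (.leaf 0x1000000000000000))) (.node 2 (.node 1 (.leaf 0x3000000000000000) (zeroT 0)) (.node 1 (.leaf 0x40000000000000000) (.leaf 0x4000000000000000))))) (.node 8 (.node 4 (.node 2 (.node 1 (.leaf 0x80000000000000000) (.leaf 0x180000000000000000)) (zeroT 1)) (zeroT 2)) (.node 4 (zeroT 2) (.node 2 (zeroT 1) (.node 1 (zeroT 0) (.leaf 0x800000000000000000))))))) (.node 32 (.node 16 (.node 8 (zeroT 3) (.node 4 (.node 2 (.node 1 (.leaf 0x40000000000000) (.leaf 0xc0000000000000)) (.node 1 (.leaf 0x40000000000000) (.leaf 0x40000000000000))) (.node 2 (.node 1 (.leaf 0x80000000000000) (zeroT 0)) (zeroT 1)))) (zeroT 4)) (zeroT 5)))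

/-- bracket with a basis vector -/
def adT55 : BT := (.node 64 (.node 32 (.node 16 (.node 8 (.node 4 (.node 2 (.node 1 (.leaf 0x40) (zeroT 0)) (.node 1 (zeroT 0) (.leaf 0x20000))) (.node 2 (.node 1 (.leaf 0x10000) (.leaf 0x40000000)) (.node 1 (zeroT 0) (.leaf 0x80000)))) (.node 4 (.node 2 (.node 1 (.leaf 0x100000000) (.leaf 0x80000000)) (.node 1 (.leaf 0x200000) (.leaf 0x400000000))) (.node 2 (.node 1 (.leaf 0x200000000) (.leaf 0x3f000000000000000000)) (.node 1 (.leaf 0x9000000000000000000) (zeroT 0))))) (.node 8 (.node 4 (.node 2 (zeroT 1) (.node 1 (.leaf 0x4000000000000) (zeroT 0))) (.node 2 (.node 1 (.leaf 0x8000000000000) (zeroT 0)) (.node 1 (.leaf 0x20000000000000) (.leaf 0x10000000000000)))) (.node 4 (.node 2 (zeroT 1) (.node 1 (.leaf 0x2000000000) (.leaf 0x1000000000))) (.node 2 (.node 1 (.leaf 0x20000000000) (.leaf 0x400000000000)) (zeroT 1))))) (.node 16 (.node 8 (.node 4 (zeroT 2) (.node 2 (zeroT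 1) (.node 1 (.leaf 0x400000000000000) (.leaf 0x200000000000000)))) (.node 4 (.node 2 (.node 1 (.leaf 0x20000000000000000) (zeroT 0)) (.node 1 (zeroT 0) (.leaf 0x2000000000000000))) (.node 2 (.node 1 (.leaf 0x1000000000000000) (.leaf 0x40000000000000000)) (.node 1 (zeroT 0) (.leaf 0x8000000000000000))))) (.node 8 (.node 4 (.node 2 (.node 1 (.leaf 0x100000000000000000) (.leaf 0x80000000000000000)) (zeroT 1)) (zeroT 2)) (.node 4 (zeroT 2) (.node 2 (zeroT 1) (.node 1 (.leaf 0x800000000000000000) (zeroT 0))))))) (.node 32 (.node 16 (.node 8 (zeroT 3) (.node 4 (.node 2 (.node 1 (.leaf 0x80000000000000) (.leaf 0x40000000000000)) (.node 1 (.leaf 0x80000000000000) (.leaf 0x80000000000000))) (.node 2 (.node 1 (.leaf 0xc0000000000000) (zeroT 0)) (zeroT 1)))) (zeroT 4)) (zeroT 5)))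

/-- bracket with a basis vector -/
def adT56 : BT := (.node 64 (.node 32 (.node 16 (.node 8 (.node 4 (.node 2 (.node 1 (.leaf 0x80) (zeroT 0)) (.node 1 (.leaf 0x8000) (zeroT 0))) (.node 2 (.node 1 (zeroT 0) (.leaf 0x40000)) (.node 1 (.leaf 0x80000) (zeroT 0)))) (.node 4 (.node 2 (zeroT 1) (.node 1 (zeroT 0) (.leaf 0x400000))) (.node 2 (.node 1 (.leaf 0x800000) (zeroT 0)) (zeroT 1)))) (.node 8 (zeroT 3) (.node 4 (.node 2 (.node 1 (.leaf 0x800000000) (.leaf 0x2c000000000000000000)) (.node 1 (.leaf 0x4000000000) (.leaf 0x8000000000))) (.node 2 (.node 1 (zeroT 0) (.leaf 0x800000000000)) (.node 1 (.leaf 0x4000000000000) (zeroT 0)))))) (.node 16 (.node 8 (.node 4 (.node 2 (.node 1 (zeroT 0) (.leaf 0x10000000000000)) (.node 1 (.leaf 0x20000000000000) (zeroT 0))) (.node 2 (.node 1 (.leaf 0x200000000000000) (.leaf 0x400000000000000)) (zeroT 1))) (.node 4 (.node 2 (zeroT 1) (.node 1 (.leaf 0x800000000000000) (zeroT 0)))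 (.node 2 (.node 1 (zeroT 0) (.leaf 0x4000000000000000)) (.node 1 (.leaf 0x8000000000000000) (zeroT 0))))) (zeroT 4))) (.node 32 (.node 16 (.node 8 (.node 4 (.node 2 (.node 1 (.leaf 0x200000000000000000) (zeroT 0)) (.node 1 (.leaf 0x800000000000000000) (zeroT 0))) (zeroT 2)) (.node 4 (.node 2 (.node 1 (zeroT 0) (.leaf 0x100000000000000)) (.node 1 (.leaf 0x100000000000000) (zeroT 0))) (.node 2 (.node 1 (.leaf 0x100000000000000) (.leaf 0x100000000000000)) (zeroT 1)))) (zeroT 4)) (zeroT 5)))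

/-- bracket with a basis vector -/
def adT57 : BT := (.node 64 (.node 32 (.node 16 (.node 8 (.node 4 (.node 2 (.node 1 (.leaf 0x100) (zeroT 0)) (.node 1 (.leaf 0x10000) (.leaf 0x40000))) (.node 2 (.node 1 (.leaf 0x80000) (.leaf 0x80000000)) (.node 1 (.leaf 0x100000000) (zeroT 0)))) (.node 4 (.node 2 (.node 1 (zeroT 0) (.leaf 0x800000000)) (.node 1 (.leaf 0x400000) (.leaf 0x1000000000000000000))) (.node 2 (.node 1 (.leaf 0x2e000000000000000000) (.leaf 0x4000000000)) (.node 1 (.leaf 0x8000000000) (zeroT 0))))) (.node 8 (.node 4 (.node 2 (.node 1 (zeroT 0) (.leaf 0x4000000000000)) (zeroT 1)) (.node 2 (.node 1 (.leaf 0x10000000000000) (.leaf 0x20000000000000)) (.node 1 (zeroT 0) (.leaf 0x100000000000000)))) (.node 4 (.node 2 (.node 1 (zeroT 0) (.leaf 0x1000000000)) (.node 1 (.leaf 0x10000000000) (.leaf 0x20000000000))) (.node 2 (.node 1 (zeroT 0) (.leaf 0x1000000000000)) (zeroT 1))))) (.node 16 (.node 8 (.node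 4 (.node 2 (.node 1 (zeroT 0) (.leaf 0x40000000000000)) (.node 1 (.leaf 0x80000000000000) (zeroT 0))) (.node 2 (.node 1 (zeroT 0) (.leaf 0x20000000000000000)) (zeroT 1))) (.node 4 (.node 2 (zeroT 1) (.node 1 (.leaf 0x1000000000000000) (.leaf 0x4000000000000000))) (.node 2 (.node 1 (.leaf 0x8000000000000000) (.leaf 0x80000000000000000)) (.node 1 (.leaf 0x100000000000000000) (zeroT 0))))) (.node 8 (.node 4 (.node 2 (.node 1 (zeroT 0) (.leaf 0x200000000000000000)) (zeroT 1)) (zeroT 2)) (.node 4 (zeroT 2) (.node 2 (.node 1 (zeroT 0) (.leaf 0x800000000000000000)) (zeroT 1)))))) (.node 32 (.node 16 (.node 8 (zeroT 3) (.node 4 (.node 2 (.node 1 (zeroT 0) (.leaf 0x200000000000000)) (.node 1 (.leaf 0x200000000000000) (.leaf 0x200000000000000))) (.node 2 (.node 1 (.leaf 0x400000000000000) (.leaf 0x200000000000000)) (zeroT 1)))) (zeroT 4)) (zeroT 5)))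

/-- bracket with a basis vector -/
def adT58 : BT := (.node 64 (.node 32 (.node 16 (.node 8 (.node 4 (.node 2 (.node 1 (.leaf 0x200) (zeroT 0)) (.node 1 (.leaf 0x20000) (.leaf 0x80000))) (.node 2 (.node 1 (.leaf 0xc0000) (.leaf 0x180000000)) (.node 1 (.leaf 0x80000000) (zeroT 0)))) (.node 4 (.node 2 (.node 1 (.leaf 0x800000000) (zeroT 0)) (.node 1 (.leaf 0x800000) (.leaf 0x2f000000000000000000))) (.node 2 (.node 1 (.leaf 0x1000000000000000000) (.leaf 0xc000000000)) (.node 1 (.leaf 0x4000000000) (zeroT 0))))) (.node 8 (.node 4 (.node 2 (.node 1 (.leaf 0x4000000000000) (zeroT 0)) (zeroT 1)) (.node 2 (.node 1 (.leaf 0x30000000000000) (.leaf 0x10000000000000)) (.node 1 (.leaf 0x100000000000000) (zeroT 0)))) (.node 4 (.node 2 (.node 1 (zeroT 0) (.leaf 0x2000000000)) (.node 1 (.leaf 0x20000000000) (.leaf 0x30000000000))) (.node 2 (.node 1 (zeroT 0) (.leaf 0x2000000000000)) (zeroT 1))))) (.node 16 (.node 8 (.node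 4 (.node 2 (.node 1 (zeroT 0) (.leaf 0x80000000000000)) (.node 1 (.leaf 0xc0000000000000) (zeroT 0))) (.node 2 (.node 1 (.leaf 0x20000000000000000) (zeroT 0)) (zeroT 1))) (.node 4 (.node 2 (zeroT 1) (.node 1 (.leaf 0x2000000000000000) (.leaf 0x8000000000000000))) (.node 2 (.node 1 (.leaf 0xc000000000000000) (.leaf 0x180000000000000000)) (.node 1 (.leaf 0x80000000000000000) (zeroT 0))))) (.node 8 (.node 4 (.node 2 (.node 1 (.leaf 0x200000000000000000) (zeroT 0)) (zeroT 1)) (zeroT 2)) (.node 4 (zeroT 2) (.node 2 (.node 1 (.leaf 0x800000000000000000) (zeroT 0)) (zeroT 1)))))) (.node 32 (.node 16 (.node 8 (zeroT 3) (.node 4 (.node 2 (.node 1 (zeroT 0) (.leaf 0x400000000000000)) (.node 1 (.leaf 0x400000000000000) (.leaf 0x400000000000000))) (.node 2 (.node 1 (.leaf 0x600000000000000) (.leaf 0x400000000000000)) (zeroT 1)))) (zeroT 4)) (zeroT 5)))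

/-- bracket with a basis vector -/
def adT59 : BT := (.node 64 (.node 32 (.node 16 (.node 8 (.node 4 (.node 2 (.node 1 (.leaf 0x400) (.leaf 0x8000)) (zeroT 1)) (.node 2 (.node 1 (zeroT 0) (.leaf 0x100000)) (.node 1 (.leaf 0x200000) (zeroT 0)))) (.node 4 (.node 2 (.node 1 (.leaf 0x400000) (.leaf 0x800000)) (zeroT 1)) (zeroT 2))) (.node 8 (zeroT 3) (.node 4 (.node 2 (.node 1 (.leaf 0xc000000000000000000) (.leaf 0x40000000000)) (.node 1 (.leaf 0x80000000000) (.leaf 0x100000000000))) (.node 2 (.node 1 (.leaf 0x800000000000) (zeroT 0)) (.node 1 (.leaf 0x8000000000000) (.leaf 0x10000000000000)))))) (.node 16 (.node 8 (.node 4 (.node 2 (.node 1 (.leaf 0x20000000000000) (zeroT 0)) (.node 1 (zeroT 0) (.leaf 0x100000000000000))) (.node 2 (.node 1 (.leaf 0x1000000000000000) (.leaf 0x2000000000000000)) (zeroT 1))) (.node 4 (.node 2 (.node 1 (.leaf 0x4000000000000000) (.leaf 0x8000000000000000)) (zeroT 1)) (zeroT 2))) (zeroT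 4))) (.node 32 (.node 16 (.node 8 (.node 4 (.node 2 (.node 1 (.leaf 0x400000000000000000) (.leaf 0x800000000000000000)) (zeroT 1)) (zeroT 2)) (.node 4 (.node 2 (.node 1 (zeroT 0) (.leaf 0x800000000000000)) (zeroT 1)) (.node 2 (.node 1 (zeroT 0) (.leaf 0x800000000000000)) (zeroT 1)))) (zeroT 4)) (zeroT 5)))

/-- bracket with a basis vector -/
def adT60 : BT := (.node 64 (.node 32 (.node 16 (.node 8 (.node 4 (.node 2 (.node 1 (.leaf 0x800) (.leaf 0x10000)) (.node 1 (zeroT 0) (.leaf 0x100000))) (.node 2 (.node 1 (.leaf 0x200000) (.leaf 0x200000000)) (.node 1 (.leaf 0x400000000) (.leaf 0x400000)))) (.node 4 (.node 2 (.node 1 (.leaf 0x1000000000000000000) (.leaf 0xe000000000000000000)) (zeroT 1)) (.node 2 (.node 1 (.leaf 0x40000000000) (.leaf 0x80000000000)) (.node 1 (.leaf 0x100000000000) (zeroT 0))))) (.node 8 (.node 4 (.node 2 (.node 1 (zeroT 0) (.leaf 0x8000000000000)) (.node 1 (.leaf 0x10000000000000) (.leaf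 0x20000000000000))) (.node 2 (zeroT 1) (.node 1 (zeroT 0) (.leaf 0x800000000000000)))) (.node 4 (.node 2 (.node 1 (.leaf 0x1000000000) (zeroT 0)) (.node 1 (.leaf 0x200000000000) (.leaf 0x400000000000))) (.node 2 (.node 1 (.leaf 0x1000000000000) (zeroT 0)) (.node 1 (zeroT 0) (.leaf 0x40000000000000)))))) (.node 16 (.node 8 (.node 4 (.node 2 (.node 1 (.leaf 0x80000000000000) (zeroT 0)) (.node 1 (zeroT 0) (.leaf 0x200000000000000))) (.node 2 (.node 1 (zeroT 0) (.leaf 0x40000000000000000)) (.node 1 (.leaf 0x4000000000000000) (.leaf 0x8000000000000000)))) (.node 4 (.node 2 (.node 1 (.leaf 0x80000000000000000) (.leaf 0x100000000000000000)) (zeroT 1)) (zeroT 2))) (.node 8 (.node 4 (.node 2 (.node 1 (zeroT 0) (.leaf 0x400000000000000000)) (zeroT 1)) (zeroT 2)) (.node 4 (.node 2 (zeroT 1) (.node 1 (.leaf 0x800000000000000000) (zeroT 0))) (zeroT 2))))) (.node 32 (.node 16 (.node 8 (zeroT 3) (.node 4 (.node 2 (.node 1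 (zeroT 0) (.leaf 0x1000000000000000)) (.node 1 (zeroT 0) (.leaf 0x1000000000000000))) (.node 2 (.node 1 (.leaf 0x3000000000000000) (.leaf 0x1000000000000000)) (zeroT 1)))) (zeroT 4)) (zeroT 5)))

/-- bracket with a basis vector -/
def adT61 : BT := (.node 64 (.node 32 (.node 16 (.node 8 (.node 4 (.node 2 (.node 1 (.leaf 0x1000) (.leaf 0x20000)) (.node 1 (zeroT 0) (.leaf 0x200000))) (.node 2 (.node 1 (.leaf 0x300000) (.leaf 0x600000000)) (.node 1 (.leaf 0x200000000) (.leaf 0x800000)))) (.node 4 (.node 2 (.node 1 (.leaf 0xf000000000000000000) (.leaf 0x1000000000000000000)) (.node 1 (zeroT 0) (.leaf 0x40000000000))) (.node 2 (.node 1 (zeroT 0) (.leaf 0x180000000000)) (.node 1 (.leaf 0x80000000000) (zeroT 0))))) (.node 8 (.node 4 (.node 2 (.node 1 (.leaf 0x8000000000000) (zeroT 0)) (.node 1 (.leaf 0x30000000000000) (.leaf 0x10000000000000))) (.node 2 (zeroT 1) (.node 1 (.leaf 0x800000000000000) (zeroT 0)))) (.node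 4 (.node 2 (.node 1 (.leaf 0x2000000000) (zeroT 0)) (.node 1 (.leaf 0x400000000000) (.leaf 0x600000000000))) (.node 2 (.node 1 (.leaf 0x2000000000000) (zeroT 0)) (.node 1 (zeroT 0) (.leaf 0x80000000000000)))))) (.node 16 (.node 8 (.node 4 (.node 2 (.node 1 (.leaf 0xc0000000000000) (zeroT 0)) (.node 1 (zeroT 0) (.leaf 0x400000000000000))) (.node 2 (.node 1 (.leaf 0x40000000000000000) (zeroT 0)) (.node 1 (.leaf 0x8000000000000000) (.leaf 0xc000000000000000)))) (.node 4 (.node 2 (.node 1 (.leaf 0x180000000000000000) (.leaf 0x80000000000000000)) (zeroT 1)) (zeroT 2))) (.node 8 (.node 4 (.node 2 (.node 1 (.leaf 0x400000000000000000) (zeroT 0)) (zeroT 1)) (zeroT 2)) (.node 4 (.node 2 (.node 1 (zeroT 0) (.leaf 0x800000000000000000)) (zeroT 1)) (zeroT 2))))) (.node 32 (.node 16 (.node 8 (zeroT 3) (.node 4 (.node 2 (.node 1 (zeroT 0) (.leaf 0x2000000000000000)) (.node 1 (zeroT 0) (.leaf 0x2000000000000000))) (.node 2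 (.node 1 (.leaf 0x1000000000000000) (.leaf 0x2000000000000000)) (zeroT 1)))) (zeroT 4)) (zeroT 5)))

/-- bracket with a basis vector -/
def adT62 : BT := (.node 64 (.node 32 (.node 16 (.node 8 (.node 4 (.node 2 (.node 1 (.leaf 0x2000) (.leaf 0x40000)) (.node 1 (.leaf 0x100000) (.leaf 0x400000))) (.node 2 (.node 1 (.leaf 0xc00000) (.leaf 0x9000000000000000000)) (.node 1 (.leaf 0x1e000000000000000000) (zeroT 0)))) (.node 4 (.node 2 (.node 1 (.leaf 0x4000000000) (.leaf 0xc000000000)) (.node 1 (zeroT 0) (.leaf 0x80000000000))) (.node 2 (.node 1 (.leaf 0x180000000000) (zeroT 0)) (.node 1 (.leaf 0x800000000000) (zeroT 0))))) (.node 8 (.node 4 (.node 2 (.node 1 (.leaf 0x10000000000000) (.leaf 0x30000000000000)) (.node 1 (zeroT 0) (.leaf 0x100000000000000))) (.node 2 (.node 1 (zeroT 0) (.leaf 0x800000000000000)) (zeroT 1))) (.node 4 (.node 2 (.node 1 (.leaf 0x10000000000) (.leaf 0x200000000000)) (.node 1 (.leaf 0x1000000000000)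 (.leaf 0x3000000000000))) (.node 2 (zeroT 1) (.node 1 (.leaf 0x40000000000000) (.leaf 0x200000000000000)))))) (.node 16 (.node 8 (.node 4 (.node 2 (.node 1 (.leaf 0x600000000000000) (.leaf 0x1000000000000000)) (.node 1 (.leaf 0x3000000000000000) (zeroT 0))) (.node 2 (.node 1 (.leaf 0x80000000000000000) (.leaf 0x180000000000000000)) (zeroT 1))) (.node 4 (.node 2 (.node 1 (zeroT 0) (.leaf 0x200000000000000000)) (zeroT 1)) (.node 2 (zeroT 1) (.node 1 (.leaf 0x400000000000000000) (zeroT 0))))) (.node 8 (.node 4 (zeroT 2) (.node 2 (zeroT 1) (.node 1 (zeroT 0) (.leaf 0x800000000000000000)))) (zeroT 3)))) (.node 32 (.node 16 (.node 8 (zeroT 3) (.node 4 (.node 2 (.node 1 (.leaf 0x4000000000000000) (.leaf 0x8000000000000000)) (.node 1 (zeroT 0) (.leaf 0x4000000000000000))) (.node 2 (.node 1 (.leaf 0xc000000000000000) (zeroT 0)) (zeroT 1)))) (zeroT 4)) (zeroT 5)))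

/-- bracket with a basis vector -/
def adT63 : BT := (.node 64 (.node 32 (.node 16 (.node 8 (.node 4 (.node 2 (.node 1 (.leaf 0x4000) (.leaf 0x80000)) (.node 1 (.leaf 0x200000) (.leaf 0x800000))) (.node 2 (.node 1 (.leaf 0x400000) (.leaf 0x17000000000000000000)) (.node 1 (.leaf 0x9000000000000000000) (zeroT 0)))) (.node 4 (.node 2 (.node 1 (.leaf 0x8000000000) (.leaf 0x4000000000)) (.node 1 (zeroT 0) (.leaf 0x100000000000))) (.node 2 (.node 1 (.leaf 0x80000000000) (.leaf 0x800000000000)) (zeroT 1)))) (.node 8 (.node 4 (.node 2 (.node 1 (.leaf 0x20000000000000) (.leaf 0x10000000000000)) (.node 1 (.leaf 0x100000000000000) (zeroT 0))) (.node 2 (.node 1 (.leaf 0x800000000000000) (zeroT 0)) (zeroT 1))) (.node 4 (.node 2 (.node 1 (.leaf 0x20000000000) (.leaf 0x400000000000)) (.node 1 (.leaf 0x2000000000000) (.leaf 0x1000000000000))) (.node 2 (zeroT 1) (.node 1 (.leaf 0x80000000000000) (.leaf 0x400000000000000))))))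 (.node 16 (.node 8 (.node 4 (.node 2 (.node 1 (.leaf 0x200000000000000) (.leaf 0x2000000000000000)) (.node 1 (.leaf 0x1000000000000000) (zeroT 0))) (.node 2 (.node 1 (.leaf 0x100000000000000000) (.leaf 0x80000000000000000)) (zeroT 1))) (.node 4 (.node 2 (.node 1 (.leaf 0x200000000000000000) (zeroT 0)) (zeroT 1)) (.node 2 (.node 1 (zeroT 0) (.leaf 0x400000000000000000)) (zeroT 1)))) (.node 8 (.node 4 (zeroT 2) (.node 2 (zeroT 1) (.node 1 (.leaf 0x800000000000000000) (zeroT 0)))) (zeroT 3)))) (.node 32 (.node 16 (.node 8 (zeroT 3) (.node 4 (.node 2 (.node 1 (.leaf 0x8000000000000000) (.leaf 0xc000000000000000)) (.node 1 (zeroT 0) (.leaf 0x8000000000000000))) (.node 2 (.node 1 (.leaf 0x4000000000000000) (zeroT 0)) (zeroT 1)))) (zeroT 4)) (zeroT 5)))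

/-- bracket with a basis vector -/
def adT64 : BT := (.node 64 (.node 32 (.node 16 (.node 8 (.node 4 (.node 2 (.node 1 (zeroT 0) (.leaf 0x1000000)) (.node 1 (.leaf 0x2000000) (.leaf 0x4000000))) (.node 2 (.node 1 (.leaf 0x8000000) (zeroT 0)) (.node 1 (zeroT 0) (.leaf 0x10000000)))) (.node 4 (.node 2 (zeroT 1) (.node 1 (.leaf 0x20000000) (zeroT 0))) (.node 2 (zeroT 1) (.node 1 (zeroT 0) (.leaf 0x29000000000000000000))))) (.node 8 (.node 4 (.node 2 (.node 1 (.leaf 0x1000000000) (.leaf 0x2000000000)) (.node 1 (.leaf 0x10000000000) (.leaf 0x20000000000))) (.node 2 (.node 1 (.leaf 0x200000000000) (.leaf 0x400000000000)) (.node 1 (.leaf 0x1000000000000) (.leaf 0x2000000000000)))) (zeroT 3))) (.node 16 (zeroT 4) (.node 8 (.node 4 (.node 2 (zeroT 1) (.node 1 (.leaf 0x20000000000000000) (.leaf 0x40000000000000000))) (.node 2 (.node 1 (.leaf 0x80000000000000000) (.leaf 0x100000000000000000)) (zeroT 1))) (.node 4 (.node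 2 (.node 1 (.leaf 0x200000000000000000) (zeroT 0)) (.node 1 (zeroT 0) (.leaf 0x400000000000000000))) (zeroT 2))))) (.node 32 (.node 16 (.node 8 (zeroT 3) (.node 4 (.node 2 (.node 1 (zeroT 0) (.leaf 0x10000000000000000)) (.node 1 (.leaf 0x10000000000000000) (zeroT 0))) (zeroT 2))) (zeroT 4)) (zeroT 5)))

/-- bracket with a basis vector -/
def adT65 : BT := (.node 64 (.node 32 (.node 16 (.node 8 (.node 4 (.node 2 (.node 1 (.leaf 0x1000000) (zeroT 0)) (.node 1 (.leaf 0x40000000) (.leaf 0x80000000))) (.node 2 (.node 1 (.leaf 0x100000000) (zeroT 0)) (.node 1 (zeroT 0) (.leaf 0x800000000)))) (.node 4 (.node 2 (zeroT 1) (.node 1 (.leaf 0x2d000000000000000000) (.leaf 0x1000000000))) (.node 2 (.node 1 (.leaf 0x2000000000) (.leaf 0x10000000000)) (.node 1 (.leaf 0x20000000000) (.leaf 0x4000000000000))))) (.node 8 (.node 4 (zeroT 2) (.node 2 (.node 1 (.leaf 0x40000000000000) (.leaf 0x80000000000000)) (.node 1 (.leaf 0x200000000000000)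 (.leaf 0x400000000000000)))) (.node 4 (zeroT 2) (.node 2 (.node 1 (zeroT 0) (.leaf 0x10000000000000000)) (zeroT 1))))) (.node 16 (.node 8 (zeroT 3) (.node 4 (.node 2 (zeroT 1) (.node 1 (.leaf 0x40000000000000000) (.leaf 0x80000000000000000))) (.node 2 (.node 1 (.leaf 0x100000000000000000) (zeroT 0)) (.node 1 (zeroT 0) (.leaf 0x200000000000000000))))) (.node 8 (zeroT 3) (.node 4 (.node 2 (zeroT 1) (.node 1 (zeroT 0) (.leaf 0x800000000000000000))) (zeroT 2))))) (.node 32 (.node 16 (.node 8 (zeroT 3) (.node 4 (.node 2 (.node 1 (zeroT 0) (.leaf 0x20000000000000000)) (.node 1 (.leaf 0x20000000000000000) (zeroT 0))) (.node 2 (.node 1 (zeroT 0) (.leaf 0x20000000000000000)) (zeroT 1)))) (zeroT 4)) (zeroT 5)))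

/-- bracket with a basis vector -/
def adT66 : BT := (.node 64 (.node 32 (.node 16 (.node 8 (.node 4 (.node 2 (.node 1 (.leaf 0x2000000) (.leaf 0x40000000)) (.node 1 (zeroT 0) (.leaf 0x200000000))) (.node 2 (.node 1 (.leaf 0x400000000) (zeroT 0)) (.node 1 (zeroT 0) (.leaf 0xd000000000000000000)))) (.node 4 (.node 2 (.node 1 (.leaf 0x1000000000) (.leaf 0x2000000000)) (.node 1 (.leaf 0x40000000000) (zeroT 0))) (.node 2 (.node 1 (zeroT 0) (.leaf 0x200000000000)) (.node 1 (.leaf 0x400000000000) (.leaf 0x8000000000000))))) (.node 8 (.node 4 (.node 2 (zeroT 1) (.node 1 (.leaf 0x40000000000000) (.leaf 0x80000000000000))) (.node 2 (zeroT 1) (.node 1 (.leaf 0x1000000000000000) (.leaf 0x2000000000000000)))) (.node 4 (zeroT 2) (.node 2 (.node 1 (.leaf 0x10000000000000000) (zeroT 0)) (zeroT 1))))) (.node 16 (.node 8 (.node 4 (.node 2 (zeroT 1) (.node 1 (zeroT 0) (.leaf 0x20000000000000000))) (.node 2 (zeroT 1) (.node 1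 (.leaf 0x80000000000000000) (.leaf 0x100000000000000000)))) (.node 4 (zeroT 2) (.node 2 (zeroT 1) (.node 1 (zeroT 0) (.leaf 0x400000000000000000))))) (.node 8 (zeroT 3) (.node 4 (.node 2 (.node 1 (.leaf 0x800000000000000000) (zeroT 0)) (zeroT 1)) (zeroT 2))))) (.node 32 (.node 16 (.node 8 (zeroT 3) (.node 4 (.node 2 (.node 1 (zeroT 0) (.leaf 0x40000000000000000)) (zeroT 1)) (.node 2 (.node 1 (.leaf 0x40000000000000000) (.leaf 0x40000000000000000)) (zeroT 1)))) (zeroT 4)) (zeroT 5)))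

/-- bracket with a basis vector -/
def adT67 : BT := (.node 64 (.node 32 (.node 16 (.node 8 (.node 4 (.node 2 (.node 1 (.leaf 0x4000000) (.leaf 0x80000000)) (.node 1 (.leaf 0x200000000) (.leaf 0x8000000000000000000))) (.node 2 (.node 1 (.leaf 0x1d000000000000000000) (.leaf 0x1000000000)) (.node 1 (.leaf 0x2000000000) (.leaf 0x4000000000)))) (.node 4 (.node 2 (.node 1 (.leaf 0x10000000000) (.leaf 0x20000000000)) (.node 1 (.leaf 0x80000000000) (.leaf 0x200000000000))) (.node 2 (.node 1 (.leaf 0x400000000000) (.leaf 0x1000000000000)) (.node 1 (.leaf 0x2000000000000) (.leaf 0x10000000000000))))) (.node 8 (.node 4 (.node 2 (.node 1 (.leaf 0x40000000000000) (.leaf 0x80000000000000)) (.node 1 (.leaf 0x200000000000000) (.leaf 0x400000000000000))) (.node 2 (.node 1 (.leaf 0x1000000000000000) (.leaf 0x2000000000000000)) (.node 1 (.leaf 0x4000000000000000) (.leaf 0x8000000000000000)))) (.node 4 (.node 2 (zeroT 1) (.node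 1 (zeroT 0) (.leaf 0x10000000000000000))) (zeroT 2)))) (.node 16 (.node 8 (.node 4 (.node 2 (.node 1 (.leaf 0x20000000000000000) (zeroT 0)) (.node 1 (.leaf 0x40000000000000000) (zeroT 0))) (.node 2 (zeroT 1) (.node 1 (zeroT 0) (.leaf 0x200000000000000000)))) (.node 4 (zeroT 2) (.node 2 (.node 1 (.leaf 0x400000000000000000) (zeroT 0)) (zeroT 1)))) (.node 8 (.node 4 (zeroT 2) (.node 2 (.node 1 (zeroT 0) (.leaf 0x800000000000000000)) (zeroT 1))) (zeroT 3)))) (.node 32 (.node 16 (.node 8 (zeroT 3) (.node 4 (.node 2 (.node 1 (.leaf 0x80000000000000000) (.leaf 0x100000000000000000)) (zeroT 1)) (.node 2 (.node 1 (.leaf 0x80000000000000000) (zeroT 0)) (zeroT 1)))) (zeroT 4)) (zeroT 5)))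

/-- bracket with a basis vector -/
def adT68 : BT := (.node 64 (.node 32 (.node 16 (.node 8 (.node 4 (.node 2 (.node 1 (.leaf 0x8000000) (.leaf 0x100000000)) (.node 1 (.leaf 0x400000000) (.leaf 0x15000000000000000000))) (.node 2 (.node 1 (.leaf 0x8000000000000000000) (.leaf 0x3000000000)) (.node 1 (.leaf 0x1000000000) (.leaf 0x8000000000)))) (.node 4 (.node 2 (.node 1 (.leaf 0x20000000000) (.leaf 0x30000000000)) (.node 1 (.leaf 0x100000000000) (.leaf 0x400000000000))) (.node 2 (.node 1 (.leaf 0x600000000000) (.leaf 0x3000000000000)) (.node 1 (.leaf 0x1000000000000) (.leaf 0x20000000000000))))) (.node 8 (.node 4 (.node 2 (.node 1 (.leaf 0x80000000000000) (.leaf 0xc0000000000000)) (.node 1 (.leaf 0x600000000000000) (.leaf 0x200000000000000))) (.node 2 (.node 1 (.leaf 0x3000000000000000) (.leaf 0x1000000000000000)) (.node 1 (.leaf 0x8000000000000000) (.leaf 0xc000000000000000)))) (.node 4 (.node 2 (zeroT 1) (.node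 1 (.leaf 0x10000000000000000) (zeroT 0))) (.node 2 (zeroT 1) (.node 1 (zeroT 0) (.leaf 0x20000000000000000)))))) (.node 16 (.node 8 (.node 4 (.node 2 (.node 1 (zeroT 0) (.leaf 0x40000000000000000)) (zeroT 1)) (.node 2 (zeroT 1) (.node 1 (.leaf 0x200000000000000000) (zeroT 0)))) (.node 4 (.node 2 (zeroT 1) (.node 1 (zeroT 0) (.leaf 0x400000000000000000))) (zeroT 2))) (.node 8 (.node 4 (zeroT 2) (.node 2 (.node 1 (.leaf 0x800000000000000000) (zeroT 0)) (zeroT 1))) (zeroT 3)))) (.node 32 (.node 16 (.node 8 (zeroT 3) (.node 4 (.node 2 (.node 1 (.leaf 0x100000000000000000) (.leaf 0x180000000000000000)) (zeroT 1)) (.node 2 (.node 1 (.leaf 0x100000000000000000) (zeroT 0)) (zeroT 1)))) (zeroT 4)) (zeroT 5)))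

/-- bracket with a basis vector -/
def adT69 : BT := (.node 64 (.node 32 (.node 16 (.node 8 (.node 4 (.node 2 (.node 1 (.leaf 0x10000000) (.leaf 0x800000000)) (.node 1 (.leaf 0x5000000000000000000) (.leaf 0x4000000000))) (.node 2 (.node 1 (.leaf 0x8000000000) (.leaf 0x10000000000)) (.node 1 (.leaf 0x20000000000) (zeroT 0)))) (.node 4 (.node 2 (zeroT 1) (.node 1 (.leaf 0x800000000000) (.leaf 0x1000000000000))) (.node 2 (.node 1 (.leaf 0x2000000000000) (zeroT 0)) (.node 1 (zeroT 0) (.leaf 0x100000000000000))))) (.node 8 (.node 4 (.node 2 (.node 1 (.leaf 0x200000000000000) (.leaf 0x400000000000000)) (zeroT 1)) (.node 2 (.node 1 (.leaf 0x4000000000000000) (.leaf 0x8000000000000000)) (zeroT 1))) (.node 4 (.node 2 (.node 1 (zeroT 0) (.leaf 0x10000000000000000)) (zeroT 1)) (.node 2 (zeroT 1) (.node 1 (.leaf 0x20000000000000000) (zeroT 0)))))) (.node 16 (.node 8 (.node 4 (.node 2 (.node 1 (zeroT 0) (.leaf 0x80000000000000000))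 (.node 1 (.leaf 0x100000000000000000) (zeroT 0))) (zeroT 2)) (.node 4 (.node 2 (zeroT 1) (.node 1 (.leaf 0x400000000000000000) (zeroT 0))) (zeroT 2))) (.node 8 (.node 4 (.node 2 (zeroT 1) (.node 1 (zeroT 0) (.leaf 0x800000000000000000))) (zeroT 2)) (zeroT 3)))) (.node 32 (.node 16 (.node 8 (zeroT 3) (.node 4 (zeroT 2) (.node 2 (.node 1 (.leaf 0x200000000000000000) (.leaf 0x200000000000000000)) (zeroT 1)))) (zeroT 4)) (zeroT 5)))

/-- bracket with a basis vector -/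
def adT70 : BT := (.node 64 (.node 32 (.node 16 (.node 8 (.node 4 (.node 2 (.node 1 (.leaf 0x20000000) (.leaf 0x25000000000000000000)) (.node 1 (.leaf 0x40000000000) (.leaf 0x80000000000))) (.node 2 (.node 1 (.leaf 0x100000000000) (.leaf 0x200000000000)) (.node 1 (.leaf 0x400000000000) (.leaf 0x800000000000)))) (.node 4 (.node 2 (.node 1 (.leaf 0x1000000000000) (.leaf 0x2000000000000)) (zeroT 1)) (.node 2 (zeroT 1) (.node 1 (zeroT 0) (.leaf 0x800000000000000))))) (.node 8 (.node 4 (.node 2 (.node 1 (.leaf 0x1000000000000000) (.leaf 0x2000000000000000)) (.node 1 (.leaf 0x4000000000000000) (.leaf 0x8000000000000000))) (zeroT 2)) (.node 4 (.node 2 (.node 1 (.leaf 0x10000000000000000) (zeroT 0)) (zeroT 1)) (.node 2 (zeroT 1) (.node 1 (.leaf 0x40000000000000000) (.leaf 0x80000000000000000)))))) (.node 16 (.node 8 (.node 4 (.node 2 (.node 1 (.leaf 0x100000000000000000) (zeroT 0)) (.node 1 (zeroT 0) (.leaf 0x200000000000000000)))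 (zeroT 2)) (zeroT 3)) (.node 8 (.node 4 (.node 2 (zeroT 1) (.node 1 (.leaf 0x800000000000000000) (zeroT 0))) (zeroT 2)) (zeroT 3)))) (.node 32 (.node 16 (.node 8 (zeroT 3) (.node 4 (.node 2 (zeroT 1) (.node 1 (.leaf 0x400000000000000000) (zeroT 0))) (.node 2 (.node 1 (zeroT 0) (.leaf 0x400000000000000000)) (zeroT 1)))) (zeroT 4)) (zeroT 5)))

/-- bracket with a basis vector -/
def adT71 : BT := (.node 64 (.node 32 (.node 16 (.node 8 (.node 4 (.node 2 (.node 1 (.leaf 0x21000000000000000000) (.leaf 0x4000000000000)) (.node 1 (.leaf 0x8000000000000) (.leaf 0x10000000000000))) (.node 2 (.node 1 (.leaf 0x20000000000000) (.leaf 0x40000000000000)) (.node 1 (.leaf 0x80000000000000) (.leaf 0x100000000000000)))) (.node 4 (.node 2 (.node 1 (.leaf 0x200000000000000) (.leaf 0x400000000000000)) (.node 1 (.leaf 0x800000000000000) (.leaf 0x1000000000000000))) (.node 2 (.node 1 (.leaf 0x2000000000000000) (.leaf 0x4000000000000000))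 (.node 1 (.leaf 0x8000000000000000) (zeroT 0))))) (.node 8 (zeroT 3) (.node 4 (.node 2 (.node 1 (.leaf 0x20000000000000000) (.leaf 0x40000000000000000)) (.node 1 (.leaf 0x80000000000000000) (.leaf 0x100000000000000000))) (.node 2 (.node 1 (.leaf 0x200000000000000000) (.leaf 0x400000000000000000)) (zeroT 1))))) (zeroT 5)) (.node 32 (.node 16 (.node 8 (zeroT 3) (.node 4 (.node 2 (zeroT 1) (.node 1 (.leaf 0x800000000000000000) (zeroT 0))) (zeroT 2))) (zeroT 4)) (zeroT 5)))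

/-- bracket with a basis vector -/
def adT72 : BT := (.node 64 (.node 32 (.node 16 (.node 8 (.node 4 (.node 2 (zeroT 1) (.node 1 (zeroT 0) (.leaf 0x8))) (.node 2 (.node 1 (.leaf 0x10) (.leaf 0x20)) (.node 1 (.leaf 0x40) (zeroT 0)))) (.node 4 (zeroT 2) (.node 2 (.node 1 (zeroT 0) (.leaf 0x2000)) (.node 1 (.leaf 0x4000) (zeroT 0))))) (.node 8 (.node 4 (.node 2 (zeroT 1) (.node 1 (.leaf 0x40000) (.leaf 0x80000))) (.node 2 (.node 1 (.leaf 0x100000) (.leaf 0x200000)) (zeroT 1))) (.node 4 (.node 2 (zeroT 1) (.node 1 (.leaf 0x4000000) (.leaf 0x8000000))) (.node 2 (zeroT 1) (.node 1 (zeroT 0) (.leaf 0x80000000)))))) (.node 16 (.node 8 (.node 4 (.node 2 (.node 1 (.leaf 0x100000000) (.leaf 0x200000000)) (.node 1 (.leaf 0x400000000) (zeroT 0))) (.node 2 (zeroT 1) (.node 1 (.leaf 0x4000000000) (.leaf 0x8000000000)))) (.node 4 (.node 2 (.node 1 (.leaf 0x10000000000) (.leaf 0x20000000000)) (.node 1 (zeroT 0) (.leaf 0x80000000000)))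 (.node 2 (.node 1 (.leaf 0x100000000000) (.leaf 0x200000000000)) (.node 1 (.leaf 0x400000000000) (zeroT 0))))) (.node 8 (.node 4 (zeroT 2) (.node 2 (.node 1 (.leaf 0x10000000000000) (.leaf 0x20000000000000)) (.node 1 (.leaf 0x40000000000000) (.leaf 0x80000000000000)))) (.node 4 (zeroT 2) (.node 2 (zeroT 1) (.node 1 (.leaf 0x4000000000000000) (.leaf 0x8000000000000000))))))) (.node 32 (.node 16 (.node 8 (.node 4 (.node 2 (zeroT 1) (.node 1 (zeroT 0) (.leaf 0x80000000000000000))) (.node 2 (.node 1 (.leaf 0x100000000000000000) (zeroT 0)) (zeroT 1))) (zeroT 3)) (zeroT 4)) (zeroT 5)))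

/-- bracket with a basis vector -/
def adT73 : BT := (.node 64 (.node 32 (.node 16 (.node 8 (.node 4 (.node 2 (zeroT 1) (.node 1 (zeroT 0) (.leaf 0x18))) (.node 2 (.node 1 (.leaf 0x8) (.leaf 0x60)) (.node 1 (.leaf 0x20) (.leaf 0x80)))) (.node 4 (.node 2 (.node 1 (.leaf 0x100) (.leaf 0x200)) (.node 1 (.leaf 0x400) (.leaf 0x800))) (.node 2 (.node 1 (.leaf 0x1000) (.leaf 0x4000)) (.node 1 (.leaf 0x6000) (.leaf 0x8000))))) (.node 8 (.node 4 (.node 2 (.node 1 (.leaf 0x10000) (.leaf 0x20000)) (.node 1 (.leaf 0x80000) (.leaf 0xc0000))) (.node 2 (.node 1 (.leaf 0x200000) (.leaf 0x300000)) (zeroT 1))) (.node 4 (.node 2 (.node 1 (.leaf 0x1000000) (.leaf 0x2000000)) (.node 1 (.leaf 0x8000000) (.leaf 0xc000000))) (.node 2 (zeroT 1) (.node 1 (.leaf 0x40000000) (.leaf 0x100000000)))))) (.node 16 (.node 8 (.node 4 (.node 2 (.node 1 (.leaf 0x180000000) (.leaf 0x400000000)) (.node 1 (.leaf 0x600000000) (zeroT 0))) (.node 2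 (zeroT 1) (.node 1 (.leaf 0xc000000000) (.leaf 0x4000000000)))) (.node 4 (.node 2 (.node 1 (.leaf 0x30000000000) (.leaf 0x10000000000)) (.node 1 (zeroT 0) (.leaf 0x180000000000))) (.node 2 (.node 1 (.leaf 0x80000000000) (.leaf 0x600000000000)) (.node 1 (.leaf 0x200000000000) (.leaf 0x800000000000))))) (.node 8 (.node 4 (.node 2 (.node 1 (.leaf 0x1000000000000) (.leaf 0x2000000000000)) (zeroT 1)) (.node 2 (.node 1 (.leaf 0x30000000000000) (.leaf 0x10000000000000)) (.node 1 (.leaf 0xc0000000000000) (.leaf 0x40000000000000)))) (.node 4 (.node 2 (.node 1 (.leaf 0x100000000000000) (.leaf 0x200000000000000)) (.node 1 (.leaf 0x400000000000000) (.leaf 0x800000000000000))) (.node 2 (.node 1 (.leaf 0x1000000000000000) (.leaf 0x2000000000000000)) (.node 1 (.leaf 0x8000000000000000) (.leaf 0xc000000000000000))))))) (.node 32 (.node 16 (.node 8 (.node 4 (.node 2 (.node 1 (.leaf 0x10000000000000000) (.leaf 0x20000000000000000))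 (.node 1 (.leaf 0x40000000000000000) (.leaf 0x100000000000000000))) (.node 2 (.node 1 (.leaf 0x180000000000000000) (zeroT 0)) (zeroT 1))) (zeroT 3)) (zeroT 4)) (zeroT 5)))

/-- bracket with a basis vector -/
def adT74 : BT := (.node 64 (.node 32 (.node 16 (.node 8 (.node 4 (.node 2 (.node 1 (.leaf 0x1) (.leaf 0x2)) (zeroT 1)) (zeroT 2)) (.node 4 (.node 2 (zeroT 1) (.node 1 (.leaf 0x400) (.leaf 0x800))) (.node 2 (.node 1 (.leaf 0x1000) (.leaf 0x2000)) (.node 1 (.leaf 0x4000) (.leaf 0x8000))))) (.node 8 (.node 4 (.node 2 (.node 1 (.leaf 0x10000) (.leaf 0x20000)) (.node 1 (.leaf 0x40000) (.leaf 0x80000))) (zeroT 2)) (.node 4 (.node 2 (.node 1 (zeroT 0) (.leaf 0x2000000)) (.node 1 (.leaf 0x4000000) (.leaf 0x8000000))) (.node 2 (.node 1 (.leaf 0x10000000) (zeroT 0)) (.node 1 (.leaf 0x40000000) (.leaf 0x80000000)))))) (.node 16 (.node 8 (.node 4 (.node 2 (.node 1 (.leaf 0x100000000) (zeroT 0)) (.node 1 (zeroT 0) (.leaf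 0x800000000))) (zeroT 2)) (.node 4 (.node 2 (zeroT 1) (.node 1 (.leaf 0x40000000000) (.leaf 0x80000000000))) (.node 2 (.node 1 (.leaf 0x100000000000) (.leaf 0x200000000000)) (.node 1 (.leaf 0x400000000000) (.leaf 0x800000000000))))) (.node 8 (.node 4 (.node 2 (.node 1 (.leaf 0x1000000000000) (.leaf 0x2000000000000)) (.node 1 (zeroT 0) (.leaf 0x8000000000000))) (.node 2 (.node 1 (.leaf 0x10000000000000) (.leaf 0x20000000000000)) (.node 1 (.leaf 0x40000000000000) (.leaf 0x80000000000000)))) (.node 4 (.node 2 (.node 1 (.leaf 0x100000000000000) (.leaf 0x200000000000000)) (.node 1 (.leaf 0x400000000000000) (zeroT 0))) (zeroT 2))))) (.node 32 (.node 16 (.node 8 (.node 4 (.node 2 (.node 1 (.leaf 0x10000000000000000) (.leaf 0x20000000000000000)) (zeroT 1)) (.node 2 (zeroT 1) (.node 1 (.leaf 0x400000000000000000) (.leaf 0x800000000000000000)))) (zeroT 3)) (zeroT 4)) (zeroT 5)))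

/-- bracket with a basis vector -/
def adT75 : BT := (.node 64 (.node 32 (.node 16 (.node 8 (.node 4 (zeroT 2) (.node 2 (.node 1 (zeroT 0) (.leaf 0x20)) (.node 1 (.leaf 0x40) (zeroT 0)))) (.node 4 (.node 2 (.node 1 (.leaf 0x100) (.leaf 0x200)) (.node 1 (zeroT 0) (.leaf 0x800))) (.node 2 (.node 1 (.leaf 0x1000) (.leaf 0x2000)) (.node 1 (.leaf 0x4000) (zeroT 0))))) (.node 8 (.node 4 (.node 2 (.node 1 (.leaf 0x10000) (.leaf 0x20000)) (.node 1 (.leaf 0x40000) (.leaf 0x80000))) (.node 2 (.node 1 (.leaf 0x100000) (.leaf 0x200000)) (.node 1 (.leaf 0x400000) (.leaf 0x800000)))) (zeroT 3))) (.node 16 (.node 8 (.node 4 (zeroT 2) (.node 2 (.node 1 (.leaf 0x1000000000) (.leaf 0x2000000000)) (zeroT 1))) (.node 4 (.node 2 (.node 1 (.leaf 0x10000000000) (.leaf 0x20000000000)) (zeroT 1)) (.node 2 (.node 1 (zeroT 0) (.leaf 0x200000000000)) (.node 1 (.leaf 0x400000000000) (zeroT 0))))) (.node 8 (.node 4 (.node 2 (.node 1 (.leaf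 0x1000000000000) (.leaf 0x2000000000000)) (zeroT 1)) (.node 2 (zeroT 1) (.node 1 (.leaf 0x40000000000000) (.leaf 0x80000000000000)))) (.node 4 (.node 2 (.node 1 (zeroT 0) (.leaf 0x200000000000000)) (.node 1 (.leaf 0x400000000000000) (zeroT 0))) (.node 2 (.node 1 (.leaf 0x1000000000000000) (.leaf 0x2000000000000000)) (.node 1 (.leaf 0x4000000000000000) (.leaf 0x8000000000000000))))))) (zeroT 6))

/-- bracket with a basis vector -/
def adT76 : BT := (.node 64 (.node 32 (.node 16 (.node 8 (.node 4 (.node 2 (zeroT 1) (.node 1 (.leaf 0x4) (.leaf 0x8))) (.node 2 (.node 1 (.leaf 0x10) (.leaf 0x40)) (.node 1 (.leaf 0x60) (.leaf 0x80)))) (.node 4 (.node 2 (.node 1 (.leaf 0x200) (.leaf 0x300)) (.node 1 (zeroT 0) (.leaf 0x1800))) (.node 2 (.node 1 (.leaf 0x800) (.leaf 0x6000)) (.node 1 (.leaf 0x2000) (zeroT 0))))) (.node 8 (.node 4 (.node 2 (.node 1 (.leaf 0x30000) (.leaf 0x10000)) (.node 1 (.leaf 0xc0000) (.leaf 0x40000)))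 (.node 2 (.node 1 (.leaf 0x200000) (.leaf 0x300000)) (.node 1 (.leaf 0x800000) (.leaf 0xc00000)))) (.node 4 (.node 2 (.node 1 (zeroT 0) (.leaf 0x2000000)) (.node 1 (.leaf 0x4000000) (.leaf 0x8000000))) (.node 2 (.node 1 (.leaf 0x10000000) (zeroT 0)) (.node 1 (.leaf 0x40000000) (.leaf 0x80000000)))))) (.node 16 (.node 8 (.node 4 (.node 2 (.node 1 (.leaf 0x100000000) (zeroT 0)) (.node 1 (zeroT 0) (.leaf 0x800000000))) (.node 2 (.node 1 (.leaf 0x3000000000) (.leaf 0x1000000000)) (zeroT 1))) (.node 4 (.node 2 (.node 1 (.leaf 0x30000000000) (.leaf 0x10000000000)) (.node 1 (.leaf 0x40000000000) (.leaf 0x80000000000))) (.node 2 (.node 1 (.leaf 0x100000000000) (.leaf 0x400000000000)) (.node 1 (.leaf 0x600000000000) (.leaf 0x800000000000))))) (.node 8 (.node 4 (.node 2 (.node 1 (.leaf 0x2000000000000) (.leaf 0x3000000000000)) (.node 1 (zeroT 0) (.leaf 0x8000000000000))) (.node 2 (.node 1 (.leaf 0x10000000000000) (.leaf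 0x20000000000000)) (.node 1 (.leaf 0x80000000000000) (.leaf 0xc0000000000000)))) (.node 4 (.node 2 (.node 1 (.leaf 0x100000000000000) (.leaf 0x400000000000000)) (.node 1 (.leaf 0x600000000000000) (zeroT 0))) (.node 2 (.node 1 (.leaf 0x3000000000000000) (.leaf 0x1000000000000000)) (.node 1 (.leaf 0xc000000000000000) (.leaf 0x4000000000000000))))))) (.node 32 (.node 16 (.node 8 (.node 4 (.node 2 (zeroT 1) (.node 1 (.leaf 0x40000000000000000) (.leaf 0x80000000000000000))) (.node 2 (.node 1 (.leaf 0x100000000000000000) (.leaf 0x200000000000000000)) (zeroT 1))) (zeroT 3)) (zeroT 4)) (zeroT 5)))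

/-- bracket with a basis vector -/
def adT77 : BT := (.node 64 (.node 32 (.node 16 (.node 8 (.node 4 (.node 2 (.node 1 (zeroT 0) (.leaf 0x2)) (.node 1 (.leaf 0x4) (zeroT 0))) (.node 2 (zeroT 1) (.node 1 (zeroT 0) (.leaf 0x80)))) (.node 4 (.node 2 (.node 1 (.leaf 0x100) (.leaf 0x200)) (.node 1 (.leaf 0x400) (.leaf 0x800))) (.node 2 (.node 1 (.leaf 0x1000) (zeroT 0)) (zeroT 1)))) (.node 8 (.node 4 (.node 2 (zeroT 1) (.node 1 (.leaf 0x40000) (.leaf 0x80000))) (.node 2 (.node 1 (.leaf 0x100000) (.leaf 0x200000)) (zeroT 1))) (.node 4 (.node 2 (.node 1 (.leaf 0x1000000) (.leaf 0x2000000)) (zeroT 1)) (.node 2 (.node 1 (.leaf 0x10000000) (.leaf 0x20000000)) (.node 1 (zeroT 0) (.leaf 0x80000000)))))) (.node 16 (.node 8 (.node 4 (.node 2 (.node 1 (.leaf 0x100000000) (.leaf 0x200000000)) (.node 1 (.leaf 0x400000000) (zeroT 0))) (.node 2 (zeroT 1) (.node 1 (.leaf 0x4000000000) (.leaf 0x8000000000)))) (.node 4 (.node 2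 (.node 1 (.leaf 0x10000000000) (.leaf 0x20000000000)) (.node 1 (zeroT 0) (.leaf 0x80000000000))) (.node 2 (.node 1 (.leaf 0x100000000000) (.leaf 0x200000000000)) (.node 1 (.leaf 0x400000000000) (zeroT 0))))) (.node 8 (.node 4 (.node 2 (zeroT 1) (.node 1 (.leaf 0x4000000000000) (.leaf 0x8000000000000))) (zeroT 2)) (.node 4 (.node 2 (.node 1 (.leaf 0x100000000000000) (.leaf 0x200000000000000)) (.node 1 (.leaf 0x400000000000000) (.leaf 0x800000000000000))) (.node 2 (.node 1 (.leaf 0x1000000000000000) (.leaf 0x2000000000000000)) (zeroT 1)))))) (.node 32 (.node 16 (.node 8 (.node 4 (.node 2 (.node 1 (zeroT 0) (.leaf 0x20000000000000000)) (.node 1 (.leaf 0x40000000000000000) (zeroT 0))) (.node 2 (.node 1 (zeroT 0) (.leaf 0x200000000000000000)) (.node 1 (.leaf 0x400000000000000000) (zeroT 0)))) (zeroT 3)) (zeroT 4)) (zeroT 5)))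

/-- the bracket -/
def adA : AT := (.node 64 (.node 32 (.node 16 (.node 8 (.node 4 (.node 2 (.node 1 (.leaf adT0) (.leaf adT1)) (.node 1 (.leaf adT2) (.leaf adT3))) (.node 2 (.node 1 (.leaf adT4) (.leaf adT5)) (.node 1 (.leaf adT6) (.leaf adT7)))) (.node 4 (.node 2 (.node 1 (.leaf adT8) (.leaf adT9)) (.node 1 (.leaf adT10) (.leaf adT11))) (.node 2 (.node 1 (.leaf adT12) (.leaf adT13)) (.node 1 (.leaf adT14) (.leaf adT15))))) (.node 8 (.node 4 (.node 2 (.node 1 (.leaf adT16) (.leaf adT17)) (.node 1 (.leaf adT18) (.leaf adT19))) (.node 2 (.node 1 (.leaf adT20) (.leaf adT21)) (.node 1 (.leaf adT22) (.leaf adT23)))) (.node 4 (.node 2 (.node 1 (.leaf adT24) (.leaf adT25)) (.node 1 (.leaf adT26) (.leaf adT27))) (.node 2 (.node 1 (.leaf adT28) (.leaf adT29)) (.node 1 (.leaf adT30) (.leaf adT31)))))) (.node 16 (.node 8 (.node 4 (.node 2 (.node 1 (.leaf adT32) (.leaf adT33)) (.node 1 (.leaf adT34) (.leaf adT35))) (.node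 2 (.node 1 (.leaf adT36) (.leaf adT37)) (.node 1 (.leaf adT38) (.leaf adT39)))) (.node 4 (.node 2 (.node 1 (.leaf adT40) (.leaf adT41)) (.node 1 (.leaf adT42) (.leaf adT43))) (.node 2 (.node 1 (.leaf adT44) (.leaf adT45)) (.node 1 (.leaf adT46) (.leaf adT47))))) (.node 8 (.node 4 (.node 2 (.node 1 (.leaf adT48) (.leaf adT49)) (.node 1 (.leaf adT50) (.leaf adT51))) (.node 2 (.node 1 (.leaf adT52) (.leaf adT53)) (.node 1 (.leaf adT54) (.leaf adT55)))) (.node 4 (.node 2 (.node 1 (.leaf adT56) (.leaf adT57)) (.node 1 (.leaf adT58) (.leaf adT59))) (.node 2 (.node 1 (.leaf adT60) (.leaf adT61)) (.node 1 (.leaf adT62) (.leaf adT63))))))) (.node 32 (.node 16 (.node 8 (.node 4 (.node 2 (.node 1 (.leaf adT64) (.leaf adT65)) (.node 1 (.leaf adT66) (.leaf adT67))) (.node 2 (.node 1 (.leaf adT68) (.leaf adT69)) (.node 1 (.leaf adT70) (.leaf adT71)))) (.node 4 (.node 2 (.node 1 (.leaf adT72) (.leaf adT73)) (.node 1 (.leaf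 adT74) (.leaf adT75))) (.node 2 (.node 1 (.leaf adT76) (.leaf adT77)) (zeroA 1)))) (zeroA 4)) (zeroA 5)))

end CfsgLib.TwoE6Local
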