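import Cfsg.Agent.Lib.TwoE6Local.Inv

/-!
General facts: elements given by matrices, and normalisers that are not maximal.
-/

set_option autoImplicit false
set_option maxRecDepth 100000

namespace CfsgLib.TwoE6Local

open CfsgLib.Fi22E6 Cfsg.Lie

attribute [local irreducible] apT apA mulT oneT adA

variable {K : Type*} [Field K] [CharP K 2] [Fintype K] {ω : K}
variable (hω : ω * ω = ω + 1) (hK : Nat.card K = 4)

/-- the element acts by the matrix -/
def HasT (z : twistedE6 K 2) (X : BT) : Prop := ∀ v < 2 ^ 78, act hω hK z v = apT X v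

theorem lin_apW : ∀ w : List ℕ, Lin (apW w)
  | [] => lin_id
  | x :: w => (lin_apT (letT.getD x oneT)).comp (lin_apW w)

theorem lin_itT (X : BT) : ∀ n : ℕ, Lin (itT X n)
  | 0 => lin_id
  | n + 1 => (lin_apT X).comp (lin_itT X n)

/-- The action is faithful. -/
theorem act_faithful {g : twistedE6 K 2} (h : ∀ v < 2 ^ 78, act hω hK g v = v) : g = 1 := by
  refine Subtype.ext ((act_rep hω hK g).1.eq_one hω ?_)
  suffices H : ∀ n, n ≤ 78 → Nat.rec (motive := fun _ => Bool) true
      (fun j r => Nat.beq (apT (exists_rep hω hK g.2).choose (Nat.pow 2 j)) (apT oneT (Nat.pow 2 j)) && r) n = true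
    from H 78 le_rfl
  intro n hn
  induction n with
  | zero => rfl
  | succ n ih =>
    show (Nat.beq _ _ && _) = true
    have hlt : 2 ^ n < 2 ^ 78 := Nat.pow_lt_pow_right (by norm_num) (by omega)
    rw [Bool.and_eq_true]
    refine ⟨?_, ih (by omega)⟩
    show Nat.beq (act hω hK g (2 ^ n)) (apT oneT (2 ^ n)) = true
    rw [h _ hlt, apT_oneT hlt, Nat.beq_refl]

theorem exists_word {w : List ℕ} {X : BT} (h : wordTOK w X = true) :
    ∃ b : twistedE6 K 2, HasT hω hK b X := by
  simp only [wordTOK, Bool.and_eq_true] at h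
  refine ⟨wordG hω w h.1, fun v hv => ?_⟩
  rw [act_wordG hω hK w h.1 hv]
  exact sameF_spec h.2 (lin_apW w) (lin_apT X) v hv

theorem exists_elem {w : List ℕ} {X : BT} {p : ℕ} (h : elemOK w X p = true) :
    ∃ x : twistedE6 K 2, HasT hω hK x X ∧ x ^ p = 1 ∧ x ≠ 1 := by
  simp only [elemOK, Bool.and_eq_true, Bool.not_eq_true'] at h
  obtain ⟨hw, hs, ho, hne⟩ : _ ∧ _ ∧ _ ∧ _ := ⟨h.1, h.2.1.1, h.2.1.2, h.2.2⟩
  obtain ⟨x, hx⟩ := exists_word hω hK (w := w) (X := X) (by rw [wordTOK, hw, hs]; rfl)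
  refine ⟨x, hx, act_faithful hω hK fun v hv => ?_, fun e => ?_⟩
  · rw [pow_act_eq hω hK hx p hv]
    exact sameF_spec ho (lin_itT X p) lin_id v hv
  · refine absurd ?_ (Bool.eq_false_iff.1 hne)
    suffices H : ∀ n, n ≤ 78 → Nat.rec (motive := fun _ => Bool) true
        (fun j r => Nat.beq (apT X (Nat.pow 2 j)) (Nat.pow 2 j) && r) n = true from H 78 le_rfl
    intro n hn
    induction n with
    | zero => rfl
    | succ n ih =>
      show (Nat.beq _ _ && _) = true
      have hlt : 2 ^ n < 2 ^ 78 := Nat.pow_lt_pow_right (by norm_num) (by omega)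
      rw [Bool.and_eq_true]
      refine ⟨?_, ih (by omega)⟩
      show Nat.beq (apT X (2 ^ n)) (2 ^ n) = true
      rw [← hx _ hlt, e, act_one hω hK hlt, Nat.beq_refl]

theorem mem_zpowers_pow {G : Type*} [Group G] [Finite G] {x z : G} {p : ℕ} (hp : 0 < p)
    (hx : x ^ p = 1) (hz : z ∈ Subgroup.zpowers x) : ∃ i < p, z = x ^ i := by
  obtain ⟨n, rfl⟩ := (IsOfFinOrder.mem_powers_iff_mem_zpowers (isOfFinOrder_of_finite x)).2 hz
  exact ⟨n % p, Nat.mod_lt _ hp, by
    show x ^ n = _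
    conv_lhs => rw [← Nat.div_add_mod n p, pow_add, pow_mul, hx, one_pow, one_mul]⟩

/-- A normaliser inside the stabiliser of a span, which is neither everything nor as small, is not
maximal. -/
theorem not_coatom {R : Subgroup (twistedE6 K 2)} {B : List (ℕ × ℕ)} {w : List ℕ} {T : BT}
    {mv wit : ℕ × ℕ} {gs : List BT} {rs : List (ℕ → ℕ)} (h : sideOK B w T mv gs wit rs = true)
    {W : Set ℕ} (hW : W = Sp B)
    (hpres : ∀ g ∈ Subgroup.normalizer (R : Set (twistedE6 K 2)), Pres hω hK g W)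
    (hz : ∃ z ∈ R, HasT hω hK z (gs.getD wit.1 oneT))
    (hR : ∀ z ∈ R, ∃ r ∈ rs, ∀ v < 2 ^ 78, act hω hK z v = r v) :
    ¬ IsCoatom (Subgroup.normalizer (R : Set (twistedE6 K 2))) := by
  intro hco
  simp only [sideOK, Bool.and_eq_true, Bool.not_eq_true', List.all_eq_true, Nat.blt_eq, strictN_eq] at h
  obtain ⟨hT, hinv, hj, hv, hvW, hmove, hk, hwit⟩ := h
  obtain ⟨b, hb⟩ := exists_word hω hK hT
  subst hW
  have hbS : b ∈ stab hω hK (Sp B) (sp_lt B) := by
    intro u hu
    refine ⟨act_lt hω hK b hu.1, ?_⟩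
    rw [hb u hu.1]
    exact kills (f := fun u => red B (apT T u)) ((lin_red B).comp (lin_apT T))
      (fun p hp => Nat.eq_of_beq_eq_true (hinv p hp)) hu.2
  have hbN : b ∉ Subgroup.normalizer (R : Set (twistedE6 K 2)) := by
    intro hbN
    obtain ⟨z, hzR, hzT⟩ := hz
    obtain ⟨r, hr, hre⟩ := hR _ ((Subgroup.mem_normalizer_iff.1 hbN z).1 hzR)
    have he : 2 ^ wit.2 < 2 ^ 78 := Nat.pow_lt_pow_right (by norm_num) hk
    have hbk := act_lt hω hK b he
    have e := hre _ hbk
    rw [← act_mul hω hK _ _ he, inv_mul_cancel_right, act_mul hω hK _ _ he, hzT _ he,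
      hb _ (by rw [← hzT _ he]; exact act_lt hω hK z he), hb _ he] at e
    have := hwit r hr
    rw [show Nat.beq (r (apT T (Nat.pow 2 wit.2))) (apT T (apT (gs.getD wit.1 oneT) (Nat.pow 2 wit.2))) =
      true by rw [show Nat.pow 2 wit.2 = 2 ^ wit.2 from rfl, e, Nat.beq_refl]] at this
    exact absurd this (by simp)
  have hle : Subgroup.normalizer (R : Set (twistedE6 K 2)) ≤ stab hω hK (Sp B) (sp_lt B) := hpres
  have htop := hco.2 _ (lt_of_le_not_ge hle fun hge => hbN (hge hbS))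
  have hL : (⟨letU ω mv.1, letU_mem hω hj⟩ : twistedE6 K 2) ∈ stab hω hK (Sp B) (sp_lt B) :=
    htop ▸ Subgroup.mem_top _
  have hvS : mv.2 ∈ Sp B := ⟨hv, Nat.eq_of_beq_eq_true hvW⟩
  have h2 := (hL mv.2 hvS).2
  rw [act_eq hω hK (g := ⟨letU ω mv.1, letU_mem hω hj⟩) (rep_letter hω hj) hv] at h2
  rw [h2] at hmove
  exact absurd hmove (by simp)

/-- Maximality of a normaliser is unchanged by conjugation. -/
theorem not_coatom_conj {G : Type*} [Group G] (P : Subgroup G) (c : G)
    (h : ¬ IsCoatom (Subgroup.normalizer ((P.map (MulAut.conj c).toMonoidHom : Subgroup G) : Set G))) :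
    ¬ IsCoatom (Subgroup.normalizer (P : Set G)) := by
  intro hc
  apply h
  rw [← Subgroup.map_equiv_normalizer_eq]
  exact ((MulEquiv.mapSubgroup (MulAut.conj c)).isCoatom_iff _).2 hc

/-- A nontrivial subgroup of prime order through an element is its powers. -/
theorem eq_zpowers_of_card {G : Type*} [Group G] {p : ℕ} [Fact p.Prime] {P : Subgroup G}
    (hP : Nat.card P = p) {z : G} (hz : z ∈ P) (hz1 : z ≠ 1) : P = Subgroup.zpowers z := by
  haveI : Finite P := Nat.finite_of_card_ne_zero (by rw [hP]; exact (Fact.out : p.Prime).ne_zero)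
  refine (Subgroup.eq_of_le_of_card_ge (Subgroup.zpowers_le.2 hz) ?_).symm
  rw [hP, Nat.card_zpowers]
  have hd := Subgroup.orderOf_dvd_natCard P hz
  rw [hP] at hd
  rcases (Nat.dvd_prime Fact.out).1 hd with e | e
  · exact absurd (orderOf_eq_one_iff.1 e) hz1
  · exact e.ge

end CfsgLib.TwoE6Local
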