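import Cfsg.Agent.Lib.TwoE6Local.Act
import Cfsg.Agent.Lib.TwoE6Local.CheckDefs

/-!
Subsets of the Lie algebra attached to a subgroup, and what the certificates say about them.
-/

set_option autoImplicit false
set_option maxRecDepth 100000

namespace CfsgLib.TwoE6Local

open CfsgLib.Fi22E6 Cfsg.Lie

attribute [local irreducible] apT apA mulT oneT adA

variable {K : Type*} [Field K] [CharP K 2] [Fintype K] {ω : K}
variable (hω : ω * ω = ω + 1) (hK : Nat.card K = 4)

/-- the fixed vectors of a subgroup -/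
def FixS (R : Subgroup (twistedE6 K 2)) : Set ℕ := {v | v < 2 ^ 78 ∧ ∀ z ∈ R, act hω hK z v = v}

/-- what centralises all brackets of fixed vectors -/
def CDs (R : Subgroup (twistedE6 K 2)) : Set ℕ :=
  {u | u < 2 ^ 78 ∧ ∀ v ∈ FixS hω hK R, ∀ w ∈ FixS hω hK R, br u (br v w) = 0}

/-- exclusive or of a list -/
def xs (l : List ℕ) : ℕ := l.foldr (fun a b => a ^^^ b) 0

theorem xs_perm {l l' : List ℕ} (h : l.Perm l') : xs l = xs l' :=
  h.foldr_eq' (fun a _ b _ c => by rw [← Nat.xor_assoc, Nat.xor_comm b a, Nat.xor_assoc]) 0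

theorem map_xs {f : ℕ → ℕ} (hf : Lin f) : ∀ l : List ℕ, f (xs l) = xs (l.map f)
  | [] => hf.zero
  | a :: l => by
    show f (a ^^^ xs l) = f a ^^^ xs (l.map f)
    rw [hf, map_xs hf l]

theorem xs_lt : ∀ {l : List ℕ}, (∀ a ∈ l, a < 2 ^ 78) → xs l < 2 ^ 78
  | [], _ => pow_pos (by norm_num) 78
  | a :: l, h => Nat.xor_lt_two_pow (h a List.mem_cons_self) (xs_lt fun b hb => h b (List.mem_cons_of_mem _ hb))

/-- the twisted radical of an element -/
def RadS (x : twistedE6 K 2) (p m : ℕ) : Set ℕ :=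
  {u | u < 2 ^ 78 ∧ ∀ w < 2 ^ 78,
    xs ((List.range p).map fun j => br (act hω hK (x ^ j) u) (act hω hK (x ^ (m * j)) (w ^^^ act hω hK x w))) = 0}

/-- what centralises a set -/
def CentS (T : Set ℕ) : Set ℕ := {u | u < 2 ^ 78 ∧ ∀ v ∈ T, br u v = 0}

/-- the element preserves a set -/
def Pres (g : twistedE6 K 2) (W : Set ℕ) : Prop := ∀ u ∈ W, act hω hK g u ∈ W

/-- the stabiliser of a set -/
noncomputable def stab (W : Set ℕ) (hW : ∀ u ∈ W, u < 2 ^ 78) : Subgroup (twistedE6 K 2) :=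
  let S : Submonoid (twistedE6 K 2) :=
    { carrier := {g | Pres hω hK g W}
      one_mem' := fun u hu => by rw [act_one hω hK (hW u hu)]; exact hu
      mul_mem' := fun {a b} ha hb u hu => by rw [act_mul hω hK _ _ (hW u hu)]; exact ha _ (hb u hu) }
  { S with
    inv_mem' := fun {x} hx => by
      haveI : Finite (twistedE6 K 2) := inferInstance
      have hn : 0 < orderOf x := orderOf_pos x
      have : x⁻¹ = x ^ (orderOf x - 1) := inv_eq_of_mul_eq_one_right (by
        rw [← pow_succ', Nat.sub_add_cancel hn, pow_orderOf_eq_one])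
      rw [this]
      exact S.pow_mem hx _ }

theorem mem_stab {W : Set ℕ} {hW : ∀ u ∈ W, u < 2 ^ 78} {g : twistedE6 K 2} :
    g ∈ stab hω hK W hW ↔ Pres hω hK g W := Iff.rfl

theorem fixS_map {R : Subgroup (twistedE6 K 2)} (g : twistedE6 K 2) {v : ℕ}
    (hg : ∀ z ∈ R, g⁻¹ * z * g ∈ R) (hv : v ∈ FixS hω hK R) : act hω hK g v ∈ FixS hω hK R := by
  refine ⟨act_lt hω hK g hv.1, fun z hz => ?_⟩
  rw [← act_mul hω hK _ _ hv.1, show z * g = g * (g⁻¹ * z * g) by group, act_mul hω hK _ _ hv.1,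
    hv.2 _ (hg z hz)]

theorem pres_CDs {R : Subgroup (twistedE6 K 2)} {g : twistedE6 K 2} (hg : ∀ z ∈ R, g * z * g⁻¹ ∈ R) :
    Pres hω hK g (CDs hω hK R) := by
  intro u hu
  refine ⟨act_lt hω hK g hu.1, fun v hv w hw => ?_⟩
  have hv' : act hω hK g⁻¹ v ∈ FixS hω hK R := fixS_map hω hK g⁻¹ (fun z hz => by rw [inv_inv]; exact hg z hz) hv
  have hw' : act hω hK g⁻¹ w ∈ FixS hω hK R := fixS_map hω hK g⁻¹ (fun z hz => by rw [inv_inv]; exact hg z hz) hw
  have h := congrArg (act hω hK g) (hu.2 _ hv' _ hw')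
  rw [(lin_act hω hK g).zero, act_br hω hK g hu.1 (br_lt hv'.1 hw'.1), act_br hω hK g hv'.1 hw'.1,
    act_inv' hω hK g hv.1, act_inv' hω hK g hw.1] at h
  exact h

theorem pres_CentS {T : Set ℕ} (hT : ∀ v ∈ T, v < 2 ^ 78) {g : twistedE6 K 2}
    (hg : Pres hω hK g⁻¹ T) : Pres hω hK g (CentS T) := by
  intro u hu
  refine ⟨act_lt hω hK g hu.1, fun v hv => ?_⟩
  have hv' := hg v hv
  have h := congrArg (act hω hK g) (hu.2 _ hv')
  rw [(lin_act hω hK g).zero, act_br hω hK g hu.1 (hT _ hv'), act_inv' hω hK g (hT v hv)] at h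
  exact h

theorem act_pow_sum (x : twistedE6 K 2) {v : ℕ} (hv : v < 2 ^ 78) : ∀ b : ℕ,
    v ^^^ act hω hK (x ^ b) v =
      (fun a => a ^^^ act hω hK x a) (xs ((List.range b).map fun i => act hω hK (x ^ i) v))
  | 0 => by
    show v ^^^ act hω hK (x ^ 0) v = 0 ^^^ act hω hK x 0
    rw [pow_zero, act_one hω hK hv, Nat.xor_self, (lin_act hω hK x).zero, Nat.xor_self]
  | b + 1 => by
    have ih := act_pow_sum x hv b
    have hl : Lin fun a => a ^^^ act hω hK x a := lin_id.xor (lin_act hω hK x)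
    rw [List.range_succ, List.map_append, List.map_cons, List.map_nil,
      show xs ((List.range b).map (fun i => act hω hK (x ^ i) v) ++ [act hω hK (x ^ b) v]) =
        act hω hK (x ^ b) v ^^^ xs ((List.range b).map fun i => act hω hK (x ^ i) v) from
        xs_perm List.perm_append_comm, hl, ← ih, pow_succ', act_mul hω hK _ _ hv]
    show _ = (act hω hK (x ^ b) v ^^^ act hω hK x (act hω hK (x ^ b) v)) ^^^ (v ^^^ act hω hK (x ^ b) v)
    generalize act hω hK (x ^ b) v = a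
    generalize act hω hK x a = c
    rw [Nat.xor_comm v a, Nat.xor_assoc, ← Nat.xor_assoc c, Nat.xor_comm c a, Nat.xor_assoc a,
      ← Nat.xor_assoc a a, Nat.xor_self, Nat.zero_xor, Nat.xor_comm]

theorem pres_RadS {x g : twistedE6 K 2} {p m : ℕ} (hp : p.Prime) (hx : x ^ p = 1) (hx1 : x ≠ 1)
    (hg : g * x * g⁻¹ ∈ Subgroup.zpowers x) : Pres hω hK g (RadS hω hK x p m) := by
  intro u hu
  refine ⟨act_lt hω hK g hu.1, fun w hw => ?_⟩
  have hfin : Finite (twistedE6 K 2) := inferInstance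
  obtain ⟨a, ha⟩ := (IsOfFinOrder.mem_powers_iff_mem_zpowers (isOfFinOrder_of_finite x)).2 hg
  simp only at ha
  have ha0 : ¬ p ∣ a := by
    rintro ⟨c, rfl⟩
    rw [pow_mul, hx, one_pow] at ha
    exact hx1 (conj_eq_one_iff.1 ha.symm)
  obtain ⟨b, hb⟩ : ∃ b, a * b % p = 1 := by
    haveI := Fact.mk hp
    refine ⟨((a : ZMod p)⁻¹).val, ?_⟩
    have : ((a * ((a : ZMod p)⁻¹).val : ℕ) : ZMod p) = ((1 : ℕ) : ZMod p) := by
      rw [Nat.cast_mul, ZMod.natCast_zmod_val, Nat.cast_one,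
        mul_inv_cancel₀ (by rwa [Ne, ZMod.natCast_eq_zero_iff])]
    rw [ZMod.natCast_eq_natCast_iff'] at this
    rwa [Nat.one_mod_eq_one.mpr hp.ne_one] at this
  have hmod : ∀ k, x ^ k = x ^ (k % p) := fun k => by
    conv_lhs => rw [← Nat.div_add_mod k p, pow_add, pow_mul, hx, one_pow, one_mul]
  have hconj : ∀ k, g * x ^ k = x ^ (a * k) * g := fun k => by
    rw [pow_mul, ha, conj_pow, inv_mul_cancel_right]
  set w' := xs ((List.range b).map fun i => act hω hK (x ^ i) (act hω hK g⁻¹ w)) with hw'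
  have hlt : act hω hK g⁻¹ w < 2 ^ 78 := act_lt hω hK _ hw
  have hw'lt : w' < 2 ^ 78 := xs_lt fun z hz => by
    obtain ⟨i, -, rfl⟩ := List.mem_map.1 hz
    exact act_lt hω hK _ hlt
  have hback : act hω hK g (w' ^^^ act hω hK x w') = w ^^^ act hω hK x w := by
    have h1 : w' ^^^ act hω hK x w' = act hω hK g⁻¹ w ^^^ act hω hK (x ^ b) (act hω hK g⁻¹ w) :=
      (act_pow_sum hω hK x hlt b).symm
    rw [h1, lin_act hω hK g, act_inv' hω hK g hw, ← act_mul hω hK _ _ hlt, hconj, hmod, hb, pow_one,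
      act_mul hω hK _ _ hlt, act_inv' hω hK g hw]
  have hv : w ^^^ act hω hK x w < 2 ^ 78 := Nat.xor_lt_two_pow hw (act_lt hω hK _ hw)
  have hv' : w' ^^^ act hω hK x w' < 2 ^ 78 := Nat.xor_lt_two_pow hw'lt (act_lt hω hK _ hw'lt)
  have h := congrArg (act hω hK g) (hu.2 w' hw'lt)
  rw [map_xs (lin_act hω hK g), (lin_act hω hK g).zero, List.map_map] at h
  have hperm : ((List.range p).map fun i => a * i % p).Perm (List.range p) := by
    refine (List.perm_ext_iff_of_nodup (List.nodup_range.map_on ?_) List.nodup_range).2 fun i => ?_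
    · intro i hi j hj e
      have := congrArg (fun n => b * n % p) e
      simp only [Nat.mul_mod_mod, ← Nat.mul_assoc, Nat.mul_comm b a] at this
      rw [Nat.mul_mod, hb, Nat.one_mul, Nat.mul_mod (a * b), hb, Nat.one_mul, Nat.mod_mod, Nat.mod_mod,
        Nat.mod_eq_of_lt (List.mem_range.1 hi), Nat.mod_eq_of_lt (List.mem_range.1 hj)] at this
      exact this
    · simp only [List.mem_map, List.mem_range]
      constructor
      · rintro ⟨j, -, rfl⟩; exact Nat.mod_lt _ hp.pos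
      · intro hi
        refine ⟨b * i % p, Nat.mod_lt _ hp.pos, ?_⟩
        rw [Nat.mul_mod_mod, ← Nat.mul_assoc, Nat.mul_mod, hb, Nat.one_mul, Nat.mod_mod, Nat.mod_eq_of_lt hi]
  have hlist : (List.range p).map ((act hω hK g) ∘ fun j => br (act hω hK (x ^ j) u)
      (act hω hK (x ^ (m * j)) (w' ^^^ act hω hK x w'))) =
    ((List.range p).map fun i => a * i % p).map fun i =>
      br (act hω hK (x ^ i) (act hω hK g u)) (act hω hK (x ^ (m * i)) (w ^^^ act hω hK x w)) := by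
    rw [List.map_map]
    refine List.map_congr_left fun j _ => ?_
    simp only [Function.comp_apply]
    rw [act_br hω hK g (act_lt hω hK _ hu.1) (act_lt hω hK _ hv'), ← act_mul hω hK _ _ hu.1,
      ← act_mul hω hK _ _ hv', hconj, hconj, act_mul hω hK _ _ hu.1, act_mul hω hK _ _ hv', hback,
      ← hmod, hmod (m * (a * j % p)), Nat.mul_mod_mod, ← hmod, Nat.mul_left_comm a m j]
  rw [hlist, xs_perm (hperm.map _)] at h
  exact h

/-! ### What the certificates say -/

/-- the span of a list -/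
def Sp (B : List (ℕ × ℕ)) : Set ℕ := {v | v < 2 ^ 78 ∧ red B v = 0}

theorem sp_lt (B : List (ℕ × ℕ)) : ∀ v ∈ Sp B, v < 2 ^ 78 := fun _ h => h.1

theorem killOK_spec {fs : List (ℕ → ℕ)} {B : List (ℕ × ℕ)} (h : killOK fs B = true) {f : ℕ → ℕ}
    (hf : f ∈ fs) : ∀ p ∈ B, f p.2 = 0 := fun p hp =>
  Nat.eq_of_beq_eq_true (List.all_eq_true.1 (List.all_eq_true.1 h p hp) f hf)

theorem red_mem {B : List (ℕ × ℕ)} (hB : basisOK B = true) : ∀ p ∈ B, p.2 ∈ Sp B := by
  intro p hp
  suffices h : p.2 ∈ spanF B from ⟨spanF_lt hB _ h, (mem_spanF hB _).1 h⟩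
  clear hB
  induction B with
  | nil => simp at hp
  | cons q B ih =>
    simp only [spanF, Finset.mem_union, Finset.mem_image]
    rcases List.mem_cons.1 hp with rfl | hp'
    · refine Or.inr ⟨0, ?_, Nat.xor_zero _⟩
      clear ih hp
      induction B with
      | nil => simp [spanF]
      | cons r B ih => simp [spanF, ih]
    · exact Or.inl (ih hp')

theorem pow_act_eq {x : twistedE6 K 2} {X : BT} (hX : ∀ v < 2 ^ 78, act hω hK x v = apT X v) :
    ∀ (n : ℕ) {v : ℕ}, v < 2 ^ 78 → act hω hK (x ^ n) v = itT X n v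
  | 0, v, hv => by rw [pow_zero, act_one hω hK hv]; rfl
  | n + 1, v, hv => by
    rw [pow_succ', act_mul hω hK _ _ hv, pow_act_eq hX n hv, hX _ (by rw [← pow_act_eq hX n hv]; exact act_lt hω hK _ hv)]
    rfl

theorem fixS_zpowers {x : twistedE6 K 2} {X : BT} (hX : ∀ v < 2 ^ 78, act hω hK x v = apT X v) :
    FixS hω hK (Subgroup.zpowers x) = {v | v < 2 ^ 78 ∧ fixF X v = 0} := by
  ext v
  constructor
  · intro h
    refine ⟨h.1, ?_⟩
    show apT X v ^^^ v = 0
    rw [← hX v h.1, h.2 x (Subgroup.mem_zpowers x), Nat.xor_self]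
  · rintro ⟨hv, h⟩
    refine ⟨hv, fun z hz => ?_⟩
    have hfix : act hω hK x v = v := by rw [hX v hv]; exact Nat.xor_eq_zero_iff.1 h
    obtain ⟨n, rfl⟩ := (IsOfFinOrder.mem_powers_iff_mem_zpowers (isOfFinOrder_of_finite x)).2 hz
    show act hω hK (x ^ n) v = v
    clear hz
    induction n with
    | zero => rw [pow_zero, act_one hω hK hv]
    | succ n ih => rw [pow_succ', act_mul hω hK _ _ hv, ih, hfix]

theorem fixS_eq {x : twistedE6 K 2} {X E : BT} {B : List (ℕ × ℕ)}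
    (hX : ∀ v < 2 ^ 78, act hω hK x v = apT X v) (h : fixOK X E B = true) :
    FixS hω hK (Subgroup.zpowers x) = Sp B := by
  rw [fixS_zpowers hω hK hX]
  rw [fixOK, Bool.and_eq_true, Bool.and_eq_true] at h
  obtain ⟨-, hker, hkill⟩ := h
  have hl : Lin (fixF X) := (lin_apT X).xor lin_id
  ext v
  refine ⟨fun hv => ⟨hv.1, kerOK_spec hker (by simpa using hl) hv.1 (by simpa using hv.2)⟩,
    fun hv => ⟨hv.1, kills hl (killOK_spec hkill (by simp)) hv.2⟩⟩

theorem cdS_eq {R : Subgroup (twistedE6 K 2)} {F B : List (ℕ × ℕ)} {M : List (ℕ × ℕ × BT)}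
    (hF : FixS hω hK R = Sp F) (h : cdOK F M B = true) : CDs hω hK R = Sp B := by
  simp only [cdOK, Bool.and_eq_true, List.all_eq_true, Nat.blt_eq] at h
  obtain ⟨hM, hB, hker, hall⟩ := h
  ext u
  constructor
  · intro hu
    refine ⟨hu.1, kerOK_spec hker (fun q hq => ?_) hu.1 fun q hq => ?_⟩
    · obtain ⟨r, -, rfl⟩ := List.mem_map.1 hq
      exact lin_br_left _
    · obtain ⟨r, hr, rfl⟩ := List.mem_map.1 hq
      obtain ⟨h1, h2, h3, h4⟩ := hM r hr
      exact hu.2 _ (hF ▸ ⟨h3, Nat.eq_of_beq_eq_true h1⟩) _ (hF ▸ ⟨h4, Nat.eq_of_beq_eq_true h2⟩)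
  · intro hu
    refine ⟨hu.1, fun v hv w hw => ?_⟩
    rw [hF] at hv hw
    refine kills (f := fun v => br u (br v w)) ((lin_br_right u).comp (lin_br_left w)) (fun a ha => ?_) hv.2
    refine kills (f := fun w => br u (br a.2 w)) ((lin_br_right u).comp (lin_br_right _)) (fun b hb => ?_) hw.2
    refine kills (f := fun u => br u (br a.2 b.2)) (lin_br_left _) (fun c hc => ?_) hu.2
    have := hall a ha b hb
    rw [strictN_eq, List.all_eq_true] at this
    exact Nat.eq_of_beq_eq_true (this c hc)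

theorem centS_eq {T : Set ℕ} {Q B : List (ℕ × ℕ)} {M : List (ℕ × BT)} (hT : T = Sp Q)
    (h : centOK Q M B = true) : CentS T = Sp B := by
  simp only [centOK, Bool.and_eq_true, List.all_eq_true, Nat.blt_eq] at h
  obtain ⟨hM, hB, hker, hall⟩ := h
  subst hT
  ext u
  constructor
  · intro hu
    refine ⟨hu.1, kerOK_spec hker (fun q hq => ?_) hu.1 fun q hq => ?_⟩
    · obtain ⟨r, -, rfl⟩ := List.mem_map.1 hq
      exact lin_br_left _
    · obtain ⟨r, hr, rfl⟩ := List.mem_map.1 hq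
      exact hu.2 _ ⟨(hM r hr).2, Nat.eq_of_beq_eq_true (hM r hr).1⟩
  · intro hu
    refine ⟨hu.1, fun v hv => ?_⟩
    refine kills (f := fun v => br u v) (lin_br_right u) (fun a ha => ?_) hv.2
    exact kills (f := fun u => br u a.2) (lin_br_left _) (fun c hc => Nat.eq_of_beq_eq_true (hall c hc a ha)) hu.2

theorem radV_succ (X Y : BT) (f : ℕ → ℕ) (n v : ℕ) :
    radV X Y f (n + 1) v = f v ^^^ apT X (radV X Y f n (apT Y v)) := by
  show (strictN v fun v => strictN (radV X Y f n (apT Y v)) fun w => f v ^^^ apT X w) = _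
  rw [strictN_eq, strictN_eq]

theorem lin_radV (X Y : BT) : ∀ (n : ℕ) {f : ℕ → ℕ}, Lin f → Lin (radV X Y f n)
  | 0, _, _ => lin_zero
  | n + 1, f, hf => fun a b => by
    simp only [radV_succ]
    exact (hf.xor ((lin_apT X).comp ((lin_radV X Y n hf).comp (lin_apT Y)))) a b

theorem lin_radV_fun (X Y : BT) {F : ℕ → ℕ → ℕ} (hF : ∀ v, Lin fun u => F u v) :
    ∀ (n v : ℕ), Lin fun u => radV X Y (F u) n v
  | 0, _ => lin_zero
  | n + 1, v => fun a b => by
    simp only [radV_succ]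
    exact ((hF v).xor ((lin_apT X).comp (lin_radV_fun X Y hF n (apT Y v)))) a b

theorem radV_congr (X Y : BT) (hY : Short Y) {f g : ℕ → ℕ} (h : ∀ v < 2 ^ 78, f v = g v) :
    ∀ (n : ℕ) {v : ℕ}, v < 2 ^ 78 → radV X Y f n v = radV X Y g n v
  | 0, _, _ => rfl
  | n + 1, v, hv => by rw [radV_succ, radV_succ, h v hv, radV_congr X Y hY h n (hY.lt v hv)]

theorem radV_eq {x : twistedE6 K 2} {X Y : BT} {m : ℕ} (hX : ∀ v < 2 ^ 78, act hω hK x v = apT X v)
    (hY : ∀ v < 2 ^ 78, apT Y v = act hω hK (x ^ m) v) : ∀ (n : ℕ) {u v : ℕ}, u < 2 ^ 78 → v < 2 ^ 78 →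
    radV X Y (br u) n v =
      xs ((List.range n).map fun j => br (act hω hK (x ^ j) u) (act hω hK (x ^ ((m + 1) * j)) v))
  | 0, _, _, _, _ => rfl
  | n + 1, u, v, hu, hv => by
    rw [radV_succ, hY v hv, radV_eq hX hY n hu (act_lt hω hK _ hv), List.range_succ_eq_map, List.map_cons,
      List.map_map]
    show _ = br (act hω hK (x ^ 0) u) (act hω hK (x ^ ((m + 1) * 0)) v) ^^^ xs _
    rw [Nat.mul_zero, pow_zero, act_one hω hK hu, act_one hω hK hv]
    congr 1
    have hlt : xs ((List.range n).map fun j =>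
        br (act hω hK (x ^ j) u) (act hω hK (x ^ ((m + 1) * j)) (act hω hK (x ^ m) v))) < 2 ^ 78 :=
      xs_lt fun z hz => by
        obtain ⟨i, -, rfl⟩ := List.mem_map.1 hz
        exact br_lt (act_lt hω hK _ hu) (act_lt hω hK _ (act_lt hω hK _ hv))
    rw [← hX _ hlt, map_xs (lin_act hω hK x), List.map_map]
    refine congrArg xs (List.map_congr_left fun j _ => ?_)
    simp only [Function.comp_apply]
    rw [act_br hω hK x (act_lt hω hK _ hu) (act_lt hω hK _ (act_lt hω hK _ hv)),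
      ← act_mul hω hK _ _ hu, ← act_mul hω hK _ _ (act_lt hω hK _ hv), ← act_mul hω hK _ _ hv, ← pow_succ',
      ← pow_succ', ← pow_add, show (m + 1) * j + 1 + m = (m + 1) * (j + 1) by ring]

theorem radS_eq {x : twistedE6 K 2} {X Y : BT} {p m : ℕ} {M : List (ℕ × BT)} {B : List (ℕ × ℕ)}
    (hX : ∀ v < 2 ^ 78, act hω hK x v = apT X v) (hX' : Short Y) (h : radOK X Y p m M B = true)
    (hkill : ∀ u ∈ B, radKillOK X Y p [u] = true) : RadS hω hK x p (m + 1) = Sp B := by
  simp only [radOK, Bool.and_eq_true, List.all_eq_true, Nat.blt_eq] at h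
  obtain ⟨hY, hM, hB, hker⟩ := h
  have hYe : ∀ v < 2 ^ 78, apT Y v = act hω hK (x ^ m) v := fun v hv => by
    have hlin : Lin (itT X m) := by
      clear hY hker hB hM
      induction m with
      | zero => exact lin_id
      | succ m ih => exact (lin_apT X).comp ih
    rw [sameF_spec hY (lin_apT Y) hlin v hv, pow_act_eq hω hK hX m hv]
  have key : ∀ u < 2 ^ 78, ∀ w < 2 ^ 78, radV X Y (br u) p (w ^^^ apT X w) =
      xs ((List.range p).map fun j =>
        br (act hω hK (x ^ j) u) (act hω hK (x ^ ((m + 1) * j)) (w ^^^ act hω hK x w))) := by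
    intro u hu w hw
    rw [hX w hw, radV_eq hω hK hX hYe p hu]
    exact Nat.xor_lt_two_pow hw (by rw [← hX w hw]; exact act_lt hω hK x hw)
  ext u
  constructor
  · intro hu
    refine ⟨hu.1, kerOK_spec hker (fun q hq => ?_) hu.1 fun q hq => ?_⟩
    · obtain ⟨r, -, rfl⟩ := List.mem_map.1 hq
      exact lin_radV_fun X Y lin_br_left p _
    · obtain ⟨r, hr, rfl⟩ := List.mem_map.1 hq
      have hk : 2 ^ r.1 < 2 ^ 78 := Nat.pow_lt_pow_right (by norm_num) (hM r hr)
      show radV X Y (br u) p (2 ^ r.1 ^^^ apT X (2 ^ r.1)) = 0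
      rw [key u hu.1 _ hk]
      exact hu.2 _ hk
  · intro hu
    refine ⟨hu.1, fun w hw => ?_⟩
    rw [← key u hu.1 w hw]
    refine kills (f := fun u => radV X Y (br u) p (w ^^^ apT X w)) (lin_radV_fun X Y lin_br_left p _)
      (fun c hc => ?_) hu.2
    have hk := hkill c hc
    simp only [radKillOK, List.all_cons, List.all_nil, Bool.and_true, adK, buildK_eq] at hk
    have he : ∀ v < 2 ^ 78, apT (build 7 fun j => br c.2 (2 ^ j)) v = br c.2 v :=
      (lin_apT _).ext (lin_br_right _) fun k hk => apT_build 7 _ (hk.trans (by norm_num))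
    have hl : Lin fun w => w ^^^ apT X w := lin_id.xor (lin_apT X)
    show radV X Y (br c.2) p (w ^^^ apT X w) = 0
    refine ((lin_radV X Y p (lin_br_right c.2)).comp hl).ext lin_zero (fun k hk' => ?_) w hw
    have hlt : 2 ^ k ^^^ apT X (2 ^ k) < 2 ^ 78 := by
      have hk2 : 2 ^ k < 2 ^ 78 := Nat.pow_lt_pow_right (by norm_num) hk'
      exact Nat.xor_lt_two_pow hk2 (by rw [← hX _ hk2]; exact act_lt hω hK x hk2)
    show radV X Y (br c.2) p (2 ^ k ^^^ apT X (2 ^ k)) = 0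
    rw [← radV_congr X Y hX' he p hlt]
    exact Nat.eq_of_beq_eq_true (allN_spec hk k hk')

end CfsgLib.TwoE6Local
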