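import Cfsg.Agent.Lib.TwoE6Local.Seven
import Cfsg.Agent.Lib.TwoE6Local.CheckRad13
import Cfsg.Agent.Lib.TwoE6Local.CheckRad17
import Cfsg.Agent.Lib.TwoE6Local.CheckRad19A
import Cfsg.Agent.Lib.TwoE6Local.CheckRad19B
import Cfsg.Agent.Lib.Fi22E6.NotConj

/-!
No local subgroup for a prime beyond five is maximal in the twisted group of type E6 over four elements.
-/

set_option autoImplicit false
set_option maxRecDepth 100000

namespace CfsgLib.TwoE6Local

open CfsgLib.Fi22E6 Cfsg.Lie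

attribute [local irreducible] apT apA mulT oneT adA

variable {K : Type*} [Field K] [CharP K 2] [Fintype K] {ω : K}
variable (hω : ω * ω = ω + 1) (hK : Nat.card K = 4)

theorem mem_normalizer_conj {G : Type*} [Group G] {R : Subgroup G} {g : G}
    (hg : g ∈ Subgroup.normalizer (R : Set G)) : ∀ z ∈ R, g * z * g⁻¹ ∈ R :=
  fun z hz => (Subgroup.mem_normalizer_iff.1 hg z).1 hz

theorem powers_mem {x : twistedE6 K 2} {X : BT} {p : ℕ} (hp : 0 < p) (hx : HasT hω hK x X)
    (hxp : x ^ p = 1) : ∀ z ∈ Subgroup.zpowers x, ∃ r ∈ powsF X p, ∀ v < 2 ^ 78, act hω hK z v = r v := by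
  intro z hz
  obtain ⟨i, hi, rfl⟩ := mem_zpowers_pow hp hxp hz
  exact ⟨itT X i, List.mem_map.2 ⟨i, List.mem_range.2 hi, rfl⟩, fun v hv => pow_act_eq hω hK hx i hv⟩

theorem short_of_has {x : twistedE6 K 2} {X : BT} (hX : HasT hω hK x X) {m : ℕ} {Y : BT}
    (h : sameF (apT Y) (itT X m) = true) : Short Y := by
  intro j hj
  have hlt : 2 ^ j < 2 ^ 78 := Nat.pow_lt_pow_right (by norm_num) hj
  rw [sameF_spec h (lin_apT Y) (lin_itT X m) _ hlt, ← pow_act_eq hω hK hX m hlt]
  exact act_lt hω hK _ hlt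

theorem chunk_mem {α : Type*} {l : List α} {c : α} (hc : c ∈ l) :
    ∃ j, j * 3 < l.length ∧ c ∈ (l.drop (j * 3)).take 3 := by
  obtain ⟨i, hi, rfl⟩ := List.getElem_of_mem hc
  refine ⟨i / 3, by omega, List.mem_iff_getElem.2 ⟨i % 3, ?_, ?_⟩⟩
  · simp only [List.length_take, List.length_drop]; omega
  · rw [List.getElem_take, List.getElem_drop]
    congr 1
    omega

theorem kill_single {X Y : BT} {p n : ℕ} {B : List (ℕ × ℕ)} (hlen : B.length ≤ 3 * n)
    (h : ∀ j < n, radKillOK X Y p ((B.drop (j * 3)).take 3) = true) :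
    ∀ u ∈ B, radKillOK X Y p [u] = true := by
  intro u hu
  obtain ⟨j, hj, hm⟩ := chunk_mem hu
  have := List.all_eq_true.1 (h j (by omega)) u hm
  simp only [radKillOK, List.all_cons, List.all_nil, Bool.and_true]
  exact this

theorem pres_radical {x g : twistedE6 K 2} {p m : ℕ} (hp : p.Prime) (hx : x ^ p = 1) (hx1 : x ≠ 1)
    (hg : g ∈ Subgroup.normalizer (Subgroup.zpowers x : Set (twistedE6 K 2))) :
    Pres hω hK g (RadS hω hK x p m) :=
  pres_RadS hω hK hp hx hx1 (mem_normalizer_conj hg x (Subgroup.mem_zpowers x))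

include hω hK in
theorem rep11 : ∃ x : twistedE6 K 2, x ^ 11 = 1 ∧ x ≠ 1 ∧
    ¬ IsCoatom (Subgroup.normalizer (Subgroup.zpowers x : Set (twistedE6 K 2))) := by
  obtain ⟨x, hx, hxp, hx1⟩ := exists_elem hω hK elem11_ok
  refine ⟨x, hxp, hx1, not_coatom hω hK side11_ok (W := CDs hω hK (Subgroup.zpowers x)) ?_
    (fun g hg => pres_CDs hω hK (mem_normalizer_conj hg)) ⟨x, Subgroup.mem_zpowers x, hx⟩
    (powers_mem hω hK (by norm_num) hx hxp)⟩
  exact cdS_eq hω hK (fixS_eq hω hK hx fix11_ok) cd11_ok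

include hω hK in
theorem rep13 : ∃ x : twistedE6 K 2, x ^ 13 = 1 ∧ x ≠ 1 ∧
    ¬ IsCoatom (Subgroup.normalizer (Subgroup.zpowers x : Set (twistedE6 K 2))) := by
  obtain ⟨x, hx, hxp, hx1⟩ := exists_elem hω hK elem13_ok
  have hrad : RadS hω hK x 13 (1 + 1) = Sp rad13B := by
    refine radS_eq hω hK hx (short_of_has hω hK hx (m := 1) ?_) rad13_ok (kill_single (n := 6) (by decide) ?_)
    · have h := rad13_ok
      simp only [radOK, Bool.and_eq_true] at h
      exact h.1
    · intro j hj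
      interval_cases j
      exacts [rad13_kill0, rad13_kill1, rad13_kill2, rad13_kill3, rad13_kill4, rad13_kill5]
  refine ⟨x, hxp, hx1, not_coatom hω hK side13_ok (W := CentS (RadS hω hK x 13 (1 + 1)))
    (centS_eq hrad cent13_ok)
    (fun g hg => pres_CentS hω hK (fun v hv => hv.1)
      (pres_radical hω hK (by norm_num) hxp hx1 (inv_mem hg))) ⟨x, Subgroup.mem_zpowers x, hx⟩
    (powers_mem hω hK (by norm_num) hx hxp)⟩

include hω hK in
theorem rep17 : ∃ x : twistedE6 K 2, x ^ 17 = 1 ∧ x ≠ 1 ∧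
    ¬ IsCoatom (Subgroup.normalizer (Subgroup.zpowers x : Set (twistedE6 K 2))) := by
  obtain ⟨x, hx, hxp, hx1⟩ := exists_elem hω hK elem17_ok
  have hrad : RadS hω hK x 17 (4 + 1) = Sp rad17B := by
    refine radS_eq hω hK hx (short_of_has hω hK hx (m := 4) ?_) rad17_ok (kill_single (n := 8) (by decide) ?_)
    · have h := rad17_ok
      simp only [radOK, Bool.and_eq_true] at h
      exact h.1
    · intro j hj
      interval_cases j
      exacts [rad17_kill0, rad17_kill1, rad17_kill2, rad17_kill3, rad17_kill4, rad17_kill5, rad17_kill6,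
        rad17_kill7]
  refine ⟨x, hxp, hx1, not_coatom hω hK side17_ok (W := CentS (RadS hω hK x 17 (4 + 1)))
    (centS_eq hrad cent17_ok)
    (fun g hg => pres_CentS hω hK (fun v hv => hv.1)
      (pres_radical hω hK (by norm_num) hxp hx1 (inv_mem hg))) ⟨x, Subgroup.mem_zpowers x, hx⟩
    (powers_mem hω hK (by norm_num) hx hxp)⟩

include hω hK in
theorem rep19 : ∃ x : twistedE6 K 2, x ^ 19 = 1 ∧ x ≠ 1 ∧
    ¬ IsCoatom (Subgroup.normalizer (Subgroup.zpowers x : Set (twistedE6 K 2))) := by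
  obtain ⟨x, hx, hxp, hx1⟩ := exists_elem hω hK elem19_ok
  have hrad : RadS hω hK x 19 (4 + 1) = Sp rad19B := by
    refine radS_eq hω hK hx (short_of_has hω hK hx (m := 4) ?_) rad19_ok (kill_single (n := 8) (by decide) ?_)
    · have h := rad19_ok
      simp only [radOK, Bool.and_eq_true] at h
      exact h.1
    · intro j hj
      interval_cases j
      exacts [rad19_kill0, rad19_kill1, rad19_kill2, rad19_kill3, rad19_kill4, rad19_kill5, rad19_kill6,
        rad19_kill7]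
  exact ⟨x, hxp, hx1, not_coatom hω hK side19_ok (W := RadS hω hK x 19 (4 + 1)) hrad
    (fun g hg => pres_radical hω hK (by norm_num) hxp hx1 hg) ⟨x, Subgroup.mem_zpowers x, hx⟩
    (powers_mem hω hK (by norm_num) hx hxp)⟩

/-- the invariant of the Sylow subgroup for seven -/
def WPs (P : Subgroup (twistedE6 K 2)) : Set ℕ :=
  {u | u < 2 ^ 78 ∧ ∀ z ∈ P, z ≠ 1 → (FixS hω hK (Subgroup.zpowers z)).ncard = 2 ^ 12 →
    u ∈ CDs hω hK (Subgroup.zpowers z)}

theorem pres_WPs {P : Subgroup (twistedE6 K 2)} {g : twistedE6 K 2}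
    (hg : g ∈ Subgroup.normalizer (P : Set (twistedE6 K 2))) : Pres hω hK g (WPs hω hK P) := by
  intro u hu
  refine ⟨act_lt hω hK g hu.1, fun z hz hz1 hc => ?_⟩
  set z' := g⁻¹ * z * g with hz'
  have hzP : z' ∈ P := (Subgroup.mem_normalizer_iff''.1 hg z).1 hz
  have hz'1 : z' ≠ 1 := fun e => hz1 (by
    have : z = g * z' * g⁻¹ := by rw [hz']; group
    rw [this, e, mul_one, mul_inv_cancel])
  have h1 : ∀ w ∈ Subgroup.zpowers z', g * w * g⁻¹ ∈ Subgroup.zpowers z := by
    rintro _ ⟨n, rfl⟩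
    exact ⟨n, by
      show z ^ n = g * z' ^ n * g⁻¹
      rw [← conj_zpow, hz']
      group⟩
  have h2 : ∀ w ∈ Subgroup.zpowers z, g⁻¹ * w * g ∈ Subgroup.zpowers z' := by
    rintro _ ⟨n, rfl⟩
    exact ⟨n, by
      show z' ^ n = g⁻¹ * z ^ n * g
      rw [show g⁻¹ * z ^ n * g = g⁻¹ * z ^ n * g⁻¹⁻¹ by rw [inv_inv], ← conj_zpow, inv_inv]⟩
  have hfix : ∀ v ∈ FixS hω hK (Subgroup.zpowers z), act hω hK g⁻¹ v ∈ FixS hω hK (Subgroup.zpowers z') := by
    intro v hv
    refine ⟨act_lt hω hK _ hv.1, fun w hw => ?_⟩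
    rw [← act_mul hω hK _ _ hv.1, show w * g⁻¹ = g⁻¹ * (g * w * g⁻¹) by group, act_mul hω hK _ _ hv.1,
      hv.2 _ (h1 w hw)]
  have hfix' : ∀ v ∈ FixS hω hK (Subgroup.zpowers z'), act hω hK g v ∈ FixS hω hK (Subgroup.zpowers z) := by
    intro v hv
    refine ⟨act_lt hω hK _ hv.1, fun w hw => ?_⟩
    rw [← act_mul hω hK _ _ hv.1, show w * g = g * (g⁻¹ * w * g) by group, act_mul hω hK _ _ hv.1,
      hv.2 _ (h2 w hw)]
  have hc' : (FixS hω hK (Subgroup.zpowers z')).ncard = 2 ^ 12 := by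
    rw [← hc]
    refine Set.ncard_congr (fun v _ => act hω hK g v) hfix' (fun a b ha hb e => ?_) fun v hv =>
      ⟨act hω hK g⁻¹ v, hfix v hv, act_inv' hω hK g hv.1⟩
    rw [← act_inv hω hK g ha.1, e, act_inv hω hK g hb.1]
  have hcd := hu.2 z' hzP hz'1 hc'
  refine ⟨act_lt hω hK g hu.1, fun v hv w hw => ?_⟩
  have h := congrArg (act hω hK g) (hcd.2 _ (hfix v hv) _ (hfix w hw))
  rw [(lin_act hω hK g).zero, act_br hω hK g hu.1 (br_lt (act_lt hω hK _ hv.1) (act_lt hω hK _ hw.1)),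
    act_br hω hK g (act_lt hω hK _ hv.1) (act_lt hω hK _ hw.1), act_inv' hω hK g hv.1,
    act_inv' hω hK g hw.1] at h
  exact h

variable {x y : twistedE6 K 2} (G₀ : Gens hω hK x y)

include G₀ in
theorem wPs_eq : WPs hω hK (square hω hK G₀) = Sp pB := by
  have hw := wp_ok
  simp only [wpOK, Bool.and_eq_true, List.all_eq_true] at hw
  obtain ⟨hAs, hB, hker, hall⟩ := hw
  have hlen : ∀ k < 8, (k = 1 ∨ k = 4 ∨ k = 6 ∨ k = 7) ∧ (lineFixB k).length = 12 ∨
      ¬(k = 1 ∨ k = 4 ∨ k = 6 ∨ k = 7) ∧ (lineFixB k).length = 18 := by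
    intro k hk
    interval_cases k <;> decide
  have hbasis : ∀ k < 8, basisOK (lineFixB k) = true := by
    intro k hk
    have := fix7_ok0
    interval_cases k
    all_goals first
      | (have h := fix7_ok0; simp only [fixOK, Bool.and_eq_true] at h; exact h.1)
      | (have h := fix7_ok1; simp only [fixOK, Bool.and_eq_true] at h; exact h.1)
      | (have h := fix7_ok2; simp only [fixOK, Bool.and_eq_true] at h; exact h.1)
      | (have h := fix7_ok3; simp only [fixOK, Bool.and_eq_true] at h; exact h.1)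
      | (have h := fix7_ok4; simp only [fixOK, Bool.and_eq_true] at h; exact h.1)
      | (have h := fix7_ok5; simp only [fixOK, Bool.and_eq_true] at h; exact h.1)
      | (have h := fix7_ok6; simp only [fixOK, Bool.and_eq_true] at h; exact h.1)
      | (have h := fix7_ok7; simp only [fixOK, Bool.and_eq_true] at h; exact h.1)
  have hcard : ∀ k < 8, (FixS hω hK (Subgroup.zpowers (lineEl x y k))).ncard = 2 ^ (lineFixB k).length :=
    fun k hk => card_eq (hbasis k hk) fun v => by rw [(G₀.line_fix hω hK k hk).1]; rfl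
  ext u
  constructor
  · intro hu
    refine ⟨hu.1, kerOK_spec hker (fun q hq => ?_) hu.1 fun q hq => ?_⟩
    · obtain ⟨r, -, rfl⟩ := List.mem_map.1 hq
      exact lin_red _
    · obtain ⟨r, hr, rfl⟩ := List.mem_map.1 hq
      have hr' := hAs r hr
      simp only [List.any_cons, List.any_nil, Bool.or_false, Bool.or_eq_true] at hr'
      have hk : r.1 = 1 ∨ r.1 = 4 ∨ r.1 = 6 ∨ r.1 = 7 := by
        rcases hr' with h | h | h | h <;> have := Nat.eq_of_beq_eq_true h <;> omega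
      have hk8 : r.1 < 8 := by omega
      have h12 : (lineFixB r.1).length = 12 := by
        rcases hlen r.1 hk8 with h | h
        · exact h.2
        · exact absurd hk h.1
      have := hu.2 _ (G₀.line_mem hω hK _ hk8) (G₀.line_ne_one hω hK _ hk8) (by rw [hcard _ hk8, h12])
      rw [(G₀.line_fix hω hK _ hk8).2] at this
      exact this.2
  · intro hu
    refine ⟨hu.1, fun z hz hz1 hc => ?_⟩
    obtain ⟨k, hk, hzk⟩ := G₀.exists_line hω hK hz hz1
    rw [hzk] at hc ⊢
    rw [hcard k hk] at hc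
    have hlen' := Nat.pow_right_injective (le_refl 2) hc
    have hA : k = 1 ∨ k = 4 ∨ k = 6 ∨ k = 7 := by
      rcases hlen k hk with h | h
      · exact h.1
      · omega
    rw [(G₀.line_fix hω hK k hk).2]
    refine ⟨hu.1, kills (lin_red _) (fun p hp => Nat.eq_of_beq_eq_true (hall k ?_ p hp)) hu.2⟩
    rcases hA with rfl | rfl | rfl | rfl <;> simp

include G₀ in
theorem line_rep : ∀ k < 8,
    ¬ IsCoatom (Subgroup.normalizer (Subgroup.zpowers (lineEl x y k) : Set (twistedE6 K 2))) := by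
  intro k hk
  have h7 : lineEl x y k ^ 7 = 1 := by
    cases k with
    | zero => exact G₀.hy7
    | succ k =>
      show (x * y ^ k) ^ 7 = 1
      rw [(G₀.hcomm.pow_right k).mul_pow, G₀.hx7, ← pow_mul, mul_comm, pow_mul, G₀.hy7, one_pow, one_mul]
  have hT := G₀.line_hasT hω hK k hk
  have hW := (G₀.line_fix hω hK k hk).2
  have hpres : ∀ g ∈ Subgroup.normalizer (Subgroup.zpowers (lineEl x y k) : Set (twistedE6 K 2)),
      Pres hω hK g (CDs hω hK (Subgroup.zpowers (lineEl x y k))) :=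
    fun g hg => pres_CDs hω hK (mem_normalizer_conj hg)
  have hR := powers_mem hω hK (by norm_num) hT h7
  have hz : ∀ X : BT, X = lineT.getD k oneT → ∀ wit : ℕ × ℕ, wit.1 = 0 →
      ∃ z ∈ Subgroup.zpowers (lineEl x y k), HasT hω hK z ([X].getD wit.1 oneT) := by
    rintro _ rfl ⟨a, b⟩ (rfl : a = 0)
    exact ⟨_, Subgroup.mem_zpowers _, hT⟩
  interval_cases k
  · exact not_coatom hω hK side7_ok0 hW hpres (hz _ rfl _ rfl) hR
  · exact not_coatom hω hK side7_ok1 hW hpres (hz _ rfl _ rfl) hR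
  · exact not_coatom hω hK side7_ok2 hW hpres (hz _ rfl _ rfl) hR
  · exact not_coatom hω hK side7_ok3 hW hpres (hz _ rfl _ rfl) hR
  · exact not_coatom hω hK side7_ok4 hW hpres (hz _ rfl _ rfl) hR
  · exact not_coatom hω hK side7_ok5 hW hpres (hz _ rfl _ rfl) hR
  · exact not_coatom hω hK side7_ok6 hW hpres (hz _ rfl _ rfl) hR
  · exact not_coatom hω hK side7_ok7 hW hpres (hz _ rfl _ rfl) hR

include G₀ in
theorem square_rep :
    ¬ IsCoatom (Subgroup.normalizer (square hω hK G₀ : Set (twistedE6 K 2))) := by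
  refine not_coatom hω hK side7P_ok (wPs_eq hω hK G₀) (fun g hg => pres_WPs hω hK hg) ?_ ?_
  · exact ⟨y, ⟨0, 1, by simp⟩, G₀.hy⟩
  · rintro _ ⟨i, j, rfl⟩
    rw [G₀.pow_mod hω hK]
    refine ⟨fun v => itT x7T (i % 7) (itT y7T (j % 7) v), ?_, fun v hv => ?_⟩
    · exact List.mem_flatMap.2 ⟨i % 7, List.mem_range.2 (Nat.mod_lt _ (by norm_num)),
        List.mem_map.2 ⟨j % 7, List.mem_range.2 (Nat.mod_lt _ (by norm_num)), rfl⟩⟩
    · rw [act_mul hω hK _ _ hv, pow_act_eq hω hK G₀.hy _ hv, pow_act_eq hω hK G₀.hx]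
      rw [← pow_act_eq hω hK G₀.hy _ hv]
      exact act_lt hω hK _ hv

section Transfer

variable {G : Type*} [Group G] [Finite G] {p : ℕ} [Fact p.Prime]

/-- It is enough to treat the subgroups of one Sylow subgroup. -/
theorem transfer (S₀ : Subgroup G) (hS : Nat.card S₀ = p ^ (Nat.card G).factorization p)
    (h : ∀ P ≤ S₀, P ≠ ⊥ → ¬ IsCoatom (Subgroup.normalizer (P : Set G)))
    (P : Subgroup G) (hP : IsPGroup p P) (hP1 : P ≠ ⊥) :
    ¬ IsCoatom (Subgroup.normalizer (P : Set G)) := by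
  obtain ⟨Q, hQ⟩ := hP.exists_le_sylow
  obtain ⟨c, hc⟩ := MulAction.exists_smul_eq G Q (Sylow.ofCard S₀ hS)
  refine not_coatom_conj P c (h _ ?_ fun e => hP1 ?_)
  · have h2 : ((c • Q : Sylow p G) : Subgroup G) = (Q : Subgroup G).map (MulAut.conj c).toMonoidHom := rfl
    rw [hc] at h2
    calc P.map (MulAut.conj c).toMonoidHom ≤ (Q : Subgroup G).map (MulAut.conj c).toMonoidHom :=
          Subgroup.map_mono hQ
      _ = S₀ := by rw [← h2]; rfl
  · exact (Subgroup.map_eq_bot_iff_of_injective _ (MulAut.conj c).injective).1 e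

/-- The Sylow exponent read off a product. -/
theorem factorization_split {n m k : ℕ} (hn : n = p ^ k * m) (hm : ¬ p ∣ m) : n.factorization p = k := by
  have hp : p.Prime := Fact.out
  have hm0 : m ≠ 0 := fun e => hm (e ▸ dvd_zero p)
  rw [hn, Nat.factorization_mul (pow_ne_zero _ hp.ne_zero) hm0, Finsupp.add_apply,
    hp.factorization_pow, Finsupp.single_eq_same, Nat.factorization_eq_zero_of_not_dvd hm, add_zero]

/-- A Sylow subgroup of prime order, with its normaliser not maximal, settles the prime. -/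
theorem transfer_prime {m : ℕ} (hn : Nat.card G = p * m) (hm : ¬ p ∣ m) {x : G} (hx : x ^ p = 1)
    (hx1 : x ≠ 1) (h : ¬ IsCoatom (Subgroup.normalizer (Subgroup.zpowers x : Set G)))
    (P : Subgroup G) (hP : IsPGroup p P) (hP1 : P ≠ ⊥) :
    ¬ IsCoatom (Subgroup.normalizer (P : Set G)) := by
  have hcard : Nat.card (Subgroup.zpowers x) = p := by
    rw [Nat.card_zpowers, orderOf_eq_prime hx hx1]
  refine transfer (Subgroup.zpowers x) ?_ (fun R hR hR1 => ?_) P hP hP1
  · rw [hcard, factorization_split (k := 1) (by rw [pow_one]; exact hn) hm, pow_one]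
  · have hd : Nat.card R ∣ p := hcard ▸ Subgroup.card_dvd_of_le hR
    rcases (Nat.dvd_prime Fact.out).1 hd with e | e
    · exact absurd (Subgroup.card_eq_one.1 e) hR1
    · rw [show R = Subgroup.zpowers x from Subgroup.eq_of_le_of_card_ge hR (by rw [e, hcard])]
      exact h

end Transfer

include hω hK in
theorem main (hcard : Nat.card (twistedE6 K 2) = 2 ^ 36 * 3 ^ 9 * 5 ^ 2 * 7 ^ 2 * 11 * 13 * 17 * 19)
    (p : ℕ) (hp : p.Prime) (h5 : 5 < p) (P : Subgroup (twistedE6 K 2)) (hP : IsPGroup p P)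
    (hP1 : P ≠ ⊥) : ¬ IsCoatom (Subgroup.normalizer (P : Set (twistedE6 K 2))) := by
  haveI : Fact p.Prime := ⟨hp⟩
  have hdvd : p ∣ Nat.card (twistedE6 K 2) := by
    obtain ⟨k, hk⟩ := IsPGroup.iff_card.1 hP
    have hk0 : k ≠ 0 := fun e => hP1 (Subgroup.card_eq_one.1 (by rw [hk, e, pow_zero]))
    exact (dvd_pow_self p hk0).trans (hk ▸ Subgroup.card_subgroup_dvd_card P)
  have hcases : p = 7 ∨ p = 11 ∨ p = 13 ∨ p = 17 ∨ p = 19 := by
    rw [hcard] at hdvd
    have hq : ∀ {q : ℕ}, q.Prime → p ∣ q → p = q := fun hq h => (Nat.prime_dvd_prime_iff_eq hp hq).1 h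
    simp only [hp.dvd_mul] at hdvd
    rcases hdvd with ((((((h | h) | h) | h) | h) | h) | h) | h
    · have := hq Nat.prime_two (hp.dvd_of_dvd_pow h); omega
    · have := hq Nat.prime_three (hp.dvd_of_dvd_pow h); omega
    · have := hq Nat.prime_five (hp.dvd_of_dvd_pow h); omega
    · exact Or.inl (hq (by norm_num) (hp.dvd_of_dvd_pow h))
    · exact Or.inr (Or.inl (hq (by norm_num) h))
    · exact Or.inr (Or.inr (Or.inl (hq (by norm_num) h)))
    · exact Or.inr (Or.inr (Or.inr (Or.inl (hq (by norm_num) h))))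
    · exact Or.inr (Or.inr (Or.inr (Or.inr (hq (by norm_num) h))))
  rcases hcases with rfl | rfl | rfl | rfl | rfl
  · obtain ⟨x, y, G₀⟩ := exists_gens hω hK
    refine transfer (square hω hK G₀) ?_ (fun R hR hR1 => ?_) P hP hP1
    · rw [G₀.card_square hω hK, factorization_split (k := 2)
        (m := 2 ^ 36 * 3 ^ 9 * 5 ^ 2 * 11 * 13 * 17 * 19) (by rw [hcard]; ring) (by norm_num)]
      norm_num
    · rcases G₀.subgroup_cases hω hK hR hR1 with rfl | ⟨k, hk, rfl⟩
      · exact square_rep hω hK G₀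
      · exact line_rep hω hK G₀ k hk
  · obtain ⟨x, h1, h2, h3⟩ := rep11 hω hK
    exact transfer_prime (m := 2 ^ 36 * 3 ^ 9 * 5 ^ 2 * 7 ^ 2 * 13 * 17 * 19) (by rw [hcard]; ring)
      (by norm_num) h1 h2 h3 P hP hP1
  · obtain ⟨x, h1, h2, h3⟩ := rep13 hω hK
    exact transfer_prime (m := 2 ^ 36 * 3 ^ 9 * 5 ^ 2 * 7 ^ 2 * 11 * 17 * 19) (by rw [hcard]; ring)
      (by norm_num) h1 h2 h3 P hP hP1
  · obtain ⟨x, h1, h2, h3⟩ := rep17 hω hK
    exact transfer_prime (m := 2 ^ 36 * 3 ^ 9 * 5 ^ 2 * 7 ^ 2 * 11 * 13 * 19) (by rw [hcard]; ring)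
      (by norm_num) h1 h2 h3 P hP hP1
  · obtain ⟨x, h1, h2, h3⟩ := rep19 hω hK
    exact transfer_prime (m := 2 ^ 36 * 3 ^ 9 * 5 ^ 2 * 7 ^ 2 * 11 * 13 * 17) (by rw [hcard]; ring)
      (by norm_num) h1 h2 h3 P hP hP1

end CfsgLib.TwoE6Local
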