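import Cfsg.Agent.Lib.TwoE6Local.Gen
import Cfsg.Agent.Lib.TwoE6Local.CheckFix
import Cfsg.Agent.Lib.TwoE6Local.CheckSide

/-!
The subgroups of the Sylow subgroup for seven.
-/

set_option autoImplicit false
set_option maxRecDepth 100000

namespace CfsgLib.TwoE6Local

open CfsgLib.Fi22E6 Cfsg.Lie

attribute [local irreducible] apT apA mulT oneT adA

variable {K : Type*} [Field K] [CharP K 2] [Fintype K] {ω : K}
variable (hω : ω * ω = ω + 1) (hK : Nat.card K = 4)

/-- the eight lines -/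
def lineEl {G : Type*} [Group G] (x y : G) : ℕ → G
  | 0 => y
  | k + 1 => x * y ^ k

/-- a basis of the fixed space of a line -/
def lineFixB (k : ℕ) : List (ℕ × ℕ) :=
  [cd7_0FixB, cd7_1FixB, cd7_2FixB, cd7_3FixB, cd7_4FixB, cd7_5FixB, cd7_6FixB, cd7_7FixB].getD k []

/-- a basis of the invariant of a line -/
def lineCdB (k : ℕ) : List (ℕ × ℕ) :=
  [cd7_0B, cd7_1B, cd7_2B, cd7_3B, cd7_4B, cd7_5B, cd7_6B, cd7_7B].getD k []

/-- the two generators -/
structure Gens (x y : twistedE6 K 2) : Prop where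
  hx : HasT hω hK x x7T
  hy : HasT hω hK y y7T
  hx7 : x ^ 7 = 1
  hy7 : y ^ 7 = 1
  hcomm : Commute x y
  hind : ∀ i < 7, x ^ i ≠ y

theorem exists_gens : ∃ x y : twistedE6 K 2, Gens hω hK x y := by
  obtain ⟨x, hx, hx7, -⟩ := exists_elem hω hK elem7_ok
  obtain ⟨y, hy, hy7, -⟩ := exists_elem hω hK elemY_ok
  have hc := line_ok
  simp only [lineOK, Bool.and_eq_true] at hc
  refine ⟨x, y, ⟨hx, hy, hx7, hy7, ?_, fun i hi e => ?_⟩⟩
  · have key : (y * x)⁻¹ * (x * y) = 1 := act_faithful hω hK fun v hv => by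
      have hyv : apT y7T v < 2 ^ 78 := by rw [← hy v hv]; exact act_lt hω hK y hv
      have hxv : apT x7T v < 2 ^ 78 := by rw [← hx v hv]; exact act_lt hω hK x hv
      have h1 : act hω hK (x * y) v = act hω hK (y * x) v := by
        rw [act_mul hω hK _ _ hv, act_mul hω hK _ _ hv, hy v hv, hx v hv, hx _ hyv, hy _ hxv]
        exact sameF_spec hc.2 ((lin_apT x7T).comp (lin_apT y7T)) ((lin_apT y7T).comp (lin_apT x7T)) v hv
      rw [act_mul hω hK _ _ hv, h1, ← act_mul hω hK _ _ hv, inv_mul_cancel, act_one hω hK hv]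
    rw [inv_mul_eq_one] at key
    exact key.symm
  · have h := allN_spec indep_ok i hi
    rw [differs, Bool.not_eq_true'] at h
    refine absurd ?_ (Bool.eq_false_iff.1 h)
    suffices H : ∀ n, n ≤ 78 → Nat.rec (motive := fun _ => Bool) true
        (fun j r => Nat.beq (itT x7T i (Nat.pow 2 j)) (apT y7T (Nat.pow 2 j)) && r) n = true from H 78 le_rfl
    intro n hn
    induction n with
    | zero => rfl
    | succ n ih =>
      show (Nat.beq _ _ && _) = true
      have hlt : 2 ^ n < 2 ^ 78 := Nat.pow_lt_pow_right (by norm_num) (by omega)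
      rw [Bool.and_eq_true]
      refine ⟨?_, ih (by omega)⟩
      show Nat.beq (itT x7T i (2 ^ n)) (apT y7T (2 ^ n)) = true
      rw [← pow_act_eq hω hK hx i hlt, e, hy _ hlt, Nat.beq_refl]

/-- the Sylow subgroup for seven -/
def square {x y : twistedE6 K 2} (G₀ : Gens hω hK x y) : Subgroup (twistedE6 K 2) where
  carrier := {z | ∃ i j, z = x ^ i * y ^ j}
  one_mem' := ⟨0, 0, by simp⟩
  mul_mem' := by
    rintro _ _ ⟨i, j, rfl⟩ ⟨i', j', rfl⟩
    exact ⟨i + i', j + j', by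
      rw [pow_add, pow_add, (G₀.hcomm.pow_pow i' j).symm.mul_mul_mul_comm]⟩
  inv_mem' := by
    rintro _ ⟨i, j, rfl⟩
    refine ⟨6 * i, 6 * j, inv_eq_of_mul_eq_one_right ?_⟩
    rw [(G₀.hcomm.pow_pow (6 * i) j).symm.mul_mul_mul_comm, ← pow_add, ← pow_add,
      show i + 6 * i = 7 * i by ring, show j + 6 * j = 7 * j by ring, pow_mul, pow_mul, G₀.hx7, G₀.hy7,
      one_pow, one_pow, one_mul]

variable {x y : twistedE6 K 2} (G₀ : Gens hω hK x y)

include G₀ in
theorem Gens.pow_mod (i j : ℕ) : x ^ i * y ^ j = x ^ (i % 7) * y ^ (j % 7) := by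
  conv_lhs => rw [← Nat.div_add_mod i 7, ← Nat.div_add_mod j 7, pow_add, pow_add, pow_mul, pow_mul,
    G₀.hx7, G₀.hy7, one_pow, one_pow, one_mul, one_mul]

include G₀ in
theorem Gens.inj {i j i' j' : ℕ} (hi : i < 7) (hj : j < 7) (hi' : i' < 7) (hj' : j' < 7)
    (e : x ^ i * y ^ j = x ^ i' * y ^ j') : i = i' ∧ j = j' := by
  haveI : Fact (Nat.Prime 7) := ⟨by norm_num⟩
  rcases eq_or_ne j j' with rfl | hne
  · have e' := mul_right_cancel e
    refine ⟨?_, rfl⟩
    by_contra hni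
    have hord : orderOf x = 7 := orderOf_eq_prime G₀.hx7 fun h1 => by
      refine G₀.hind 0 (by norm_num) ?_
      exfalso
      obtain ⟨z, hz, -, hz1⟩ := exists_elem hω hK elem7_ok
      refine hz1 ?_
      have hzx : ∀ v < 2 ^ 78, act hω hK z v = v := fun v hv => by
        rw [hz v hv, ← G₀.hx v hv, h1, act_one hω hK hv]
      exact act_faithful hω hK hzx
    rw [pow_eq_pow_iff_modEq, hord, Nat.ModEq, Nat.mod_eq_of_lt hi, Nat.mod_eq_of_lt hi'] at e'
    exact hni e'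
  · exfalso
    have e1 : y ^ (j + (7 - j')) = x ^ (i' + (7 - i)) := by
      have h := congrArg (fun z => x ^ (7 - i) * z * y ^ (7 - j')) e
      beta_reduce at h
      rw [← mul_assoc, ← mul_assoc, ← pow_add, ← pow_add, show 7 - i + i = 7 by omega, G₀.hx7, one_mul,
        mul_assoc (x ^ (7 - i + i')), ← pow_add, ← pow_add, show j' + (7 - j') = 7 by omega, G₀.hy7,
        mul_one] at h
      rw [h, add_comm]
    obtain ⟨a, ha⟩ : ∃ a, (j + (7 - j')) * a % 7 = 1 := by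
      have : (j + (7 - j')) % 7 ≠ 0 := by omega
      have hlt := Nat.mod_lt (j + (7 - j')) (show 7 > 0 by norm_num)
      obtain ⟨a, ha⟩ : ∃ a < 7, (j + (7 - j')) % 7 * a % 7 = 1 := by
        revert this hlt
        generalize (j + (7 - j')) % 7 = r
        intro h0 h7
        interval_cases r <;> first | omega | decide
      exact ⟨a, by rw [Nat.mul_mod, Nat.mod_eq_of_lt ha.1]; exact ha.2⟩
    refine G₀.hind ((i' + (7 - i)) * a % 7) (Nat.mod_lt _ (by norm_num)) ?_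
    have hm : ∀ (z : twistedE6 K 2) (k : ℕ), z ^ 7 = 1 → z ^ k = z ^ (k % 7) := fun z k hz => by
      conv_lhs => rw [← Nat.div_add_mod k 7, pow_add, pow_mul, hz, one_pow, one_mul]
    rw [← hm x _ G₀.hx7, pow_mul, ← e1, ← pow_mul, hm y _ G₀.hy7, ha, pow_one]

include G₀ in
theorem Gens.card_square : Nat.card (square hω hK G₀) = 49 := by
  have hb : Function.Bijective (fun q : Fin 7 × Fin 7 =>
      (⟨x ^ q.1.val * y ^ q.2.val, _, _, rfl⟩ : square hω hK G₀)) := by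
    constructor
    · rintro ⟨i, j⟩ ⟨i', j'⟩ e
      obtain ⟨h1, h2⟩ := G₀.inj hω hK i.2 j.2 i'.2 j'.2 (congrArg Subtype.val e)
      simp [Fin.ext h1, Fin.ext h2]
    · rintro ⟨_, i, j, rfl⟩
      exact ⟨(⟨i % 7, Nat.mod_lt _ (by norm_num)⟩, ⟨j % 7, Nat.mod_lt _ (by norm_num)⟩),
        Subtype.ext (G₀.pow_mod hω hK i j).symm⟩
  rw [← Nat.card_eq_of_bijective _ hb, Nat.card_prod, Nat.card_fin]

include G₀ in
theorem Gens.line_hasT : ∀ k < 8, HasT hω hK (lineEl x y k) (lineT.getD k oneT) := by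
  have h := line_ok
  simp only [lineOK, Bool.and_eq_true] at h
  intro k hk v hv
  cases k with
  | zero =>
    rw [sameF_spec h.1.1 (lin_apT _) (lin_apT _) v hv]
    exact G₀.hy v hv
  | succ k =>
    have hk' : k < 7 := by omega
    have hlt : itT y7T k v < 2 ^ 78 := by
      rw [← pow_act_eq hω hK G₀.hy k hv]; exact act_lt hω hK _ hv
    show act hω hK (x * y ^ k) v = _
    rw [act_mul hω hK _ _ hv, pow_act_eq hω hK G₀.hy k hv, G₀.hx _ hlt]
    exact (sameF_spec (allN_spec h.1.2 k hk') (lin_apT _) ((lin_apT x7T).comp (lin_itT y7T k)) v hv).symm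

include G₀ in
theorem Gens.line_mem : ∀ k < 8, lineEl x y k ∈ square hω hK G₀ := by
  intro k _
  cases k with
  | zero => exact ⟨0, 1, by simp [lineEl]⟩
  | succ k => exact ⟨1, k, by simp [lineEl]⟩

include G₀ in
theorem Gens.line_ne_one : ∀ k < 8, lineEl x y k ≠ 1 := by
  intro k hk e
  cases k with
  | zero => exact G₀.hind 0 (by norm_num) (by rw [pow_zero]; exact e.symm)
  | succ k =>
    have := G₀.inj hω hK (i := 1) (j := k) (i' := 0) (j' := 0) (by norm_num) (by omega) (by norm_num)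
      (by norm_num) (by rw [pow_one, pow_zero, pow_zero, mul_one]; exact e)
    omega

include G₀ in
theorem Gens.line_fix : ∀ k < 8,
    FixS hω hK (Subgroup.zpowers (lineEl x y k)) = Sp (lineFixB k) ∧
      CDs hω hK (Subgroup.zpowers (lineEl x y k)) = Sp (lineCdB k) := by
  intro k hk
  have hT := G₀.line_hasT hω hK k hk
  interval_cases k
  · exact ⟨fixS_eq hω hK hT fix7_ok0, cdS_eq hω hK (fixS_eq hω hK hT fix7_ok0) cd7_ok0⟩
  · exact ⟨fixS_eq hω hK hT fix7_ok1, cdS_eq hω hK (fixS_eq hω hK hT fix7_ok1) cd7_ok1⟩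
  · exact ⟨fixS_eq hω hK hT fix7_ok2, cdS_eq hω hK (fixS_eq hω hK hT fix7_ok2) cd7_ok2⟩
  · exact ⟨fixS_eq hω hK hT fix7_ok3, cdS_eq hω hK (fixS_eq hω hK hT fix7_ok3) cd7_ok3⟩
  · exact ⟨fixS_eq hω hK hT fix7_ok4, cdS_eq hω hK (fixS_eq hω hK hT fix7_ok4) cd7_ok4⟩
  · exact ⟨fixS_eq hω hK hT fix7_ok5, cdS_eq hω hK (fixS_eq hω hK hT fix7_ok5) cd7_ok5⟩
  · exact ⟨fixS_eq hω hK hT fix7_ok6, cdS_eq hω hK (fixS_eq hω hK hT fix7_ok6) cd7_ok6⟩
  · exact ⟨fixS_eq hω hK hT fix7_ok7, cdS_eq hω hK (fixS_eq hω hK hT fix7_ok7) cd7_ok7⟩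

include G₀ in
/-- A nontrivial element of the square generates a line. -/
theorem Gens.exists_line {z : twistedE6 K 2} (hz : z ∈ square hω hK G₀) (hz1 : z ≠ 1) :
    ∃ k < 8, Subgroup.zpowers z = Subgroup.zpowers (lineEl x y k) := by
  haveI : Fact (Nat.Prime 7) := ⟨by norm_num⟩
  obtain ⟨i, j, rfl⟩ := hz
  have h7 : (x ^ i * y ^ j) ^ 7 = 1 := by
    rw [(G₀.hcomm.pow_pow i j).mul_pow, ← pow_mul, ← pow_mul, mul_comm i, mul_comm j, pow_mul, pow_mul,
      G₀.hx7, G₀.hy7, one_pow, one_pow, one_mul]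
  have hcard : Nat.card (Subgroup.zpowers (x ^ i * y ^ j)) = 7 := by
    rw [Nat.card_zpowers, orderOf_eq_prime h7 hz1]
  suffices H : ∃ k < 8, lineEl x y k ∈ Subgroup.zpowers (x ^ i * y ^ j) by
    obtain ⟨k, hk, hmem⟩ := H
    exact ⟨k, hk, eq_zpowers_of_card hcard hmem (G₀.line_ne_one hω hK k hk)⟩
  have hinv : ∀ r, r % 7 ≠ 0 → ∃ a, r * a % 7 = 1 := fun r hr => by
    have hlt := Nat.mod_lt r (show 7 > 0 by norm_num)
    obtain ⟨a, ha⟩ : ∃ a < 7, r % 7 * a % 7 = 1 := by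
      revert hr hlt
      generalize r % 7 = s
      intro h0 h7
      interval_cases s <;> first | omega | decide
    exact ⟨a, by rw [Nat.mul_mod, Nat.mod_eq_of_lt ha.1]; exact ha.2⟩
  have hpow : ∀ a, (x ^ i * y ^ j) ^ a = x ^ (i * a % 7) * y ^ (j * a % 7) := fun a => by
    rw [(G₀.hcomm.pow_pow i j).mul_pow, ← pow_mul, ← pow_mul]
    exact G₀.pow_mod hω hK _ _
  rcases Nat.eq_zero_or_pos (i % 7) with hi | hi
  · have hj : j % 7 ≠ 0 := fun hj => hz1 (by rw [G₀.pow_mod hω hK, hi, hj, pow_zero, pow_zero, mul_one])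
    obtain ⟨a, ha⟩ := hinv j hj
    refine ⟨0, by norm_num, ?_⟩
    have : (x ^ i * y ^ j) ^ a = y := by
      rw [hpow, ha, pow_one, Nat.mul_mod, hi, Nat.zero_mul, Nat.zero_mod, pow_zero, one_mul]
    exact ⟨(a : ℤ), (zpow_natCast _ a).trans this⟩
  · obtain ⟨a, ha⟩ := hinv i hi.ne'
    refine ⟨j * a % 7 + 1, by omega, ?_⟩
    have : (x ^ i * y ^ j) ^ a = lineEl x y (j * a % 7 + 1) := by
      rw [hpow, ha, pow_one]; rfl
    exact ⟨(a : ℤ), (zpow_natCast _ a).trans this⟩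

include G₀ in
theorem Gens.subgroup_cases {P : Subgroup (twistedE6 K 2)} (hle : P ≤ square hω hK G₀) (h1 : P ≠ ⊥) :
    P = square hω hK G₀ ∨ ∃ k < 8, P = Subgroup.zpowers (lineEl x y k) := by
  have hd : Nat.card P ∣ 7 ^ 2 := by
    rw [show 7 ^ 2 = 49 by norm_num, ← G₀.card_square hω hK]
    exact Subgroup.card_dvd_of_le hle
  haveI : Fact (Nat.Prime 7) := ⟨by norm_num⟩
  obtain ⟨e, he, hcard⟩ := (Nat.dvd_prime_pow (Fact.out : Nat.Prime 7)).1 hd
  interval_cases e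
  · exact absurd (Subgroup.card_eq_one.1 (by simpa using hcard)) h1
  · right
    obtain ⟨z, hz, hz1⟩ := (Subgroup.bot_or_exists_ne_one P).resolve_left h1
    obtain ⟨k, hk, hzk⟩ := G₀.exists_line hω hK (hle hz) hz1
    exact ⟨k, hk, (eq_zpowers_of_card (by simpa using hcard) hz hz1).trans hzk⟩
  · left
    exact Subgroup.eq_of_le_of_card_ge hle (by rw [hcard, G₀.card_square hω hK]; norm_num)

end CfsgLib.TwoE6Local
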