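import Cfsg.Agent.Lib.Fi22E6.Bits

/-!
Coded vectors over the field with two elements: linear maps, spans and kernels.
-/

set_option autoImplicit false

namespace CfsgLib.TwoE6Local

open CfsgLib.Fi22E6

/-- a bilinear map as a tree of matrices -/
inductive AT where
  | leaf (t : BT)
  | node (s : ℕ) (a b : AT)

/-- the zero bilinear map -/
def zeroA : ℕ → AT
  | 0 => .leaf (.leaf 0)
  | d + 1 => .node (2 ^ d) (zeroA d) (zeroA d)

/-- the value of a bilinear map -/
noncomputable def apA (t : AT) : ℕ → ℕ → ℕ :=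
  AT.rec (motive := fun _ => ℕ → ℕ → ℕ) (fun B u v => bif Nat.testBit u 0 then apT B v else 0)
    (fun s _ _ fa fb u v => bif Nat.beq u 0 then 0 else
      Nat.xor (fa (Nat.land u (Nat.sub (Nat.pow 2 s) 1)) v) (fb (Nat.shiftRight u s) v)) t

/-- additive maps for exclusive or -/
def Lin (f : ℕ → ℕ) : Prop := ∀ v w, f (v ^^^ w) = f v ^^^ f w

theorem lin_apT (t : BT) : Lin (apT t) := apT_xor t

theorem Lin.zero {f : ℕ → ℕ} (hf : Lin f) : f 0 = 0 := by
  have := hf 0 0
  rwa [Nat.xor_self, Nat.xor_self] at this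

theorem Lin.comp {f g : ℕ → ℕ} (hf : Lin f) (hg : Lin g) : Lin fun v => f (g v) := fun v w => by
  show f (g (v ^^^ w)) = _
  rw [hg, hf]

theorem lin_id : Lin fun v => v := fun _ _ => rfl

theorem Lin.xor {f g : ℕ → ℕ} (hf : Lin f) (hg : Lin g) : Lin fun v => f v ^^^ g v := fun v w => by
  show f (v ^^^ w) ^^^ g (v ^^^ w) = _
  rw [hf, hg, Nat.xor_assoc, Nat.xor_assoc]
  congr 1
  rw [← Nat.xor_assoc, Nat.xor_comm (f w), Nat.xor_assoc]

theorem lin_zero : Lin fun _ => 0 := fun _ _ => (Nat.xor_self 0).symm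

theorem Lin.iterate {f : ℕ → ℕ} (hf : Lin f) : ∀ n : ℕ, Lin f^[n]
  | 0 => lin_id
  | n + 1 => by
    rw [Function.iterate_succ]
    exact (Lin.iterate hf n).comp hf

/-- Additive maps that agree on the unit vectors agree. -/
theorem Lin.ext {f g : ℕ → ℕ} (hf : Lin f) (hg : Lin g) : ∀ {n : ℕ}, (∀ k < n, f (2 ^ k) = g (2 ^ k)) →
    ∀ v < 2 ^ n, f v = g v
  | 0, _, v, hv => by
    obtain rfl : v = 0 := by simpa using hv
    rw [hf.zero, hg.zero]
  | n + 1, h, v, hv => by
    have ih := Lin.ext hf hg (n := n) fun k hk => h k (by omega)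
    rcases lt_or_ge v (2 ^ n) with hl | hl
    · exact ih v hl
    · have hd : v = 2 ^ n ^^^ (v - 2 ^ n) := by
        have h2 : v - 2 ^ n < 2 ^ n := by rw [pow_succ] at hv; omega
        refine Nat.eq_of_testBit_eq fun i => ?_
        conv_lhs => rw [← Nat.add_sub_cancel' hl]
        rw [Nat.testBit_xor, Nat.testBit_two_pow]
        rcases lt_trichotomy i n with hi | rfl | hi
        · rw [Nat.testBit_two_pow_add_gt hi]; simp [hi.ne']
        · rw [Nat.testBit_two_pow_add_eq, Nat.testBit_lt_two_pow h2]; simp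
        · rw [Nat.testBit_lt_two_pow (show 2 ^ n + (v - 2 ^ n) < 2 ^ i from
              (by omega : 2 ^ n + (v - 2 ^ n) < 2 ^ (n + 1)).trans_le (Nat.pow_le_pow_right (by norm_num) hi)),
            Nat.testBit_lt_two_pow (h2.trans_le (Nat.pow_le_pow_right (by norm_num) hi.le))]
          simp [hi.ne]
      rw [hd, hf, hg, h n (by omega), ih _ (by rw [pow_succ] at hv; omega)]

theorem lin_apA_right (t : AT) (u : ℕ) : Lin (apA t u) := by
  induction t generalizing u with
  | leaf B =>
    show Lin fun v => bif u.testBit 0 then apT B v else 0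
    cases u.testBit 0
    · exact lin_zero
    · exact lin_apT B
  | node s a b iha ihb =>
    show Lin fun v => bif Nat.beq u 0 then 0 else _
    cases Nat.beq u 0
    · exact (iha _).xor (ihb _)
    · exact lin_zero

theorem apA_zero (t : AT) (v : ℕ) : apA t 0 v = 0 := by cases t <;> rfl

theorem apA_split (s : ℕ) (a b : AT) (u v : ℕ) :
    apA (.node s a b) u v = apA a (u % 2 ^ s) v ^^^ apA b (u >>> s) v := by
  rcases eq_or_ne u 0 with rfl | hu
  · rw [apA_zero, Nat.zero_mod, Nat.zero_shiftRight, apA_zero, apA_zero, Nat.xor_self]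
  · show (bif Nat.beq u 0 then 0 else _) = _
    rw [show Nat.beq u 0 = false by
      cases h : Nat.beq u 0
      · rfl
      · exact absurd (Nat.eq_of_beq_eq_true h) hu, cond_false]
    show apA a (u &&& (2 ^ s - 1)) v ^^^ _ = _
    rw [Nat.and_two_pow_sub_one_eq_mod]
    rfl

theorem lin_apA_left (t : AT) (v : ℕ) : Lin fun u => apA t u v := by
  induction t with
  | leaf B =>
    intro u u'
    show (bif (u ^^^ u').testBit 0 then apT B v else 0) =
      (bif u.testBit 0 then apT B v else 0) ^^^ (bif u'.testBit 0 then apT B v else 0)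
    rw [Nat.testBit_xor]
    cases u.testBit 0 <;> cases u'.testBit 0 <;> simp
  | node s a b iha ihb =>
    intro u u'
    show apA (.node s a b) (u ^^^ u') v = apA (.node s a b) u v ^^^ apA (.node s a b) u' v
    rw [apA_split, apA_split, apA_split, Nat.xor_mod_two_pow, Nat.shiftRight_xor_distrib,
      show apA a (u % 2 ^ s ^^^ u' % 2 ^ s) v = _ from iha _ _,
      show apA b (u >>> s ^^^ u' >>> s) v = _ from ihb _ _, Nat.xor_assoc, Nat.xor_assoc]
    congr 1
    rw [← Nat.xor_assoc, Nat.xor_comm (apA a _ _), Nat.xor_assoc]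

/-- reduction by a list of pivots and vectors -/
noncomputable def red : List (ℕ × ℕ) → ℕ → ℕ
  | [], v => v
  | p :: B, v => red B (bif Nat.testBit v p.1 then Nat.xor v p.2 else v)

theorem lin_red : ∀ B : List (ℕ × ℕ), Lin (red B)
  | [] => lin_id
  | p :: B => by
    intro v w
    show red B _ = red B _ ^^^ red B _
    rw [← lin_red B]
    congr 1
    rw [Nat.testBit_xor]
    cases v.testBit p.1 <;> cases w.testBit p.1
    · rfl
    · exact Nat.xor_assoc _ _ _
    · show (v ^^^ w) ^^^ p.2 = (v ^^^ p.2) ^^^ w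
      rw [Nat.xor_assoc, Nat.xor_comm w, Nat.xor_assoc]
    · show v ^^^ w = (v ^^^ p.2) ^^^ (w ^^^ p.2)
      rw [Nat.xor_comm w p.2, ← Nat.xor_assoc, Nat.xor_assoc v p.2 p.2, Nat.xor_self, Nat.xor_zero]

/-- An additive map killing the vectors is unchanged by reduction. -/
theorem map_red {f : ℕ → ℕ} (hf : Lin f) : ∀ {B : List (ℕ × ℕ)}, (∀ p ∈ B, f p.2 = 0) →
    ∀ v, f (red B v) = f v
  | [], _, _ => rfl
  | p :: B, h, v => by
    show f (red B _) = f v
    rw [map_red hf fun q hq => h q (List.mem_cons_of_mem _ hq)]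
    cases v.testBit p.1
    · rfl
    · show f (v ^^^ p.2) = f v
      rw [hf, h p List.mem_cons_self, Nat.xor_zero]

/-- An additive map killing the vectors kills their span. -/
theorem kills {f : ℕ → ℕ} (hf : Lin f) {B : List (ℕ × ℕ)} (h : ∀ p ∈ B, f p.2 = 0) {v : ℕ}
    (hv : red B v = 0) : f v = 0 := by
  rw [← map_red hf h v, hv, hf.zero]

/-- the sum of the images under the listed maps -/
noncomputable def sumMaps : List ((ℕ → ℕ) × BT) → ℕ → ℕ
  | [], _ => 0
  | q :: L, v => Nat.xor (apT q.2 (q.1 v)) (sumMaps L v)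

theorem lin_sumMaps : ∀ L : List ((ℕ → ℕ) × BT), (∀ q ∈ L, Lin q.1) → Lin (sumMaps L)
  | [], _ => lin_zero
  | q :: L, h =>
    ((lin_apT q.2).comp (h q List.mem_cons_self)).xor
      (lin_sumMaps L fun r hr => h r (List.mem_cons_of_mem _ hr))

/-- a common kernel lies in a span -/
noncomputable def kerOK (L : List ((ℕ → ℕ) × BT)) (B : List (ℕ × ℕ)) : Bool :=
  Nat.rec (motive := fun _ => Bool) true
    (fun j r => Nat.beq (sumMaps L (Nat.pow 2 j)) (red B (Nat.pow 2 j)) && r) 78

theorem kerOK_spec {L : List ((ℕ → ℕ) × BT)} {B : List (ℕ × ℕ)} (h : kerOK L B = true)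
    (hL : ∀ q ∈ L, Lin q.1) {v : ℕ} (hv : v < 2 ^ 78) (h0 : ∀ q ∈ L, q.1 v = 0) : red B v = 0 := by
  have he : sumMaps L v = red B v := (lin_sumMaps L hL).ext (lin_red B) (n := 78)
    (fun k hk => Nat.eq_of_beq_eq_true
      (rec_all (f := fun j => Nat.beq (sumMaps L (Nat.pow 2 j)) (red B (Nat.pow 2 j))) h k hk)) v hv
  rw [← he]
  clear he h hL
  induction L with
  | nil => rfl
  | cons q L ih =>
    show apT q.2 (q.1 v) ^^^ sumMaps L v = 0
    rw [h0 q List.mem_cons_self, apT_zero, ih fun r hr => h0 r (List.mem_cons_of_mem _ hr), Nat.xor_self]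

/-- the pivots are proper: the vectors form a reduced basis -/
noncomputable def basisOK : List (ℕ × ℕ) → Bool
  | [] => true
  | p :: B => Nat.blt p.2 (Nat.pow 2 78) && (Nat.testBit p.2 p.1 && (B.all (fun q => !Nat.testBit q.2 p.1) && basisOK B))

/-- the span of a list -/
def spanF : List (ℕ × ℕ) → Finset ℕ
  | [] => {0}
  | p :: B => spanF B ∪ (spanF B).image (p.2 ^^^ ·)

theorem basisOK_cons {p : ℕ × ℕ} {B : List (ℕ × ℕ)} (h : basisOK (p :: B) = true) :
    p.2 < 2 ^ 78 ∧ p.2.testBit p.1 = true ∧ (∀ q ∈ B, q.2.testBit p.1 = false) ∧ basisOK B = true := by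
  simp only [basisOK, Bool.and_eq_true, Nat.blt_eq, List.all_eq_true, Bool.not_eq_true'] at h
  exact ⟨h.1, h.2.1, h.2.2.1, h.2.2.2⟩

theorem spanF_bit {i : ℕ} : ∀ {B : List (ℕ × ℕ)}, (∀ q ∈ B, q.2.testBit i = false) →
    ∀ v ∈ spanF B, v.testBit i = false
  | [], _, v, hv => by simp [spanF] at hv; simp [hv]
  | p :: B, h, v, hv => by
    have ih := spanF_bit (B := B) fun q hq => h q (List.mem_cons_of_mem _ hq)
    simp only [spanF, Finset.mem_union, Finset.mem_image] at hv
    rcases hv with hv | ⟨w, hw, rfl⟩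
    · exact ih v hv
    · rw [Nat.testBit_xor, h p List.mem_cons_self, ih w hw]; rfl

theorem mem_spanF : ∀ {B : List (ℕ × ℕ)}, basisOK B = true → ∀ v,
    v ∈ spanF B ↔ red B v = 0
  | [], _, v => by simp [spanF, red]
  | p :: B, h, v => by
    obtain ⟨-, hp, hB, hok⟩ := basisOK_cons h
    simp only [spanF, Finset.mem_union, Finset.mem_image, mem_spanF hok]
    show _ ↔ red B (bif v.testBit p.1 then v ^^^ p.2 else v) = 0
    constructor
    · rintro (hv | ⟨w, hw, rfl⟩)
      · rw [spanF_bit hB v ((mem_spanF hok v).2 hv)]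
        exact hv
      · rw [Nat.testBit_xor, hp, spanF_bit hB w ((mem_spanF hok w).2 hw)]
        show red B ((p.2 ^^^ w) ^^^ p.2) = 0
        rw [Nat.xor_comm p.2 w, Nat.xor_assoc, Nat.xor_self, Nat.xor_zero, hw]
    · intro hv
      cases hb : v.testBit p.1
      · rw [hb] at hv; exact Or.inl hv
      · rw [hb] at hv
        exact Or.inr ⟨v ^^^ p.2, hv, by rw [Nat.xor_comm v, ← Nat.xor_assoc, Nat.xor_self, Nat.zero_xor]⟩

theorem card_spanF : ∀ {B : List (ℕ × ℕ)}, basisOK B = true → (spanF B).card = 2 ^ B.length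
  | [], _ => rfl
  | p :: B, h => by
    obtain ⟨-, hp, hB, hok⟩ := basisOK_cons h
    rw [spanF, Finset.card_union_of_disjoint, Finset.card_image_of_injective _
      (fun a b e => by simpa using congrArg (p.2 ^^^ ·) e), card_spanF hok, List.length_cons, pow_succ]
    · omega
    · rw [Finset.disjoint_left]
      rintro v hv hv'
      obtain ⟨w, hw, rfl⟩ := Finset.mem_image.1 hv'
      have h1 := spanF_bit hB _ hv
      rw [Nat.testBit_xor, hp, spanF_bit hB w hw] at h1
      exact absurd h1 (by simp)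

theorem spanF_lt : ∀ {B : List (ℕ × ℕ)}, basisOK B = true → ∀ v ∈ spanF B, v < 2 ^ 78
  | [], _, v, hv => by simp [spanF] at hv; simp [hv]
  | p :: B, h, v, hv => by
    obtain ⟨hlt, -, -, hok⟩ := basisOK_cons h
    simp only [spanF, Finset.mem_union, Finset.mem_image] at hv
    rcases hv with hv | ⟨w, hw, rfl⟩
    · exact spanF_lt hok v hv
    · exact Nat.xor_lt_two_pow hlt (spanF_lt hok w hw)

/-- The kernel of maps, when a basis is certified, has a power of two as size. -/
theorem card_eq {B : List (ℕ × ℕ)} (h : basisOK B = true) {S : Set ℕ}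
    (hS : ∀ v, v ∈ S ↔ v < 2 ^ 78 ∧ red B v = 0) : S.ncard = 2 ^ B.length := by
  rw [← card_spanF h, ← Set.ncard_coe_finset]
  congr 1
  ext v
  rw [hS, Finset.mem_coe, mem_spanF h]
  exact ⟨fun hv => hv.2, fun hv => ⟨spanF_lt h v ((mem_spanF h v).2 hv), hv⟩⟩

end CfsgLib.TwoE6Local
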